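import Cfsg.Agent.MathieuIso.Cert
import Cfsg.Agent.Mathieu.M24

/-! Certificate data for subgroups of M11. -/

set_option autoImplicit false

namespace CfsgLib.MathieuIso

/-- A straight-line program from the seeds of M11. -/
def progIso : List (Bool × ℕ × ℕ × List ℕ) := [
  (false, 1, 2, [0,18,16,9,8,19,13,20,1,4,22,17,2,12,14,7,3,15,6,23,5,11,21,10]),
  (false, 2, 3, [0,4,6,2,18,11,3,22,9,13,21,17,12,8,10,15,16,5,1,7,20,14,19,23]),
  (false, 2, 4, [0,13,1,12,4,14,16,21,2,3,19,17,8,18,23,5,6,20,9,15,22,10,11,7]),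
  (false, 1, 5, [0,8,13,16,6,17,9,21,4,12,11,15,2,1,22,7,3,19,18,20,5,14,23,10]),
  (false, 1, 6, [0,2,8,9,3,15,18,21,6,16,23,20,4,13,5,10,12,11,1,19,7,17,22,14]),
  (false, 2, 7, [0,12,18,2,16,5,4,19,1,6,7,22,13,3,20,23,8,14,9,11,15,17,21,10]),
  (false, 1, 8, [0,16,1,4,9,7,6,11,13,3,10,5,8,12,19,22,2,17,18,23,20,15,21,14]),
  (false, 2, 9, [0,6,9,13,2,15,1,14,3,16,23,20,18,8,11,21,12,17,4,7,22,5,19,10]),
  (false, 2, 10, [0,1,2,3,12,5,9,10,16,6,7,22,4,18,14,19,8,17,13,15,21,20,11,23]),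
  (false, 2, 1, [0,3,13,8,1,15,16,23,12,4,10,7,6,18,17,22,2,5,9,14,11,19,20,21]),
  (false, 2, 12, [0,16,3,18,9,5,6,7,8,13,23,15,1,4,17,21,12,20,2,10,14,11,22,19]),
  (false, 1, 13, [0,9,12,1,18,7,3,10,2,8,22,20,13,6,15,21,16,19,4,14,17,23,5,11]),
  (false, 1, 14, [0,18,16,13,1,10,12,14,4,2,5,19,8,3,20,21,9,11,6,17,15,22,7,23]),
  (false, 2, 15, [0,4,6,3,9,23,8,10,13,12,20,11,18,16,22,19,2,14,1,17,5,21,15,7]),
  (false, 1, 16, [0,6,3,12,18,22,2,14,8,16,19,23,1,9,5,11,4,17,13,15,7,21,20,10]),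
  (false, 1, 17, [0,3,12,16,1,5,4,17,2,9,11,22,13,18,7,23,6,15,8,20,10,21,19,14]),
  (false, 1, 18, [0,12,16,9,13,7,6,15,4,18,23,5,8,1,10,22,3,20,2,19,14,21,11,17]),
  (false, 2, 19, [0,8,6,2,3,15,1,5,13,4,7,20,18,9,23,21,16,22,12,11,10,19,14,17]),
  (false, 2, 20, [0,18,1,12,16,5,9,20,3,13,15,22,4,2,7,19,6,21,8,14,23,11,10,17]),
  (false, 1, 3, [0,1,9,18,2,11,8,19,13,6,5,15,4,16,17,10,12,20,3,22,7,23,21,14]),
  (false, 2, 22, [0,9,2,4,12,14,18,11,3,1,20,5,13,6,17,23,8,22,16,21,15,7,19,10]),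
  (false, 1, 23, [0,18,4,6,16,17,1,23,12,13,19,7,8,3,15,22,2,5,9,21,20,10,11,14]),
  (false, 2, 24, [0,4,13,1,6,17,9,7,8,3,11,15,18,16,5,21,12,20,2,19,22,23,14,10]),
  (false, 2, 25, [0,13,3,9,1,17,2,15,18,16,14,5,4,6,20,19,8,22,12,11,21,7,10,23]),
  (false, 1, 26, [0,8,12,18,13,15,4,20,1,9,17,7,6,3,19,11,2,5,16,23,21,10,14,22]),
  (false, 2, 27, [0,18,8,4,3,5,13,22,9,2,17,15,1,16,11,14,12,20,6,7,19,23,10,21]),
  (false, 1, 28, [0,1,2,6,12,7,8,5,18,4,15,20,13,9,23,17,16,19,3,10,11,22,14,21]),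
  (false, 1, 12, [0,12,8,2,13,20,9,22,16,6,14,10,3,1,15,5,4,7,18,17,23,11,19,21]),
  (false, 1, 30, [0,16,2,4,8,19,18,5,9,3,17,14,12,13,20,7,6,10,1,15,22,23,11,21]),
  (false, 2, 31, [0,6,12,13,18,11,4,20,2,16,17,10,8,3,22,15,1,23,9,5,21,7,14,19]),
  (false, 1, 32, [0,3,16,8,1,23,6,19,4,9,15,14,2,12,5,20,13,22,18,7,21,10,17,11]),
  (false, 1, 33, [0,12,9,2,13,22,3,11,6,18,20,17,4,16,7,19,8,5,1,10,21,14,15,23]),
  (false, 2, 34, [0,8,2,12,3,21,16,14,1,4,22,17,13,6,15,11,18,20,9,23,19,10,5,7]),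
  (false, 2, 35, [0,18,12,8,16,19,6,10,9,13,21,17,3,1,5,14,4,22,2,7,11,23,20,15]),
  (false, 2, 36, [0,4,8,18,6,11,1,23,2,3,19,17,16,9,20,10,13,21,12,15,14,7,22,5]),
  (false, 1, 37, [0,6,2,1,3,23,13,22,4,12,11,15,9,18,19,14,8,21,16,20,17,10,5,7]),
  (false, 1, 38, [0,3,4,13,12,22,8,5,6,16,23,20,18,1,11,17,2,21,9,19,15,14,7,10]),
  (false, 1, 39, [0,12,6,8,16,5,2,7,3,9,22,19,1,13,23,15,4,21,18,11,20,17,10,14]),
  (false, 2, 13, [0,6,16,4,2,20,1,15,18,3,7,5,9,13,17,19,8,22,12,23,10,14,21,11]),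
  (false, 1, 41, [0,3,9,6,4,19,13,20,1,12,10,7,18,8,15,11,2,5,16,22,14,17,21,23]),
  (false, 2, 42, [0,16,2,1,13,11,3,22,9,8,23,15,4,18,5,14,12,20,6,21,10,17,19,7]),
  (false, 1, 43, [0,9,4,13,8,23,12,5,18,2,22,20,6,1,7,17,16,19,3,21,14,15,11,10]),
  (false, 1, 44, [0,18,6,8,2,22,16,7,1,4,5,19,3,13,10,15,9,11,12,21,17,20,23,14]),
  (false, 1, 45, [0,1,3,2,4,5,9,10,13,6,7,11,12,8,14,20,18,23,16,21,15,19,22,17]),
  (false, 1, 1, [0,8,6,16,3,10,12,14,4,1,17,22,9,2,15,19,18,20,13,23,11,21,7,5]),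
  (false, 1, 47, [0,2,3,9,12,14,16,17,6,13,15,5,18,4,20,11,1,19,8,22,23,21,10,7]),
  (false, 2, 48, [0,12,16,2,8,10,6,17,1,3,5,20,4,13,22,14,9,11,18,21,7,19,23,15]),
  (false, 1, 49, [0,16,9,4,2,14,3,15,13,12,7,19,6,8,5,17,18,23,1,21,10,11,22,20]),
  (false, 1, 50, [0,9,18,6,4,17,12,20,8,16,10,11,3,2,7,15,1,22,13,21,14,23,5,19]),
  (false, 1, 51, [0,18,1,3,6,15,16,19,2,9,14,23,12,4,10,20,13,5,8,21,17,22,7,11]),
  (false, 1, 52, [0,1,13,12,3,20,9,11,4,18,17,22,16,6,14,19,8,7,2,21,15,5,10,23]),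
  (false, 1, 53, [0,13,8,16,12,19,18,23,6,1,15,5,9,3,17,11,2,10,4,21,20,7,14,22]),
  (false, 2, 54, [0,3,18,6,8,11,4,7,1,9,5,20,2,16,17,14,12,23,13,19,22,15,10,21]),
  (false, 2, 55, [0,16,4,1,18,14,13,15,9,2,20,22,12,6,17,10,8,7,3,11,21,5,23,19]),
  (false, 1, 56, [0,9,6,13,1,17,8,20,18,4,19,5,16,3,15,14,2,10,12,23,21,7,22,11]),
  (false, 2, 57, [0,2,1,3,9,17,18,22,4,13,11,20,6,16,5,10,12,23,8,7,19,15,21,14]),
  (false, 1, 31, [0,9,4,6,2,11,1,7,18,12,15,17,16,8,19,10,3,14,13,20,5,22,23,21]),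
  (false, 1, 59, [0,18,6,3,4,23,13,10,1,16,20,15,9,2,11,14,12,17,8,19,7,5,22,21]),
  (false, 1, 60, [0,1,3,12,6,22,8,14,13,9,19,20,18,4,23,17,16,15,2,11,10,7,5,21]),
  (false, 2, 61, [0,9,16,8,1,21,18,10,3,2,11,22,4,13,7,17,6,5,12,14,23,15,20,19]),
  (false, 2, 62, [0,2,6,18,9,19,4,23,16,12,14,21,13,3,15,17,1,20,8,10,7,5,22,11]),
  (false, 2, 63, [0,12,1,4,2,11,13,7,6,8,10,19,3,16,5,17,9,22,18,23,15,20,21,14]),
  (false, 2, 64, [0,8,9,13,12,14,3,15,1,18,23,11,16,6,20,17,2,21,4,7,5,22,19,10]),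
  (false, 2, 65, [0,18,2,3,8,10,16,5,9,4,7,14,6,1,22,17,12,19,13,15,20,21,11,23]),
  (false, 1, 66, [0,1,4,12,2,14,9,7,18,6,10,17,3,13,5,15,16,11,8,20,19,21,23,22]),
  (false, 2, 5, [0,3,9,8,13,10,6,19,12,16,11,17,18,4,7,20,1,22,2,5,21,23,14,15]),
  (false, 2, 68, [0,16,2,18,3,23,1,11,8,6,14,17,4,13,15,22,9,21,12,20,19,7,10,5]),
  (false, 2, 69, [0,6,12,4,16,7,9,14,18,1,10,17,13,3,5,21,2,19,8,22,11,15,23,20]),
  (false, 2, 70, [0,1,8,13,6,15,2,10,4,9,23,17,3,16,20,19,12,11,18,21,14,5,7,22]),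
  (false, 1, 71, [0,13,2,8,3,20,4,14,6,18,22,15,12,9,19,11,16,23,1,21,17,7,10,5]),
  (false, 1, 72, [0,8,4,2,12,19,6,17,3,1,5,20,16,18,11,23,9,22,13,21,15,10,14,7]),
  (false, 2, 73, [0,18,13,12,8,11,1,17,16,9,20,22,6,4,14,7,2,21,3,19,5,23,10,15]),
  (false, 1, 74, [0,1,8,16,2,23,13,15,9,18,19,5,3,6,17,10,4,21,12,11,7,22,14,20]),
  (false, 1, 48, [0,4,12,18,16,17,9,15,3,8,20,7,1,6,19,23,13,11,2,5,22,21,14,10]),
  (false, 1, 76, [0,6,16,1,9,15,18,20,12,2,19,10,13,3,11,22,8,23,4,7,5,21,17,14]),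
  (false, 2, 77, [0,1,6,9,2,5,4,22,8,12,11,23,3,16,14,21,18,7,13,15,20,19,17,10]),
  (false, 2, 32, [0,1,8,3,4,14,13,22,12,6,17,23,18,16,21,5,9,7,2,20,19,15,10,11]),
  (false, 2, 79, [0,9,18,16,13,10,3,21,8,1,17,7,4,6,19,20,2,15,12,22,11,5,23,14]),
  (false, 1, 80, [0,18,1,9,8,14,12,21,2,13,15,10,6,3,11,19,4,20,16,5,23,7,22,17]),
  (false, 1, 81, [0,1,13,18,2,17,16,21,4,8,20,14,3,12,23,11,6,19,9,7,22,10,5,15])]

/-- A fixed involution. -/
def invTab : List ℕ := [0,1,2,3,12,5,9,10,16,6,7,22,4,18,14,19,8,17,13,15,21,20,11,23]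

/-- Involutions in a Sylow subgroup with conjugators from the fixed one. -/
def invConj : List (List ℕ × List ℕ) := [
  ([0,1,3,2,4,5,9,10,13,6,7,11,12,8,14,20,18,23,16,21,15,19,22,17], [0,1,4,12,2,14,9,7,18,6,10,17,3,13,5,15,16,11,8,20,19,21,23,22]),
  ([0,1,3,2,9,14,12,22,8,4,11,10,6,18,5,19,16,17,13,15,20,21,7,23], [0,1,8,16,2,23,13,15,9,18,19,5,3,6,17,10,4,21,12,11,7,22,14,20]),
  ([0,1,3,2,12,5,6,7,18,9,10,22,4,16,14,21,13,23,8,20,19,15,11,17], [0,1,6,9,2,5,4,22,8,12,11,23,3,16,14,21,18,7,13,15,20,19,17,10]),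
  ([0,1,3,2,6,14,4,11,16,12,22,7,9,13,5,15,8,17,18,19,21,20,10,23], [0,1,13,18,2,17,16,21,4,8,20,14,3,12,23,11,6,19,9,7,22,10,5,15]),
  ([0,1,2,3,12,5,9,10,16,6,7,22,4,18,14,19,8,17,13,15,21,20,11,23], [0,1,2,3,4,5,6,7,8,9,10,11,12,13,14,15,16,17,18,19,20,21,22,23])]

/-- Data. -/
def cert660Elt_0 : BT (List ℕ) :=
  (.node (.node (.node (.node (.node (.leaf [0,1,2,3,4,5,6,7,8,9,10,11,12,13,14,15,16,17,18,19,20,21,22,23]) (.leaf [0,3,2,12,18,5,13,15,1,8,17,22,9,16,21,10,4,19,6,7,20,23,14,11])) (.leaf [0,8,18,9,13,5,6,11,12,1,19,21,3,2,17,7,4,23,16,14,20,22,15,10])) (.node (.node (.leaf [0,16,6,13,3,5,9,22,8,1,15,19,18,12,17,11,2,7,4,21,14,10,20,23]) (.leaf [0,13,16,4,9,5,8,17,12,3,21,7,18,1,15,14,6,11,2,10,23,22,20,19])) (.leaf [0,18,2,16,1,5,8,17,12,9,10,22,6,3,23,7,13,15,4,19,11,14,20,21]))) (.node (.node (.node (.leaf [0,18,13,9,1,5,4,22,6,16,10,17,12,3,7,23,2,15,8,14,11,19,21,20]) (.leaf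 [0,9,3,4,2,5,1,21,6,13,23,14,8,12,11,20,18,7,16,10,22,19,15,17])) (.leaf [0,2,6,16,8,5,12,11,9,3,21,23,13,1,19,15,4,22,18,7,10,17,20,14])) (.node (.leaf [0,9,13,18,2,5,4,23,12,16,14,21,6,8,20,22,1,15,3,10,11,19,17,7]) (.leaf [0,4,13,16,12,5,8,14,1,3,10,7,6,9,19,22,2,15,18,23,21,17,20,11])))) (.node (.node (.node (.node (.leaf [0,18,3,9,6,5,12,20,1,2,10,17,4,13,14,23,16,21,8,7,19,11,15,22]) (.leaf [0,8,12,6,3,5,2,15,13,9,11,19,4,16,14,17,18,23,1,20,22,7,10,21])) (.leaf [0,2,13,4,16,5,12,23,18,9,22,20,1,6,7,15,8,14,3,10,19,17,11,21])) (.node (.leaf [0,12,16,3,8,5,9,10,13,4,21,19,18,6,15,11,1,14,2,17,23,20,22,7]) (.leaf [0,3,2,1,8,5,9,19,4,6,15,11,16,13,23,10,12,17,18,7,21,20,22,14]))) (.node (.node (.node (.leaf [0,13,8,12,18,5,4,17,2,1,20,21,6,9,10,22,3,7,16,14,15,23,19,11]) (.leaf [0,16,1,9,13,5,3,20,12,18,19,7,6,4,17,21,2,15,8,14,11,10,23,22])) (.leaf [0,3,9,6,2,5,8,22,4,16,11,14,1,12,23,20,18,19,13,10,21,7,17,15]))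 (.node (.leaf [0,9,3,18,16,5,12,23,4,2,7,15,1,8,22,20,6,21,13,10,19,11,17,14]) (.leaf [0,1,6,18,13,5,16,11,9,2,7,17,4,3,20,21,8,22,12,15,19,14,10,23])))))

/-- Data. -/
def cert660Elt_1 : BT (List ℕ) :=
  (.node (.node (.node (.node (.node (.leaf [0,6,2,4,13,5,8,17,16,1,19,20,3,18,11,7,9,10,12,15,21,22,14,23]) (.leaf [0,8,16,6,13,5,4,21,3,18,11,19,2,12,20,17,9,10,1,14,7,22,23,15])) (.leaf [0,18,3,1,13,5,8,20,9,4,21,17,2,6,11,7,16,10,12,23,19,14,22,15])) (.node (.node (.leaf [0,16,2,18,13,5,8,7,6,9,19,20,12,4,21,17,1,15,3,10,11,14,22,23]) (.leaf [0,2,9,6,3,5,18,11,12,13,22,14,1,4,17,19,8,20,16,10,15,7,23,21])) (.leaf [0,4,3,2,1,5,18,7,8,16,10,11,12,13,22,23,9,20,6,21,17,19,14,15]))) (.node (.node (.node (.leaf [0,2,8,9,16,5,3,20,1,4,22,23,18,6,15,7,13,14,12,17,19,10,21,11]) (.leaf [0,18,13,2,4,5,1,15,6,3,10,20,8,16,11,14,9,22,12,23,7,19,21,17])) (.leaf [0,16,1,2,3,5,13,15,12,4,19,22,8,18,11,14,9,20,6,21,17,10,23,7]))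 (.node (.leaf [0,1,12,16,3,5,6,11,18,8,17,22,13,2,19,15,4,23,9,20,14,21,7,10]) (.leaf [0,13,2,4,3,5,12,17,8,9,19,11,6,1,14,15,18,7,16,10,22,23,20,21])))) (.node (.node (.node (.node (.leaf [0,18,6,13,3,5,12,15,1,8,22,17,16,9,19,11,4,21,2,7,14,23,20,10]) (.leaf [0,1,2,8,13,5,18,7,3,12,17,11,9,4,21,19,16,10,6,15,20,14,23,22])) (.leaf [0,16,12,1,4,5,6,15,13,8,20,7,18,9,10,11,3,23,2,17,14,21,22,19])) (.node (.leaf [0,1,6,9,3,5,12,11,18,4,22,17,2,13,14,15,8,7,16,21,19,20,23,10]) (.leaf [0,1,9,16,8,5,18,11,6,3,10,23,4,2,15,19,13,22,12,20,21,14,7,17]))) (.node (.node (.node (.leaf [0,2,4,6,18,5,8,22,13,1,21,20,12,16,10,17,3,23,9,19,15,7,14,11]) (.leaf [0,2,6,4,18,5,1,21,16,8,22,20,12,13,10,15,9,11,3,7,17,19,14,23])) (.leaf [0,9,18,13,6,5,4,23,3,16,14,17,2,1,20,19,8,7,12,11,10,22,21,15])) (.node (.leaf [0,8,6,1,18,5,13,15,12,3,21,10,9,4,17,22,16,11,2,7,20,14,23,19]) (.leaf [0,4,1,12,16,5,2,15,13,3,20,7,18,9,22,19,8,14,6,21,23,17,10,11])))))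

/-- Data. -/
def cert660Elt_2 : BT (List ℕ) :=
  (.node (.node (.node (.node (.node (.leaf [0,2,18,16,3,5,9,11,12,8,14,22,4,1,15,19,13,23,6,7,17,10,20,21]) (.leaf [0,3,13,6,16,5,4,22,8,2,15,19,18,12,20,23,1,14,9,10,7,21,17,11])) (.leaf [0,2,16,18,3,5,8,14,1,9,11,22,4,12,15,17,6,21,13,10,19,7,20,23])) (.node (.node (.leaf [0,18,16,2,6,5,8,17,4,9,10,20,1,13,23,14,3,21,12,11,19,7,22,15]) (.leaf [0,6,3,9,18,5,16,10,13,8,20,17,4,1,15,21,12,23,2,7,22,11,14,19])) (.leaf [0,3,6,12,4,5,18,11,9,1,15,14,8,2,10,7,13,22,16,21,20,23,19,17]))) (.node (.node (.node (.leaf [0,6,16,2,18,5,3,10,13,12,17,20,1,4,22,21,8,14,9,11,15,7,23,19]) (.leaf [0,16,8,6,1,5,4,22,9,18,7,23,12,2,10,17,3,20,13,14,11,21,19,15])) (.leaf [0,12,9,4,3,5,18,19,2,8,22,14,16,6,15,11,13,10,1,20,17,23,7,21])) (.node (.leaf [0,13,9,12,4,5,3,20,1,6,11,7,2,16,14,10,18,19,8,22,15,23,21,17]) (.leaf [0,4,18,6,13,5,9,11,16,3,7,20,1,2,17,19,8,14,12,23,21,22,10,15]))))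 (.node (.node (.node (.node (.leaf [0,8,12,13,16,5,1,15,6,4,23,19,9,3,7,20,18,11,2,17,22,14,21,10]) (.leaf [0,2,12,3,6,5,8,20,9,13,23,14,16,4,19,17,18,11,1,15,10,7,22,21])) (.leaf [0,1,4,8,3,5,9,22,13,16,17,11,18,2,15,19,12,23,6,21,14,20,10,7])) (.node (.leaf [0,9,6,3,13,5,16,21,1,8,7,17,12,18,19,11,2,15,4,22,20,10,14,23]) (.leaf [0,13,18,2,16,5,3,7,6,1,19,20,12,4,22,23,9,11,8,14,15,10,21,17]))) (.node (.node (.node (.leaf [0,9,16,1,12,5,3,21,4,18,14,7,2,13,22,10,8,17,6,11,19,20,23,15]) (.leaf [0,12,13,16,4,5,2,10,9,18,14,7,6,1,20,15,8,22,3,23,11,17,19,21])) (.leaf [0,16,12,1,18,5,8,20,3,6,15,22,4,2,10,17,13,23,9,11,21,14,7,19])) (.node (.leaf [0,18,3,1,2,5,4,21,16,8,20,22,13,12,11,23,9,10,6,7,14,19,17,15]) (.leaf [0,1,8,4,18,5,9,22,6,16,17,10,3,12,15,20,2,7,13,14,21,19,11,23])))))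

/-- Data. -/
def cert660Elt_3 : BT (List ℕ) :=
  (.node (.node (.node (.node (.node (.leaf [0,1,16,9,4,5,18,11,12,3,10,7,8,13,15,14,2,17,6,21,20,19,23,22]) (.leaf [0,1,9,13,12,5,2,10,16,8,22,7,18,4,21,19,6,11,3,20,14,15,17,23])) (.leaf [0,16,18,3,1,5,6,7,2,13,23,22,9,12,17,11,4,19,8,14,10,21,15,20])) (.node (.leaf [0,9,2,8,1,5,3,7,6,4,17,23,13,16,11,10,12,15,18,19,22,20,21,14]) (.leaf [0,1,4,12,9,5,3,23,13,2,17,7,6,16,14,21,8,22,18,19,15,20,10,11]))) (.node (.node (.node (.leaf [0,16,6,2,9,5,3,7,8,12,15,23,4,1,14,21,13,22,18,11,17,10,20,19]) (.leaf [0,8,1,4,12,5,16,21,6,9,19,10,13,18,7,14,2,15,3,20,22,17,11,23])) (.leaf [0,9,13,12,8,5,3,23,18,6,15,21,16,2,19,10,1,14,4,22,11,20,7,17])) (.node (.leaf [0,6,2,9,12,5,18,19,4,13,10,14,8,3,21,7,16,17,1,15,22,11,23,20]) (.leaf [0,12,13,9,1,5,3,10,16,6,22,7,18,4,17,23,8,14,2,15,11,20,21,19])))) (.node (.node (.node (.node (.leaf [0,12,4,6,18,5,16,21,1,13,22,10,2,8,20,17,9,19,3,23,15,11,14,7])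 (.leaf [0,9,18,8,12,5,1,14,13,6,7,21,4,2,10,19,3,23,16,11,22,20,15,17])) (.leaf [0,9,18,13,2,5,16,14,8,4,23,21,6,12,20,11,3,7,1,19,22,10,17,15])) (.node (.leaf [0,13,4,1,8,5,18,19,2,6,21,11,12,3,10,23,16,17,9,22,15,14,7,20]) (.leaf [0,4,1,12,18,5,3,20,8,2,15,10,16,6,22,21,13,14,9,19,17,23,7,11]))) (.node (.node (.node (.leaf [0,2,16,6,8,5,3,21,1,12,11,23,13,9,19,10,18,14,4,17,15,7,20,22]) (.leaf [0,3,4,9,12,5,1,19,2,13,22,14,16,6,7,21,8,17,18,23,10,20,15,11])) (.leaf [0,12,2,3,4,5,13,10,9,8,7,14,1,6,11,15,18,19,16,17,20,23,22,21])) (.node (.leaf [0,8,6,16,13,5,18,11,12,4,21,19,2,3,20,7,1,15,9,22,17,14,23,10]) (.leaf [0,4,13,16,6,5,3,10,2,8,14,20,12,18,19,23,1,15,9,22,17,21,7,11])))))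

/-- Data. -/
def cert660Elt_4 : BT (List ℕ) :=
  (.node (.node (.node (.node (.node (.leaf [0,13,1,4,8,5,6,21,3,18,19,11,12,2,10,15,9,20,16,14,23,22,7,17]) (.leaf [0,3,9,4,12,5,13,22,6,1,19,14,16,2,7,10,18,11,8,20,21,23,15,17])) (.leaf [0,13,1,3,2,5,16,21,4,12,20,11,18,8,22,14,9,19,6,15,23,10,17,7])) (.node (.node (.leaf [0,6,9,1,13,5,12,20,3,4,19,17,16,18,7,11,2,10,8,22,21,15,23,14]) (.leaf [0,3,2,4,6,5,16,17,12,18,19,14,13,9,20,10,1,15,8,7,23,21,11,22])) (.leaf [0,4,18,6,1,5,3,7,8,9,11,10,13,12,17,23,16,14,2,19,22,21,20,15]))) (.node (.node (.node (.leaf [0,8,4,18,16,5,13,23,3,2,19,15,6,9,20,22,1,21,12,17,7,14,10,11]) (.leaf [0,13,16,6,2,5,1,21,4,9,11,20,8,18,23,14,12,17,3,10,22,15,19,7])) (.leaf [0,13,9,1,6,5,2,19,18,8,20,17,16,3,23,10,12,11,4,22,14,15,7,21])) (.node (.leaf [0,18,4,8,3,5,2,17,16,13,22,15,1,9,11,19,6,21,12,23,14,7,10,20]) (.leaf [0,18,16,3,8,5,6,21,4,13,10,15,12,9,19,11,2,17,1,14,23,7,22,20]))))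 (.node (.node (.node (.node (.leaf [0,4,3,9,6,5,13,10,2,1,20,14,18,12,17,23,8,7,16,21,19,22,15,11]) (.leaf [0,16,2,6,9,5,12,15,1,3,7,23,4,8,14,17,18,19,13,10,21,11,20,22])) (.leaf [0,6,12,8,13,5,9,20,3,2,17,19,18,16,21,11,4,23,1,15,7,22,10,14])) (.node (.leaf [0,12,2,18,16,5,6,7,3,4,19,22,13,1,20,15,9,10,8,17,23,11,21,14]) (.leaf [0,6,4,18,16,5,9,19,2,3,23,20,8,13,15,22,12,17,1,21,7,11,10,14]))) (.node (.node (.node (.leaf [0,4,9,16,8,5,2,10,3,6,11,15,1,18,23,19,12,20,13,22,21,17,7,14]) (.leaf [0,9,12,4,1,5,18,23,13,8,17,7,6,16,10,11,2,15,3,20,22,19,14,21])) (.leaf [0,4,8,18,9,5,2,7,3,13,14,15,12,16,21,17,1,20,6,22,23,19,10,11])) (.node (.leaf [0,9,6,2,16,5,13,15,1,18,7,23,4,8,20,22,3,21,12,11,19,10,14,17]) (.leaf [0,6,1,18,3,5,2,19,9,16,14,17,12,13,22,15,8,20,4,21,11,7,10,23])))))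

/-- Data. -/
def cert660Elt_5 : BT (List ℕ) :=
  (.node (.node (.node (.node (.node (.leaf [0,1,8,6,16,5,3,7,2,13,22,23,12,9,19,20,4,17,18,14,15,21,10,11]) (.leaf [0,8,3,16,12,5,2,10,13,1,21,19,18,6,22,7,4,23,9,20,14,17,15,11])) (.leaf [0,4,16,13,6,5,8,14,18,3,10,20,12,2,19,17,9,11,1,21,23,22,7,15])) (.node (.leaf [0,18,12,2,3,5,6,15,1,4,17,22,9,16,14,11,8,20,13,23,19,7,21,10]) (.leaf [0,12,18,2,16,5,4,19,1,6,7,22,13,3,20,23,8,14,9,11,15,17,21,10]))) (.node (.node (.node (.leaf [0,6,4,2,13,5,1,19,18,8,17,20,3,16,11,21,12,23,9,22,7,15,14,10]) (.leaf [0,13,6,3,12,5,4,21,16,2,7,19,9,8,14,22,18,11,1,15,10,23,17,20])) (.leaf [0,8,16,3,18,5,2,10,9,1,21,15,12,4,22,17,6,11,13,14,20,7,19,23])) (.node (.leaf [0,18,12,8,6,5,3,20,1,16,17,10,13,4,19,23,2,15,9,11,14,7,21,22]) (.leaf [0,9,4,3,8,5,1,21,16,13,23,15,2,18,11,19,12,17,6,22,10,20,14,7])))) (.node (.node (.node (.node (.leaf [0,13,18,6,4,5,8,7,2,12,11,20,1,16,10,14,9,19,3,23,15,22,17,21])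 (.leaf [0,9,4,12,6,5,18,23,3,8,17,14,1,2,10,19,16,21,13,22,20,11,7,15])) (.leaf [0,9,1,13,4,5,8,14,16,2,15,7,3,12,11,20,6,21,18,19,10,22,17,23])) (.node (.leaf [0,16,13,6,18,5,9,22,4,1,15,20,3,2,17,10,12,23,8,14,21,11,19,7]) (.leaf [0,3,2,1,16,5,6,15,12,9,19,22,8,18,23,7,4,17,13,10,20,21,11,14]))) (.node (.node (.node (.leaf [0,12,16,1,2,5,6,21,3,8,14,22,9,18,23,11,13,10,4,17,20,15,7,19]) (.leaf [0,4,1,13,3,5,18,14,8,6,15,11,9,2,17,19,12,20,16,21,22,23,7,10])) (.leaf [0,13,12,8,18,5,1,20,9,4,17,21,6,2,10,15,16,11,3,23,22,14,19,7])) (.node (.leaf [0,4,16,18,3,5,12,11,9,1,14,15,2,8,22,17,13,10,6,21,19,23,20,7]) (.leaf [0,18,2,13,8,5,1,15,12,3,10,21,4,9,11,19,16,17,6,7,23,14,20,22])))))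

/-- Data. -/
def cert660Elt_6 : BT (List ℕ) :=
  (.node (.node (.node (.node (.node (.leaf [0,16,13,12,8,5,2,15,6,18,23,19,9,3,21,10,4,22,1,14,11,17,7,20]) (.leaf [0,13,16,6,8,5,9,11,12,1,21,19,2,3,23,10,4,17,18,14,15,22,20,7])) (.leaf [0,9,6,2,4,5,18,7,3,13,15,14,16,12,20,11,1,21,8,22,10,19,23,17])) (.node (.node (.leaf [0,4,8,1,6,5,16,14,18,9,20,10,2,12,23,17,3,7,13,22,19,21,11,15]) (.leaf [0,2,9,6,1,5,13,22,8,18,11,23,3,16,17,10,12,20,4,19,7,15,14,21])) (.leaf [0,6,18,4,8,5,9,19,1,3,23,10,16,12,15,11,13,14,2,7,21,22,20,17]))) (.node (.node (.node (.leaf [0,16,4,18,6,5,12,23,13,1,19,20,8,2,10,17,9,22,3,21,14,11,15,7]) (.leaf [0,18,9,8,2,5,6,22,13,1,20,21,16,12,23,11,3,10,4,19,14,7,15,17])) (.leaf [0,6,18,13,9,5,8,14,1,12,23,17,2,3,21,7,4,19,16,11,15,22,20,10])) (.node (.leaf [0,12,9,13,18,5,3,10,2,6,22,21,1,8,17,20,4,19,16,11,15,23,7,14]) (.leaf [0,3,6,12,8,5,1,15,13,18,11,19,4,16,10,21,9,22,2,7,23,20,14,17]))))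 (.node (.node (.node (.node (.leaf [0,4,9,12,13,5,18,11,16,8,20,7,2,1,21,19,3,10,6,22,17,23,14,15]) (.leaf [0,8,1,4,13,5,9,19,2,16,21,11,12,3,7,20,6,15,18,14,17,22,10,23])) (.leaf [0,8,13,2,18,5,6,15,12,16,10,21,4,9,20,22,3,23,1,14,17,7,11,19])) (.node (.leaf [0,18,16,4,9,5,1,21,3,12,17,15,13,8,7,14,2,10,6,11,23,19,20,22]) (.leaf [0,6,13,18,2,5,8,14,16,12,23,20,9,4,21,22,3,10,1,15,11,7,17,19]))) (.node (.node (.node (.leaf [0,9,8,2,13,5,3,7,18,4,17,21,1,12,11,20,16,14,6,22,19,10,23,15]) (.leaf [0,12,2,9,8,5,1,19,18,16,10,21,6,13,23,15,3,7,4,17,11,20,14,22])) (.leaf [0,9,1,13,3,5,2,15,6,8,14,17,4,18,11,19,16,21,12,20,22,10,7,23])) (.node (.leaf [0,4,2,13,8,5,9,10,3,12,15,11,18,1,21,19,6,7,16,17,23,22,20,14]) (.leaf [0,2,4,3,8,5,18,23,13,16,21,11,9,1,15,19,6,22,12,17,10,7,14,20])))))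

/-- Data. -/
def cert660Elt_7 : BT (List ℕ) :=
  (.node (.node (.node (.node (.node (.leaf [0,12,6,3,9,5,1,21,4,18,7,14,13,2,17,15,8,22,16,11,23,20,19,10]) (.leaf [0,18,1,6,8,5,2,15,12,16,21,10,9,4,23,19,3,20,13,14,11,7,17,22])) (.leaf [0,16,9,1,6,5,3,20,8,18,19,23,13,2,17,10,4,22,12,11,14,21,7,15])) (.node (.leaf [0,13,6,18,4,5,12,11,16,8,7,20,1,2,10,15,3,21,9,22,14,23,17,19]) (.leaf [0,8,16,9,4,5,13,10,3,12,11,15,1,18,7,14,6,21,2,17,20,22,23,19]))) (.node (.node (.node (.leaf [0,6,16,8,3,5,18,14,13,4,17,19,9,12,15,11,2,10,1,21,22,7,23,20]) (.leaf [0,13,3,8,16,5,18,7,6,9,20,19,4,12,15,23,1,21,2,10,22,14,11,17])) (.leaf [0,16,6,8,12,5,4,22,13,18,7,19,1,3,10,21,2,15,9,11,14,17,23,20])) (.node (.leaf [0,6,1,9,13,5,4,19,18,12,20,17,16,3,7,21,8,14,2,15,11,22,23,10]) (.leaf [0,8,16,9,1,5,12,11,6,13,10,23,4,2,7,17,3,21,18,14,22,20,15,19])))) (.node (.node (.node (.node (.leaf [0,2,12,9,4,5,1,20,3,16,11,14,13,6,7,15,18,23,8,17,10,19,21,22])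 (.leaf [0,1,18,12,2,5,13,23,3,9,11,22,8,16,21,14,6,7,4,19,20,15,10,17])) (.leaf [0,1,6,8,16,5,13,22,9,3,7,23,12,2,19,15,18,11,4,21,20,14,10,17])) (.node (.leaf [0,6,9,2,12,5,13,10,3,18,19,14,8,4,21,22,1,20,16,11,7,15,23,17]) (.leaf [0,18,2,13,4,5,3,10,16,1,15,20,8,6,11,7,12,17,9,19,14,23,21,22]))) (.node (.node (.node (.leaf [0,6,2,16,18,5,12,17,4,3,10,20,1,13,22,15,9,19,8,7,21,11,23,14]) (.leaf [0,4,18,8,9,5,13,14,16,2,7,15,12,3,21,23,6,11,1,19,17,22,10,20])) (.leaf [0,16,3,12,2,5,4,23,18,9,20,22,6,1,14,21,8,7,13,10,11,17,19,15])) (.node (.leaf [0,1,9,6,3,5,4,22,13,12,11,17,2,18,14,19,16,10,8,20,15,21,23,7]) (.leaf [0,8,1,6,18,5,3,21,4,13,15,10,9,12,17,20,2,19,16,14,22,7,23,11])))))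

/-- Data. -/
def cert660Elt_8 : BT (List ℕ) :=
  (.node (.node (.node (.node (.node (.leaf [0,18,1,12,16,5,9,20,3,13,15,22,4,2,7,19,6,21,8,14,23,11,10,17]) (.leaf [0,9,3,4,8,5,13,23,18,1,21,15,2,16,11,10,6,7,12,20,19,22,14,17])) (.leaf [0,3,16,12,13,5,4,17,8,9,11,19,1,6,7,21,18,14,2,10,20,23,22,15])) (.node (.node (.leaf [0,9,8,2,1,5,4,17,16,3,7,23,13,6,11,22,18,14,12,20,10,19,21,15]) (.leaf [0,16,1,9,6,5,18,19,2,3,20,23,13,8,17,14,12,15,4,21,10,11,7,22])) (.leaf [0,16,12,3,2,5,9,20,1,4,23,22,6,18,14,11,13,15,8,17,21,10,19,7]))) (.node (.node (.node (.leaf [0,12,6,4,18,5,13,22,8,16,21,10,2,1,20,15,3,7,9,11,17,23,14,19]) (.leaf [0,12,9,2,6,5,1,19,4,16,10,14,8,3,23,20,13,22,18,11,17,15,21,7])) (.leaf [0,3,18,16,2,5,13,14,1,6,11,22,4,12,20,23,9,19,8,7,21,10,15,17])) (.node (.leaf [0,4,2,13,18,5,12,15,6,9,10,20,8,16,21,17,3,7,1,19,22,23,11,14]) (.leaf [0,6,13,16,4,5,1,14,18,9,10,20,12,2,7,15,3,23,8,22,11,21,19,17]))))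 (.node (.node (.node (.node (.leaf [0,9,1,16,12,5,18,14,13,3,21,7,2,4,22,19,6,15,8,20,10,11,23,17]) (.leaf [0,1,16,12,3,5,8,17,2,6,11,22,13,18,19,14,9,10,4,21,15,20,7,23])) (.leaf [0,16,6,8,1,5,18,7,2,4,22,23,12,9,10,11,13,15,3,21,17,14,19,20])) (.node (.leaf [0,6,9,1,16,5,4,19,2,12,20,23,13,8,7,22,3,10,18,11,15,21,17,14]) (.leaf [0,2,8,1,4,5,18,14,13,12,20,11,6,3,10,7,9,22,16,17,15,19,23,21]))) (.node (.node (.node (.leaf [0,2,16,6,13,5,12,11,18,3,21,20,8,4,19,17,1,14,9,10,7,15,23,22]) (.leaf [0,1,13,4,16,5,6,22,9,18,23,7,2,12,20,15,3,10,8,14,19,21,11,17])) (.leaf [0,18,4,6,2,5,3,21,16,9,22,20,12,13,14,23,8,17,1,19,11,7,10,15])) (.node (.leaf [0,2,9,8,16,5,4,22,6,3,20,23,18,1,15,19,12,11,13,10,7,17,21,14]) (.leaf [0,12,3,2,1,5,13,10,16,8,7,22,4,18,11,23,6,21,9,20,17,15,14,19])))))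

/-- Data. -/
def cert660Elt_9 : BT (List ℕ) :=
  (.node (.node (.node (.node (.node (.leaf [0,12,3,6,13,5,1,21,16,18,7,19,9,8,17,20,2,10,4,23,11,15,14,22]) (.leaf [0,16,8,6,12,5,18,7,3,4,22,19,1,13,10,14,9,20,2,17,21,11,23,15])) (.leaf [0,6,18,13,2,5,12,23,4,8,14,20,9,16,21,11,1,19,3,7,22,15,17,10])) (.node (.node (.leaf [0,1,6,9,2,5,4,22,8,12,11,23,3,16,14,21,18,7,13,15,20,19,17,10]) (.leaf [0,9,3,6,13,5,8,7,18,16,21,17,12,1,19,20,4,23,2,10,11,22,14,15])) (.leaf [0,9,4,16,18,5,6,21,3,2,17,15,13,8,20,22,12,23,1,19,10,11,7,14]))) (.node (.node (.node (.leaf [0,16,13,4,1,5,3,23,12,8,22,7,2,9,11,10,6,15,18,14,17,21,20,19]) (.leaf [0,18,3,16,8,5,13,10,9,6,21,15,12,4,19,23,1,20,2,7,11,14,22,17])) (.leaf [0,16,18,3,9,5,13,23,4,6,7,15,1,8,17,14,2,19,12,11,21,10,22,20])) (.node (.leaf [0,1,9,6,2,5,12,11,16,4,22,23,3,8,14,20,13,10,18,19,21,15,17,7]) (.leaf [0,4,3,2,12,5,16,10,9,18,7,14,1,6,22,21,8,20,13,23,19,17,11,15]))))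 (.node (.node (.node (.node (.leaf [0,8,12,13,9,5,4,23,18,1,15,21,16,2,7,17,6,11,3,20,14,22,19,10]) (.leaf [0,13,3,8,4,5,9,20,1,18,7,11,16,2,15,10,6,21,12,23,14,22,19,17])) (.leaf [0,3,8,13,12,5,18,14,16,9,22,19,2,6,21,7,4,17,1,20,10,23,11,15])) (.node (.leaf [0,18,12,2,9,5,4,17,8,6,15,21,3,13,14,23,1,20,16,11,7,19,22,10]) (.leaf [0,2,4,3,9,5,16,21,6,18,23,14,8,12,15,17,13,22,1,19,7,10,11,20]))) (.node (.node (.node (.leaf [0,6,16,8,9,5,4,17,2,18,14,23,3,1,15,21,13,10,12,11,7,22,19,20]) (.leaf [0,6,3,9,4,5,8,20,12,16,10,14,18,2,15,7,13,23,1,21,11,22,17,19])) (.leaf [0,1,6,8,12,5,3,7,18,13,22,10,16,4,19,21,9,11,2,15,14,20,23,17])) (.node (.leaf [0,13,9,12,2,5,6,11,18,3,20,21,4,8,14,22,1,19,16,10,23,15,7,17]) (.leaf [0,2,13,18,6,5,3,23,4,1,14,20,9,16,17,10,8,22,12,15,19,7,21,11])))))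

/-- Data. -/
def cert660Elt_10 : BT (List ℕ) :=
  (.node (.node (.node (.node (.node (.leaf [0,3,8,16,9,5,2,17,4,1,14,15,6,18,23,7,13,22,12,20,21,10,19,11]) (.leaf [0,18,1,6,9,5,16,21,3,2,15,17,8,13,23,14,12,20,4,19,7,11,10,22])) (.leaf [0,2,9,8,18,5,3,20,12,4,22,21,16,13,15,10,6,11,1,19,17,7,23,14])) (.node (.node (.leaf [0,9,6,3,12,5,8,7,2,16,21,14,13,4,19,22,1,15,18,11,10,20,17,23]) (.leaf [0,3,4,9,16,5,13,22,8,1,19,15,12,18,7,23,2,17,6,21,20,10,14,11])) (.leaf [0,3,6,13,18,5,4,22,9,2,15,17,16,1,20,21,12,11,8,7,10,23,19,14]))) (.node (.node (.node (.leaf [0,8,9,2,12,5,4,19,18,3,10,21,6,13,14,22,16,11,1,20,7,17,23,15]) (.leaf [0,8,3,16,18,5,1,21,4,2,10,15,12,9,22,20,13,23,6,7,17,14,19,11])) (.leaf [0,2,4,13,1,5,12,23,3,9,22,11,16,8,7,17,6,21,18,19,10,15,20,14])) (.node (.leaf [0,4,16,18,2,5,1,14,13,12,11,20,3,6,22,21,9,10,8,17,23,19,15,7]) (.leaf [0,6,8,12,13,5,2,17,16,9,20,19,18,3,21,7,1,14,4,22,11,15,10,23]))))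 (.node (.node (.node (.node (.leaf [0,13,18,6,1,5,12,11,9,8,7,17,4,3,10,23,2,19,16,14,22,15,20,21]) (.leaf [0,12,1,18,6,5,9,19,4,13,14,10,3,8,17,20,16,21,2,15,23,11,22,7])) (.leaf [0,4,13,1,3,5,6,15,2,18,14,11,9,8,17,22,16,10,12,23,19,21,7,20])) (.node (.leaf [0,4,8,1,2,5,9,20,3,16,14,11,6,13,23,22,18,7,12,17,21,19,10,15]) (.leaf [0,16,4,9,3,5,2,19,18,6,22,15,12,8,14,17,13,23,1,21,11,10,7,20]))) (.node (.node (.node (.leaf [0,16,6,13,18,5,1,15,2,9,22,20,3,4,17,21,8,7,12,11,10,14,19,23]) (.leaf [0,12,2,9,6,5,16,10,3,1,19,14,8,4,23,17,18,7,13,15,20,11,21,22])) (.leaf [0,3,8,13,2,5,9,22,4,18,14,11,12,1,21,20,16,17,6,7,23,10,19,15])) (.node (.leaf [0,9,13,18,6,5,16,14,1,4,23,17,2,3,20,10,12,15,8,22,19,11,21,7]) (.leaf [0,1,9,16,4,5,3,10,13,18,11,7,8,12,15,20,6,22,2,19,14,21,23,17])))))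

/-- Data. -/
def cert660Elt_11 : BT (List ℕ) :=
  (.node (.node (.node (.node (.node (.leaf [0,9,2,12,18,5,16,17,8,1,15,21,3,13,22,10,6,7,4,19,20,11,14,23]) (.leaf [0,9,12,13,8,5,6,15,2,3,23,21,16,18,19,11,4,17,1,20,10,22,7,14])) (.leaf [0,8,16,3,12,5,1,21,6,2,10,19,18,13,22,14,9,11,4,17,7,20,15,23])) (.node (.leaf [0,13,4,1,12,5,6,21,16,18,19,7,8,9,10,22,2,17,3,23,14,15,11,20]) (.leaf [0,18,16,3,12,5,13,10,2,6,21,22,8,1,19,14,4,17,9,11,7,23,15,20]))) (.node (.node (.node (.leaf [0,2,4,6,12,5,1,21,3,8,22,14,18,9,10,19,13,23,16,17,7,15,20,11]) (.leaf [0,12,1,4,8,5,2,19,18,3,21,10,13,6,11,15,16,14,9,20,23,17,7,22])) (.leaf [0,2,13,4,1,5,9,22,8,12,23,11,16,3,7,10,18,14,6,15,17,19,20,21])) (.node (.leaf [0,12,3,16,18,5,9,10,2,4,21,22,8,1,15,20,6,7,13,23,17,11,19,14]) (.leaf [0,18,4,16,13,5,1,21,6,12,17,20,9,2,7,19,8,22,3,23,11,14,15,10])))) (.node (.node (.node (.node (.leaf [0,13,9,18,8,5,16,11,12,4,19,21,3,2,15,10,1,20,6,22,23,14,17,7])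 (.leaf [0,13,8,3,16,5,9,20,12,18,7,19,4,6,15,22,2,17,1,14,23,10,11,21])) (.leaf [0,2,8,13,3,5,16,14,1,6,22,11,12,4,19,17,9,20,18,7,15,10,21,23])) (.node (.leaf [0,13,6,18,1,5,8,7,3,12,11,17,4,9,10,22,16,21,2,15,23,14,20,19]) (.leaf [0,2,13,18,9,5,1,14,8,3,23,21,6,12,17,15,4,22,16,10,7,19,20,11]))) (.node (.node (.node (.leaf [0,4,9,16,1,5,6,11,12,2,10,7,8,13,23,22,3,20,18,19,17,21,15,14]) (.leaf [0,2,9,12,13,5,1,20,8,16,11,21,4,18,7,19,6,22,3,10,17,15,14,23])) (.leaf [0,6,18,1,12,5,2,19,4,16,14,10,3,8,22,7,13,23,9,11,21,15,17,20])) (.node (.leaf [0,1,12,16,13,5,8,17,4,6,11,7,3,9,19,20,18,23,2,15,21,14,22,10]) (.leaf [0,6,13,16,12,5,9,10,3,1,14,19,4,8,7,22,18,23,2,15,21,11,20,17])))))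

/-- Data. -/
def cert660Elt_12 : BT (List ℕ) :=
  (.node (.node (.node (.node (.node (.leaf [0,13,1,4,12,5,18,19,9,6,21,7,8,16,10,14,3,20,2,15,22,23,11,17]) (.leaf [0,4,18,16,2,5,12,11,6,1,14,20,3,13,22,23,8,7,9,19,21,17,15,10])) (.leaf [0,13,18,9,3,5,16,11,6,4,19,17,8,1,15,14,2,7,12,23,22,10,21,20])) (.node (.node (.leaf [0,12,2,18,13,5,4,19,9,6,7,21,16,8,20,17,3,10,1,15,11,23,22,14]) (.leaf [0,2,6,9,1,5,18,11,16,13,22,23,3,8,17,7,4,21,12,15,10,19,14,20])) (.leaf [0,6,8,12,18,5,9,20,1,2,17,10,13,4,21,22,16,14,3,7,15,11,19,23]))) (.node (.node (.node (.leaf [0,4,16,9,1,5,2,10,13,6,11,7,8,12,23,17,18,14,3,21,22,19,15,20]) (.leaf [0,8,2,1,16,5,18,19,9,12,15,23,3,6,22,7,13,10,4,17,20,14,11,21])) (.leaf [0,13,2,18,12,5,3,7,8,1,19,21,16,9,22,10,4,17,6,15,14,23,20,11])) (.node (.leaf [0,8,6,1,9,5,3,21,16,13,15,23,18,2,17,7,12,11,4,22,14,20,10,19]) (.leaf [0,2,1,3,13,5,9,20,8,6,21,11,18,4,17,19,16,14,12,15,7,10,22,23]))))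 (.node (.node (.node (.node (.leaf [0,18,6,13,16,5,8,22,4,12,15,20,3,2,19,7,1,21,9,11,23,14,17,10]) (.leaf [0,13,6,3,9,5,2,7,18,4,21,17,12,1,14,15,16,11,8,22,23,10,19,20])) (.leaf [0,3,9,6,1,5,16,11,18,8,22,17,2,13,23,10,4,19,12,20,7,21,14,15])) (.node (.leaf [0,18,16,2,1,5,9,10,3,8,17,22,6,12,23,11,4,21,13,14,7,19,20,15]) (.leaf [0,13,1,9,16,5,2,19,4,8,20,7,6,12,23,15,3,21,18,14,22,10,17,11]))) (.node (.node (.node (.leaf [0,6,2,16,1,5,3,10,9,12,17,23,18,8,22,7,4,19,13,15,11,21,20,14]) (.leaf [0,13,6,16,2,5,9,11,18,1,21,20,8,4,23,22,3,7,12,15,14,10,19,17])) (.leaf [0,8,4,3,2,5,6,21,1,12,23,11,9,13,14,22,18,19,16,17,20,7,15,10])) (.node (.leaf [0,4,8,3,16,5,6,7,18,12,20,15,13,9,19,22,1,14,2,17,23,21,11,10]) (.leaf [0,12,4,9,3,5,8,22,6,18,19,14,16,2,15,17,1,21,13,23,11,20,7,10])))))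

/-- Data. -/
def cert660Elt_13 : BT (List ℕ) :=
  (.node (.node (.node (.node (.node (.leaf [0,3,16,8,9,5,1,14,18,2,17,15,6,4,23,21,12,11,13,10,7,20,19,22]) (.leaf [0,12,1,18,3,5,13,14,16,9,19,22,6,2,17,15,4,21,8,20,11,23,10,7])) (.leaf [0,16,1,2,8,5,4,19,9,13,15,23,3,6,11,21,12,20,18,14,10,17,22,7])) (.node (.leaf [0,16,13,6,3,5,1,15,12,9,22,19,18,8,17,14,4,23,2,10,11,21,20,7]) (.leaf [0,3,6,9,1,5,8,22,13,16,11,17,2,18,23,7,12,15,4,21,10,20,14,19]))) (.node (.node (.node (.leaf [0,8,12,18,2,5,3,23,13,16,11,21,1,9,22,20,6,15,4,17,14,7,10,19]) (.leaf [0,2,12,3,16,5,13,23,18,8,20,22,6,1,19,15,9,11,4,17,7,10,14,21])) (.leaf [0,16,9,1,13,5,18,19,4,3,20,7,6,12,17,11,8,22,2,10,21,14,23,15])) (.node (.leaf [0,8,4,1,12,5,9,19,18,16,21,10,13,6,7,22,3,23,2,17,14,20,11,15]) (.leaf [0,16,2,1,8,5,13,15,6,4,19,23,3,9,11,10,18,7,12,17,21,14,22,20])))) (.node (.node (.node (.node (.leaf [0,4,9,12,2,5,8,20,3,18,11,14,13,6,21,22,16,10,1,19,23,17,7,15])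 (.leaf [0,16,2,6,4,5,3,7,18,12,15,20,9,13,14,10,1,19,8,17,11,21,23,22])) (.leaf [0,18,1,3,13,5,4,21,6,8,20,17,2,9,11,19,12,15,16,14,7,23,22,10])) (.node (.leaf [0,9,2,8,13,5,4,17,12,3,7,21,1,18,11,19,6,15,16,10,20,22,23,14]) (.leaf [0,18,2,12,9,5,6,15,13,4,17,21,3,8,14,7,16,10,1,19,23,11,22,20]))) (.node (.node (.node (.leaf [0,13,8,12,6,5,1,20,3,4,17,19,18,16,10,14,2,7,9,22,23,15,21,11]) (.leaf [0,13,6,16,8,5,1,21,3,9,11,19,2,12,23,15,18,7,4,22,10,14,20,17])) (.leaf [0,1,13,3,8,5,12,23,4,16,10,11,6,2,19,15,9,22,18,14,21,20,17,7])) (.node (.leaf [0,12,9,13,1,5,6,22,4,3,10,7,18,16,17,11,2,19,8,20,23,15,21,14]) (.leaf [0,8,3,4,2,5,12,23,13,6,21,11,9,1,14,20,16,10,18,7,22,17,15,19])))))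

/-- Data. -/
def cert660Elt_14 : BT (List ℕ) :=
  (.node (.node (.node (.node (.node (.leaf [0,2,13,8,3,5,6,22,4,16,14,11,12,1,19,15,18,23,9,10,17,7,21,20]) (.leaf [0,13,16,12,1,5,2,17,4,18,11,7,3,9,22,10,6,21,8,14,23,15,19,20])) (.leaf [0,4,8,3,13,5,12,20,1,6,7,11,16,2,19,17,18,14,9,22,21,23,15,10])) (.node (.node (.leaf [0,18,16,4,13,5,12,17,2,1,21,20,9,6,7,11,3,10,8,14,19,23,15,22]) (.leaf [0,1,13,9,18,5,2,10,3,8,22,17,12,6,21,15,4,23,16,14,20,19,7,11])) (.leaf [0,8,9,16,4,5,12,11,18,13,10,15,1,3,7,20,2,19,6,22,14,17,23,21]))) (.node (.node (.node (.leaf [0,9,18,3,16,5,2,7,8,12,23,15,1,4,22,19,13,14,6,11,20,10,17,21]) (.leaf [0,9,16,8,3,5,12,17,4,13,14,15,6,18,19,11,1,21,2,10,22,20,23,7])) (.leaf [0,4,16,13,12,5,3,10,9,8,14,7,6,1,19,21,18,11,2,17,22,23,20,15])) (.node (.leaf [0,8,6,16,2,5,4,21,1,18,11,23,13,9,20,22,12,15,3,7,14,17,19,10]) (.leaf [0,12,13,8,3,5,1,14,16,4,22,19,2,6,11,15,9,10,18,23,17,20,21,7]))))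 (.node (.node (.node (.node (.leaf [0,12,4,6,2,5,13,22,9,16,21,14,18,3,20,23,1,19,8,17,11,15,10,7]) (.leaf [0,12,1,4,13,5,3,21,16,2,19,7,8,9,11,20,18,14,6,15,17,23,10,22])) (.leaf [0,8,4,3,9,5,12,23,18,6,21,15,2,16,14,17,1,19,13,22,7,20,11,10])) (.node (.leaf [0,16,2,18,12,5,9,19,1,8,7,22,13,3,21,10,6,15,4,17,14,11,20,23]) (.leaf [0,1,3,2,12,5,6,7,18,9,10,22,4,16,14,21,13,23,8,20,19,15,11,17]))) (.node (.node (.node (.leaf [0,16,6,2,4,5,12,15,13,3,7,20,9,18,14,11,8,22,1,21,10,17,23,19]) (.leaf [0,2,6,9,3,5,13,22,4,18,11,14,1,12,17,15,16,21,8,7,19,10,23,20])) (.leaf [0,18,1,3,2,5,8,20,12,4,21,22,13,16,11,14,6,15,9,19,23,7,17,10])) (.node (.leaf [0,18,4,8,1,5,13,22,6,2,17,10,3,12,11,23,16,21,9,19,7,14,15,20]) (.leaf [0,18,2,12,3,5,4,17,16,6,15,22,9,1,14,19,13,10,8,7,11,23,21,20])))))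

/-- Data. -/
def cert660Elt_15 : BT (List ℕ) :=
  (.node (.node (.node (.node (.node (.leaf [0,4,12,9,2,5,18,11,6,8,20,14,13,3,21,23,1,15,16,17,22,19,7,10]) (.leaf [0,9,18,8,4,5,6,7,3,1,14,15,12,16,10,11,13,23,2,19,20,22,21,17])) (.leaf [0,9,13,12,16,5,6,15,1,3,23,7,8,4,19,22,18,14,2,10,20,11,21,17])) (.node (.leaf [0,6,9,2,8,5,18,19,1,13,10,23,12,16,21,11,3,20,4,22,15,7,14,17]) (.leaf [0,16,3,8,4,5,2,7,18,1,20,15,13,9,11,10,12,23,6,21,14,17,19,22]))) (.node (.node (.node (.leaf [0,12,16,1,9,5,8,14,13,6,21,7,2,4,23,17,3,10,18,11,15,20,22,19]) (.leaf [0,12,18,8,9,5,3,7,2,16,14,21,4,13,15,23,1,19,6,11,17,20,10,22])) (.leaf [0,6,12,8,18,5,2,17,4,9,20,10,13,1,21,15,3,23,16,11,22,7,19,14])) (.node (.leaf [0,18,12,1,4,5,9,20,8,13,15,10,16,6,7,11,2,17,3,23,14,19,22,21]) (.leaf [0,16,3,8,13,5,1,20,12,2,7,19,4,6,11,21,18,23,9,10,17,14,15,22])))) (.node (.node (.node (.node (.leaf [0,3,4,2,6,5,18,19,9,16,17,14,13,12,20,23,8,22,1,21,10,7,11,15])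 (.leaf [0,3,2,12,9,5,8,17,4,13,15,14,18,6,21,7,1,19,16,10,23,20,22,11])) (.leaf [0,13,12,8,6,5,4,17,16,1,20,19,18,3,10,23,9,11,2,15,14,22,21,7])) (.node (.leaf [0,12,16,3,18,5,4,21,1,9,10,22,8,2,15,17,13,14,6,11,20,23,19,7]) (.leaf [0,8,3,4,9,5,6,21,16,12,23,15,2,18,14,7,13,10,1,20,17,22,11,19]))) (.node (.node (.node (.leaf [0,9,16,1,2,5,18,14,8,3,21,23,12,6,22,11,4,17,13,10,20,19,7,15]) (.leaf [0,6,8,16,3,5,4,17,12,18,14,19,9,13,15,22,1,20,2,7,11,21,23,10])) (.leaf [0,16,9,4,3,5,6,22,8,2,19,15,12,18,14,11,1,20,13,10,17,21,7,23])) (.node (.leaf [0,13,4,2,6,5,12,17,16,9,19,20,3,18,14,23,1,21,8,22,10,15,11,7]) (.leaf [0,6,4,12,1,5,13,23,18,16,17,10,9,8,7,22,2,19,3,21,11,15,14,20])))))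

/-- Data. -/
def cert660Elt_16 : BT (List ℕ) :=
  (.node (.node (.node (.node (.node (.leaf [0,1,2,3,12,5,9,10,16,6,7,22,4,18,14,19,8,17,13,15,21,20,11,23]) (.leaf [0,9,16,4,13,5,6,21,1,2,17,7,18,12,20,11,8,14,3,10,19,22,15,23])) (.leaf [0,6,2,9,8,5,13,10,16,18,19,23,12,1,21,15,4,17,3,7,11,22,14,20])) (.node (.node (.leaf [0,3,4,8,1,5,12,17,2,6,22,11,18,13,10,23,9,19,16,21,7,20,15,14]) (.leaf [0,12,13,16,6,5,18,14,8,2,10,19,4,3,20,23,9,22,1,15,17,11,7,21])) (.leaf [0,2,1,3,18,5,6,21,16,9,20,22,13,12,17,15,8,14,4,19,10,7,11,23]))) (.node (.node (.node (.leaf [0,2,8,9,18,5,4,22,13,3,20,21,16,12,15,17,1,14,6,7,10,19,23,11]) (.leaf [0,6,3,12,2,5,1,20,9,18,23,14,16,4,22,21,13,10,8,7,11,15,19,17])) (.leaf [0,1,13,3,6,5,16,10,9,12,23,17,8,18,19,14,4,22,2,15,20,21,11,7])) (.node (.leaf [0,12,8,18,9,5,16,14,13,3,7,21,4,2,15,17,6,22,1,20,23,11,10,19]) (.leaf [0,8,6,12,4,5,2,15,1,9,11,10,3,18,14,7,16,21,13,22,20,17,19,23]))))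 (.node (.node (.node (.node (.leaf [0,9,2,12,3,5,1,15,6,16,17,14,18,4,22,19,8,7,13,10,11,20,21,23]) (.leaf [0,6,16,13,12,5,1,14,8,9,10,19,4,3,7,21,2,17,18,11,22,15,20,23])) (.leaf [0,12,8,13,2,5,1,14,18,4,22,21,3,9,11,20,6,7,16,17,23,15,19,10])) (.node (.leaf [0,13,3,1,2,5,12,20,8,16,21,11,18,4,22,23,6,7,9,10,14,15,17,19]) (.leaf [0,16,12,3,6,5,4,23,13,9,20,19,2,8,14,17,1,15,18,11,10,21,22,7]))) (.node (.node (.node (.leaf [0,8,2,13,18,5,16,10,9,6,15,21,4,12,20,17,1,19,3,7,22,14,11,23]) (.leaf [0,3,18,9,8,5,12,11,16,2,19,15,13,4,21,23,1,14,6,7,10,20,17,22])) (.leaf [0,1,12,4,9,5,2,17,16,3,23,7,6,13,14,15,18,11,8,20,21,19,10,22])) (.node (.leaf [0,18,9,13,12,5,4,22,8,16,10,21,1,2,7,19,3,20,6,11,14,23,17,15]) (.leaf [0,6,4,18,8,5,3,23,12,9,19,10,16,1,15,21,2,17,13,22,11,7,20,14])))))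

/-- Data. -/
def cert660Elt_17 : BT (List ℕ) :=
  (.node (.node (.node (.node (.node (.leaf [0,3,16,8,6,5,2,17,12,1,14,19,9,13,23,10,18,11,4,21,20,7,15,22]) (.leaf [0,13,8,3,4,5,18,7,2,9,20,11,16,1,15,14,12,17,6,22,10,23,19,21])) (.leaf [0,2,12,18,8,5,6,11,9,4,23,21,1,13,10,15,3,20,16,17,19,7,22,14])) (.node (.node (.leaf [0,3,1,2,8,5,6,15,13,9,19,11,16,4,23,21,18,14,12,20,10,7,22,17]) (.leaf [0,9,3,6,12,5,16,21,4,8,7,14,13,2,19,10,18,23,1,20,22,11,17,15])) (.leaf [0,8,9,16,1,5,13,10,2,12,11,23,4,6,7,22,18,19,3,20,17,14,15,21]))) (.node (.node (.node (.leaf [0,12,6,4,2,5,16,21,3,13,22,14,18,9,20,11,8,7,1,15,23,17,10,19]) (.leaf [0,8,12,6,4,5,9,11,18,2,15,10,3,1,14,20,13,23,16,17,7,22,19,21])) (.leaf [0,12,1,16,9,5,6,21,4,8,14,7,2,13,23,15,18,19,3,20,17,11,22,10])) (.node (.leaf [0,12,18,1,3,5,9,19,2,13,14,22,6,16,17,11,8,7,4,23,15,20,10,21]) (.leaf [0,1,2,16,18,5,13,10,3,4,17,22,6,12,20,15,8,7,9,19,21,14,23,11]))))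 (.node (.node (.node (.node (.leaf [0,13,3,6,9,5,4,21,1,2,7,17,12,18,14,23,8,20,16,10,15,22,19,11]) (.leaf [0,6,16,13,4,5,9,10,2,1,14,20,12,18,7,11,8,17,3,21,15,22,19,23])) (.leaf [0,3,16,18,4,5,13,14,8,6,11,15,2,9,20,10,12,17,1,21,7,23,22,19])) (.node (.leaf [0,1,3,18,9,5,4,23,13,8,7,17,16,6,15,21,2,10,12,20,14,19,22,11]) (.leaf [0,18,9,3,6,5,2,10,13,12,20,17,4,1,14,19,8,22,16,11,23,7,15,21]))) (.node (.node (.node (.leaf [0,1,4,13,2,5,6,22,8,18,23,11,16,3,20,21,12,17,9,19,14,15,7,10]) (.leaf [0,3,1,18,12,5,4,19,2,8,14,22,6,16,10,21,13,15,9,20,7,23,17,11])) (.leaf [0,18,13,6,3,5,8,22,9,12,15,17,16,1,19,14,2,10,4,23,11,7,20,21])) (.node (.leaf [0,6,9,3,18,5,8,20,1,16,10,17,4,13,15,22,2,19,12,11,21,7,14,23]) (.leaf [0,18,6,1,8,5,16,21,4,2,15,10,9,12,23,11,13,22,3,7,19,14,17,20])))))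

/-- Data. -/
def cert660Elt_18 : BT (List ℕ) :=
  (.node (.node (.node (.node (.node (.leaf [0,16,13,12,9,5,18,23,4,2,15,7,8,1,21,14,6,22,3,10,17,11,19,20]) (.leaf [0,1,2,8,9,5,12,17,16,18,7,23,13,6,21,15,3,10,4,19,14,20,11,22])) (.leaf [0,9,3,18,1,5,2,7,6,12,23,17,16,13,22,10,4,21,8,20,11,19,15,14])) (.node (.node (.leaf [0,9,8,16,3,5,13,14,18,12,17,15,6,4,19,22,2,7,1,20,11,10,23,21]) (.leaf [0,3,12,6,8,5,18,11,16,1,15,19,4,13,10,23,2,17,9,20,21,7,14,22])) (.leaf [0,6,13,18,9,5,12,23,3,8,14,17,2,1,21,15,16,10,4,22,7,11,20,19]))) (.node (.node (.node (.leaf [0,13,9,18,3,5,4,19,1,16,11,17,8,6,15,22,12,20,2,10,14,23,21,7]) (.leaf [0,4,6,2,9,5,1,15,12,8,7,14,16,3,23,21,18,11,13,22,17,19,20,10])) (.leaf [0,16,9,4,12,5,2,19,1,6,22,7,3,13,14,10,8,20,18,11,21,17,15,23])) (.node (.leaf [0,4,12,1,18,5,2,15,6,3,20,10,16,8,22,17,9,11,13,23,21,19,7,14]) (.leaf [0,8,13,3,6,5,18,23,12,9,10,19,1,16,17,14,2,15,4,22,20,7,11,21]))))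 (.node (.node (.node (.node (.leaf [0,6,1,8,2,5,3,20,9,13,14,23,4,16,11,21,18,19,12,15,22,7,10,17]) (.leaf [0,1,16,12,13,5,6,11,9,8,17,7,3,4,19,21,2,10,18,14,20,15,22,23])) (.leaf [0,18,4,6,12,5,9,22,8,3,21,10,2,1,14,19,16,17,13,23,7,11,20,15])) (.node (.leaf [0,12,4,1,8,5,3,21,6,2,19,10,13,18,11,23,9,22,16,17,15,20,7,14]) (.leaf [0,12,4,9,16,5,18,19,1,8,22,7,3,13,15,23,6,21,2,17,20,11,14,10]))) (.node (.node (.node (.leaf [0,12,8,6,1,5,2,7,18,9,22,10,16,4,23,17,13,14,3,20,11,15,19,21]) (.leaf [0,1,18,6,13,5,2,7,3,16,11,17,4,9,20,19,12,23,8,14,21,15,10,22])) (.leaf [0,3,16,18,2,5,6,11,12,13,14,22,4,1,20,21,8,17,9,10,23,7,15,19])) (.node (.leaf [0,2,12,18,1,5,4,23,3,6,11,22,8,16,10,17,9,20,13,15,7,19,21,14]) (.leaf [0,8,2,9,12,5,3,10,13,4,19,21,6,18,14,7,1,15,16,17,22,20,23,11])))))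

/-- Data. -/
def cert660Elt_19 : BT (List ℕ) :=
  (.node (.node (.node (.node (.node (.leaf [0,18,3,9,4,5,2,10,16,12,20,15,6,8,14,7,1,21,13,23,11,19,17,22]) (.leaf [0,18,9,8,16,5,1,20,3,6,22,15,2,4,23,19,13,10,12,11,7,14,21,17])) (.leaf [0,13,12,16,3,5,2,17,8,18,11,19,1,6,22,15,9,20,4,23,14,10,7,21])) (.node (.leaf [0,9,1,6,18,5,12,15,13,4,21,17,8,3,10,20,16,14,2,19,22,11,23,7]) (.leaf [0,18,4,16,9,5,12,17,8,1,21,15,13,3,7,23,6,22,2,19,14,11,20,10]))) (.node (.node (.node (.leaf [0,3,13,1,9,5,12,15,6,16,14,17,4,18,7,23,8,22,2,10,21,20,11,19]) (.leaf [0,16,1,12,4,5,8,20,9,6,15,7,18,13,10,14,2,19,3,21,11,17,22,23])) (.leaf [0,18,6,4,2,5,9,22,13,3,21,20,12,16,14,11,1,15,8,7,23,19,10,17])) (.node (.leaf [0,3,16,12,1,5,9,11,18,4,17,22,13,2,7,10,8,14,6,21,23,20,19,15]) (.leaf [0,1,4,12,6,5,2,17,8,3,23,10,9,18,14,19,13,22,16,21,20,15,7,11])))) (.node (.node (.node (.node (.leaf [0,16,4,13,2,5,3,23,18,8,22,20,1,6,11,21,9,19,12,17,14,10,7,15])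 (.leaf [0,1,8,2,13,5,12,17,4,18,7,11,9,3,21,20,6,22,16,14,19,15,23,10])) (.leaf [0,18,13,6,16,5,12,15,2,8,22,20,3,4,19,23,9,10,1,14,7,11,17,21])) (.node (.leaf [0,6,8,1,2,5,13,14,16,3,20,23,4,9,11,22,12,17,18,7,21,15,10,19]) (.leaf [0,18,6,1,9,5,2,15,13,16,21,17,8,3,23,7,4,22,12,11,14,19,10,20]))) (.node (.node (.node (.leaf [0,1,3,13,6,5,12,23,18,16,10,17,8,9,19,20,2,7,4,21,14,15,11,22]) (.leaf [0,3,1,18,6,5,8,14,13,4,19,17,12,9,10,20,2,15,16,21,23,7,22,11])) (.leaf [0,13,9,1,16,5,8,20,12,2,19,7,6,4,23,22,18,11,3,10,15,14,17,21])) (.node (.leaf [0,2,3,12,6,5,13,23,4,8,20,14,16,9,19,10,1,21,18,7,17,15,22,11]) (.leaf [0,8,6,12,3,5,9,11,16,2,15,19,4,13,14,22,1,21,18,7,17,20,10,23])))))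

/-- Data. -/
def cert660Elt_20 : BT (List ℕ) :=
  (.node (.node (.node (.node (.node (.leaf [0,8,18,4,6,5,13,23,12,2,19,10,16,1,20,14,9,11,3,7,17,22,15,21]) (.leaf [0,12,9,2,8,5,16,10,13,1,19,21,6,18,23,11,4,22,3,20,15,17,14,7])) (.leaf [0,6,1,9,16,5,12,20,8,4,19,23,13,2,7,15,18,14,3,21,22,11,17,10])) (.node (.node (.leaf [0,3,18,1,6,5,4,19,9,8,14,17,12,13,10,23,16,11,2,7,20,21,22,15]) (.leaf [0,18,8,9,2,5,1,20,12,6,22,21,16,13,23,14,4,17,3,7,11,19,15,10])) (.leaf [0,8,13,3,1,5,9,10,2,18,23,11,6,4,17,22,12,15,16,14,7,20,19,21]))) (.node (.node (.node (.leaf [0,6,4,2,3,5,8,17,12,1,19,14,13,9,11,22,18,23,16,21,15,7,20,10]) (.leaf [0,13,16,12,3,5,18,11,6,2,17,19,1,8,22,14,4,21,9,10,15,23,7,20])) (.leaf [0,6,18,1,3,5,16,14,13,2,19,17,12,9,22,11,4,23,8,7,15,21,10,20])) (.node (.leaf [0,13,8,2,9,5,16,17,12,6,7,21,1,18,23,14,3,20,4,22,15,10,11,19]) (.leaf [0,18,2,16,6,5,9,10,13,8,17,20,1,4,23,19,12,15,3,7,14,11,22,21]))))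 (.node (.node (.node (.node (.leaf [0,4,12,9,13,5,8,20,1,18,11,7,2,16,21,17,6,15,3,23,19,22,14,10]) (.leaf [0,3,1,13,9,5,16,14,18,12,15,17,4,6,7,21,2,19,8,20,23,10,11,22])) (.leaf [0,4,13,2,8,5,12,15,1,9,10,11,18,3,21,23,16,14,6,22,19,17,20,7])) (.node (.leaf [0,1,12,18,2,5,9,11,16,13,23,22,8,3,21,20,4,17,6,15,14,19,10,7]) (.leaf [0,12,3,2,4,5,8,7,6,13,10,14,1,9,11,20,16,21,18,23,15,17,22,19]))) (.node (.node (.node (.leaf [0,8,18,12,2,5,16,11,9,3,23,21,1,13,22,14,4,19,6,7,20,17,10,15]) (.leaf [0,3,2,4,13,5,18,19,1,16,17,11,6,8,20,7,12,15,9,10,21,23,14,22])) (.leaf [0,13,4,16,18,5,8,17,2,3,21,20,9,6,15,22,1,19,12,23,10,14,7,11])) (.node (.leaf [0,9,13,1,3,5,8,14,18,2,15,17,4,6,11,22,12,23,16,10,19,20,7,21]) (.leaf [0,13,18,2,12,5,1,19,9,3,7,21,16,8,22,14,6,11,4,23,10,15,20,17])))))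

/-- Data. -/
def cert660Elt_21 : BT (List ℕ) :=
  (.node (.node (.node (.node (.node (.leaf [0,6,2,4,3,5,1,19,9,8,17,14,13,12,11,15,16,10,18,7,22,21,20,23]) (.leaf [0,6,12,3,16,5,1,20,8,18,23,19,2,13,22,15,4,17,9,11,7,21,14,10])) (.leaf [0,4,3,8,13,5,6,7,2,12,20,11,16,1,19,21,9,10,18,23,17,22,15,14])) (.node (.leaf [0,12,6,8,16,5,2,7,3,9,22,19,1,13,23,15,4,21,18,11,20,17,10,14]) (.leaf [0,16,2,1,3,5,4,19,18,13,15,22,8,12,11,17,6,7,9,10,14,21,23,20]))) (.node (.node (.node (.leaf [0,4,16,9,8,5,6,11,18,2,10,15,1,3,23,21,13,14,12,17,19,22,7,20]) (.leaf [0,8,13,12,16,5,4,23,3,1,15,19,9,6,7,22,2,10,18,14,20,17,21,11])) (.leaf [0,2,3,1,18,5,9,20,12,6,21,22,13,16,17,10,4,23,8,7,15,19,11,14])) (.node (.leaf [0,13,4,2,3,5,9,19,1,12,17,11,6,8,14,22,16,21,18,23,15,10,20,7]) (.leaf [0,12,18,2,13,5,6,7,8,4,19,21,16,9,20,11,1,14,3,23,17,15,22,10])))) (.node (.node (.node (.node (.leaf [0,4,9,3,18,5,13,10,16,1,20,15,6,8,17,22,12,11,2,19,21,23,14,7])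 (.leaf [0,12,18,8,4,5,16,14,1,3,7,10,9,6,15,11,2,19,13,23,20,17,21,22])) (.leaf [0,4,12,6,8,5,13,15,1,16,11,10,3,18,19,23,9,20,2,17,21,22,14,7])) (.node (.leaf [0,3,8,4,18,5,12,17,16,6,22,15,1,9,10,20,13,14,2,7,21,23,11,19]) (.leaf [0,1,18,3,9,5,8,7,6,4,23,17,16,13,15,14,12,11,2,19,21,20,22,10]))) (.node (.node (.node (.leaf [0,6,13,3,8,5,2,10,16,4,23,19,1,12,11,15,18,14,9,22,21,7,17,20]) (.leaf [0,4,18,8,12,5,2,7,6,13,14,10,9,1,21,19,16,11,3,23,22,17,15,20])) (.leaf [0,2,6,16,13,5,3,21,4,12,11,20,8,18,19,7,9,22,1,15,17,10,23,14])) (.node (.leaf [0,16,3,18,1,5,13,23,12,6,7,22,9,2,17,10,8,20,4,21,11,14,15,19]) (.leaf [0,2,1,8,6,5,18,14,16,12,20,23,4,9,10,19,3,21,13,15,17,7,11,22])))))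

/-- Data. -/
def cert660Elt_22 : BT (List ℕ) :=
  (.node (.node (.node (.node (.node (.leaf [0,3,8,16,6,5,1,14,13,2,17,19,9,12,23,20,4,22,18,7,10,21,15,11]) (.leaf [0,6,12,3,2,5,18,23,4,1,20,14,16,9,22,11,8,17,13,15,21,7,19,10])) (.leaf [0,9,13,1,4,5,2,15,12,8,14,7,3,16,11,10,18,23,6,22,20,19,17,21])) (.node (.node (.leaf [0,4,6,18,13,5,3,7,2,9,11,20,1,16,17,21,12,15,8,22,19,23,10,14]) (.leaf [0,4,2,6,16,5,1,15,13,8,7,20,9,18,23,19,3,10,12,17,22,21,14,11])) (.leaf [0,13,2,4,6,5,9,19,18,12,17,20,3,16,14,10,8,7,1,15,23,22,11,21]))) (.node (.node (.node (.leaf [0,3,4,2,13,5,16,17,8,18,19,11,6,1,20,21,9,22,12,23,7,10,14,15]) (.leaf [0,9,12,13,16,5,3,23,4,6,15,7,8,1,19,20,2,17,18,11,22,10,21,14])) (.leaf [0,13,2,8,9,5,6,7,18,16,17,21,1,12,23,15,4,19,3,10,14,22,11,20])) (.node (.leaf [0,16,9,8,2,5,12,20,1,13,22,23,18,6,21,11,4,19,3,10,14,17,15,7]) (.leaf [0,3,6,13,16,5,2,15,12,4,22,19,18,8,20,7,9,11,1,21,23,10,17,14]))))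 (.node (.node (.node (.node (.leaf [0,16,12,13,8,5,18,23,3,2,15,19,9,6,21,11,1,20,4,17,10,14,7,22]) (.leaf [0,16,1,12,18,5,6,15,2,8,20,22,4,3,10,21,9,19,13,14,17,11,7,23])) (.leaf [0,13,4,16,9,5,3,21,1,8,17,7,18,12,15,23,2,19,6,22,14,10,20,11])) (.node (.leaf [0,2,3,4,9,5,18,23,12,16,21,14,8,6,15,7,1,20,13,10,17,19,11,22]) (.leaf [0,8,2,9,6,5,4,19,1,3,10,23,12,16,14,17,13,15,18,7,20,22,21,11]))) (.node (.node (.node (.leaf [0,9,6,1,8,5,12,15,2,4,21,23,18,16,10,11,3,7,13,22,19,20,17,14]) (.leaf [0,18,8,9,16,5,6,22,4,1,20,15,2,3,23,7,12,17,13,14,19,11,21,10])) (.leaf [0,4,12,6,3,5,16,11,9,13,15,14,8,2,19,17,1,20,18,23,22,21,10,7])) (.node (.leaf [0,4,1,8,6,5,9,20,12,16,14,10,2,18,23,19,13,15,3,21,17,22,11,7]) (.leaf [0,1,18,3,16,5,4,23,12,8,7,22,9,2,15,19,6,11,13,14,20,21,17,10])))))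

/-- Data. -/
def cert660Elt_23 : BT (List ℕ) :=
  (.node (.node (.node (.node (.node (.leaf [0,4,3,9,18,5,1,20,8,13,10,15,6,16,17,21,2,7,12,23,22,19,14,11]) (.leaf [0,2,18,13,6,5,1,14,16,3,23,20,9,4,17,19,12,11,8,7,10,15,21,22])) (.leaf [0,3,9,18,13,5,12,11,6,2,19,17,8,1,21,20,4,22,16,10,7,23,15,14])) (.node (.leaf [0,8,9,18,13,5,1,19,2,6,11,21,3,12,17,20,16,10,4,22,7,14,15,23]) (.leaf [0,12,16,13,4,5,18,14,1,2,10,7,6,9,20,11,3,21,8,17,15,23,19,22]))) (.node (.node (.node (.leaf [0,3,12,2,9,5,13,15,6,8,17,14,18,4,21,23,16,11,1,20,7,10,22,19]) (.leaf [0,9,4,12,1,5,8,17,16,18,23,7,6,13,10,22,3,21,2,19,11,20,14,15])) (.leaf [0,8,3,13,1,5,18,23,4,9,10,11,6,2,17,7,16,21,12,20,22,14,19,15])) (.node (.leaf [0,13,18,9,8,5,4,19,2,16,11,21,3,12,15,23,6,7,1,14,10,22,17,20]) (.leaf [0,12,16,13,6,5,2,10,3,18,14,19,4,8,20,17,1,21,9,11,23,15,7,22])))) (.node (.node (.node (.node (.leaf [0,16,4,18,8,5,1,19,9,12,23,15,6,3,10,21,13,22,2,17,11,14,20,7])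 (.leaf [0,16,8,9,2,5,13,22,6,12,20,23,18,1,21,14,3,7,4,17,11,10,15,19])) (.leaf [0,6,3,13,8,5,4,23,12,2,10,19,1,16,11,21,9,20,18,7,15,22,17,14])) (.node (.leaf [0,3,12,16,1,5,4,17,2,9,11,22,13,18,7,23,6,15,8,20,10,21,19,14]) (.leaf [0,2,1,8,4,5,12,20,3,18,14,11,6,13,10,15,16,21,9,19,7,17,23,22]))) (.node (.node (.node (.leaf [0,9,12,2,18,5,1,15,13,16,17,21,3,8,22,20,4,23,6,11,10,19,14,7]) (.leaf [0,13,16,4,18,5,3,21,6,8,17,20,9,2,15,10,12,11,1,14,22,23,7,19])) (.leaf [0,12,9,4,16,5,8,22,13,18,19,7,3,1,15,20,2,10,6,11,23,17,14,21])) (.node (.leaf [0,18,12,8,13,5,16,17,2,3,20,21,6,9,19,11,1,15,4,23,7,14,10,22]) (.leaf [0,1,18,12,8,5,9,11,6,13,23,10,2,4,21,19,3,7,16,14,15,20,22,17])))))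

/-- Data. -/
def cert660Elt_24 : BT (List ℕ) :=
  (.node (.node (.node (.node (.node (.leaf [0,18,1,12,4,5,13,15,6,9,20,10,16,8,7,14,3,21,2,19,11,23,22,17]) (.leaf [0,6,3,12,16,5,18,23,13,1,20,19,2,8,22,7,9,10,4,21,15,11,14,17])) (.leaf [0,12,3,16,8,5,4,21,6,9,10,19,18,13,15,23,2,7,1,20,11,17,22,14])) (.node (.node (.leaf [0,9,6,1,18,5,4,21,3,12,15,17,8,13,10,22,2,7,16,11,20,19,23,14]) (.leaf [0,1,13,4,2,5,18,23,3,6,22,11,16,8,20,14,9,10,12,15,21,19,7,17])) (.leaf [0,8,1,2,16,5,12,15,6,18,19,23,3,9,22,20,4,21,13,14,7,17,11,10]))) (.node (.node (.node (.leaf [0,16,13,4,2,5,8,22,6,3,23,20,1,18,11,14,12,15,9,10,21,17,7,19]) (.leaf [0,4,18,16,3,5,1,14,8,12,11,15,2,9,22,19,6,7,13,23,17,21,20,10])) (.leaf [0,12,2,3,1,5,8,7,18,13,10,22,4,16,11,17,9,19,6,15,23,20,14,21])) (.node (.leaf [0,4,1,8,2,5,16,14,13,9,20,11,6,3,23,21,12,15,18,19,22,17,10,7]) (.leaf [0,1,16,2,18,5,4,17,12,13,10,22,6,3,20,21,9,11,8,14,15,19,23,7]))))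 (.node (.node (.node (.node (.leaf [0,12,6,3,13,5,18,7,8,1,21,19,9,16,17,11,4,22,2,15,20,23,14,10]) (.leaf [0,18,3,16,12,5,6,21,1,13,10,22,8,2,19,7,9,20,4,23,14,11,15,17])) (.leaf [0,8,3,13,6,5,9,10,16,18,23,19,1,12,17,20,4,21,2,7,14,22,11,15])) (.node (.leaf [0,3,18,1,12,5,8,14,16,4,19,22,6,2,10,7,9,11,13,23,21,20,17,15]) (.leaf [0,1,6,18,4,5,2,7,8,16,11,10,13,12,20,15,9,22,3,21,14,19,17,23]))) (.node (.node (.node (.leaf [0,1,3,13,8,5,16,10,2,12,23,11,6,4,19,21,18,7,9,20,15,14,17,22]) (.leaf [0,18,8,4,3,5,13,22,9,2,17,15,1,16,11,14,12,20,6,7,19,23,10,21])) (.leaf [0,4,13,1,9,5,18,14,16,6,15,7,3,12,17,23,2,10,8,22,21,19,11,20])) (.node (.leaf [0,3,13,8,2,5,18,14,1,9,22,11,12,4,21,23,6,15,16,10,20,7,19,17]) (.leaf [0,13,1,9,6,5,8,20,3,2,19,17,16,18,23,14,4,21,12,15,10,22,7,11])))))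

/-- Data. -/
def cert660Elt_25 : BT (List ℕ) :=
  (.node (.node (.node (.node (.node (.leaf [0,2,13,8,12,5,16,14,18,6,22,21,3,9,19,10,4,23,1,15,7,17,11,20]) (.leaf [0,4,6,2,16,5,8,7,18,1,15,20,9,13,23,22,12,11,3,21,19,17,14,10])) (.leaf [0,13,2,8,1,5,16,17,4,6,7,11,9,3,23,10,18,19,12,15,22,14,21,20])) (.node (.node (.leaf [0,1,3,18,16,5,8,7,2,4,23,22,9,12,15,20,13,10,6,21,19,14,17,11]) (.leaf [0,1,13,9,12,5,8,22,4,2,10,7,18,16,21,14,3,23,6,15,19,20,17,11])) (.leaf [0,9,4,3,2,5,13,23,12,1,21,14,8,6,11,22,16,17,18,19,20,10,15,7]))) (.node (.node (.node (.leaf [0,8,4,18,6,5,2,19,1,13,23,10,16,12,20,17,3,21,9,22,14,7,15,11]) (.leaf [0,3,1,13,4,5,12,15,2,16,14,11,9,8,7,20,18,19,6,21,10,23,17,22])) (.leaf [0,13,12,16,1,5,18,11,9,2,17,7,3,4,22,23,8,20,6,15,10,14,19,21])) (.node (.leaf [0,18,9,13,1,5,16,10,3,4,22,17,12,6,7,11,8,20,2,19,23,14,21,15]) (.leaf [0,9,4,16,13,5,2,17,12,6,21,7,18,1,20,19,3,23,8,22,11,10,15,14]))))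 (.node (.node (.node (.node (.leaf [0,6,1,8,4,5,13,14,18,3,20,10,2,12,11,15,9,19,16,21,7,22,23,17]) (.leaf [0,2,1,16,12,5,4,21,3,13,14,22,9,18,7,19,8,20,6,15,10,17,23,11])) (.leaf [0,9,2,6,4,5,13,15,12,18,7,14,16,3,20,10,8,17,1,19,11,22,23,21])) (.node (.leaf [0,12,6,8,1,5,9,22,4,2,7,10,16,18,23,11,3,21,13,15,17,20,19,14]) (.leaf [0,16,18,2,12,5,8,7,3,9,19,22,13,1,21,14,4,23,6,11,10,17,20,15]))) (.node (.node (.node (.leaf [0,3,12,2,18,5,8,17,16,13,15,22,9,1,21,20,6,11,4,23,10,7,14,19]) (.leaf [0,3,12,6,4,5,1,15,2,18,11,14,8,9,10,20,16,17,13,23,7,21,19,22])) (.leaf [0,6,3,13,1,5,2,10,9,4,23,17,8,18,11,7,12,20,16,21,22,15,19,14])) (.node (.leaf [0,4,12,1,16,5,3,20,9,2,15,7,18,13,22,23,6,11,8,17,19,21,10,14]) (.leaf [0,9,8,18,4,5,1,14,16,6,7,15,12,3,10,20,2,17,13,22,11,19,21,23])))))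

/-- Data. -/
def cert660Elt_26 : BT (List ℕ) :=
  (.node (.node (.node (.node (.node (.leaf [0,2,18,16,4,5,8,14,13,9,11,20,3,6,15,7,12,23,1,19,10,17,22,21]) (.leaf [0,3,13,6,18,5,2,15,1,4,22,17,16,9,20,10,8,14,12,23,21,7,19,11])) (.leaf [0,3,13,8,12,5,9,22,6,18,14,19,2,16,21,10,1,15,4,23,7,20,11,17])) (.node (.node (.leaf [0,12,4,1,13,5,2,19,9,3,21,7,8,16,11,17,6,22,18,23,20,15,10,14]) (.leaf [0,2,9,12,4,5,16,11,6,1,20,14,13,3,7,10,8,22,18,19,15,17,21,23])) (.leaf [0,12,13,8,2,5,4,22,9,1,14,21,3,18,11,23,16,10,6,15,20,17,19,7]))) (.node (.node (.node (.leaf [0,2,12,9,13,5,16,11,18,1,20,21,4,8,7,17,3,23,6,15,19,10,14,22]) (.leaf [0,1,9,13,18,5,8,22,6,2,10,17,12,3,21,20,16,11,4,19,15,14,7,23])) (.leaf [0,1,4,8,18,5,16,17,12,9,22,10,3,6,15,21,13,23,2,19,20,14,11,7])) (.node (.leaf [0,16,3,18,9,5,6,7,8,13,23,15,1,4,17,21,12,20,2,10,14,11,22,19]) (.leaf [0,16,8,3,13,5,2,7,6,1,20,19,4,12,11,17,9,22,18,14,21,10,15,23]))))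 (.node (.node (.node (.node (.leaf [0,4,9,3,6,5,1,20,12,13,10,14,18,2,17,19,16,11,8,22,23,21,15,7]) (.leaf [0,18,8,12,13,5,3,20,9,16,17,21,6,2,19,7,4,22,1,14,11,23,10,15])) (.leaf [0,4,8,18,12,5,13,14,1,2,7,10,9,6,21,22,3,20,16,17,19,23,15,11])) (.node (.leaf [0,4,6,18,1,5,9,11,12,3,7,10,13,8,17,22,2,15,16,21,23,19,20,14]) (.leaf [0,1,8,4,3,5,16,17,2,9,22,11,18,13,15,14,6,7,12,20,19,21,10,23]))) (.node (.node (.node (.leaf [0,3,4,8,18,5,6,22,9,12,17,15,1,16,10,21,2,19,13,23,20,7,11,14]) (.leaf [0,3,18,9,13,5,2,19,1,12,11,17,8,6,21,7,16,14,4,23,20,10,15,22])) (.leaf [0,9,2,6,16,5,18,7,8,13,15,23,4,1,20,19,12,17,3,10,22,11,14,21])) (.node (.leaf [0,12,8,18,4,5,3,7,6,16,14,10,9,1,15,20,13,22,2,17,11,23,21,19]) (.leaf [0,18,9,3,4,5,12,20,8,2,10,15,6,16,14,11,13,22,1,19,7,23,17,21])))))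

/-- Data. -/
def cert660Elt_27 : BT (List ℕ) :=
  (.node (.node (.node (.node (.node (.leaf [0,9,1,16,2,5,3,21,6,18,14,23,12,8,22,20,13,15,4,19,11,10,7,17]) (.leaf [0,9,16,8,6,5,13,14,1,12,17,23,3,2,19,10,4,21,18,11,20,22,15,7])) (.leaf [0,2,3,1,13,5,6,21,4,9,20,11,18,8,17,7,12,23,16,10,19,15,22,14])) (.node (.leaf [0,6,8,1,4,5,3,20,12,13,14,10,2,18,11,7,16,17,9,22,15,21,23,19]) (.leaf [0,13,12,9,4,5,6,11,16,3,20,7,2,1,14,15,8,17,18,23,10,22,21,19]))) (.node (.node (.node (.leaf [0,1,4,13,16,5,18,23,12,6,22,7,2,9,20,19,8,17,3,21,15,14,11,10]) (.leaf [0,16,18,4,6,5,1,19,2,12,23,20,8,13,10,14,3,7,9,11,17,21,15,22])) (.leaf [0,12,8,13,3,5,4,22,6,1,14,19,2,16,11,17,18,7,9,20,15,23,21,10])) (.node (.leaf [0,13,1,3,18,5,12,20,9,16,21,17,2,6,22,15,4,19,8,14,10,23,11,7]) (.leaf [0,13,12,9,2,5,3,20,8,6,11,21,4,18,14,23,16,17,1,15,22,10,7,19])))) (.node (.node (.node (.node (.leaf [0,8,9,2,6,5,3,10,16,4,19,23,12,1,14,20,18,11,13,22,17,7,21,15])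 (.leaf [0,8,1,6,9,5,13,15,2,3,21,23,18,16,17,14,4,19,12,20,7,22,10,11])) (.leaf [0,2,8,13,12,5,6,22,9,16,14,21,3,18,19,7,1,20,4,17,10,15,11,23])) (.node (.leaf [0,8,9,18,3,5,6,11,16,1,19,15,13,4,17,22,2,10,12,20,14,7,21,23]) (.leaf [0,9,8,18,12,5,6,7,2,1,14,21,4,13,10,22,16,17,3,20,19,11,15,23]))) (.node (.node (.node (.leaf [0,8,18,12,1,5,3,23,4,16,11,10,2,6,22,7,9,19,13,14,17,20,21,15]) (.leaf [0,4,1,13,9,5,6,15,12,18,14,7,3,16,17,21,8,20,2,19,23,22,11,10])) (.leaf [0,13,2,18,16,5,1,19,4,3,7,20,12,6,22,15,8,17,9,10,23,14,21,11])) (.node (.leaf [0,12,18,1,6,5,13,14,8,9,19,10,3,4,17,23,2,7,16,11,20,15,22,21]) (.leaf [0,1,16,2,6,5,13,10,9,4,17,23,18,8,20,14,12,11,3,21,19,15,22,7])))))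

/-- Data. -/
def cert660Elt_28 : BT (List ℕ) :=
  (.node (.node (.node (.node (.node (.leaf [0,8,18,4,16,5,2,19,9,13,23,15,6,3,20,7,12,11,1,14,22,17,10,21]) (.leaf [0,2,1,16,9,5,13,14,8,4,21,23,12,6,7,15,3,20,18,19,17,10,22,11])) (.leaf [0,18,12,1,16,5,13,15,2,9,20,22,4,3,7,23,8,17,6,11,19,14,10,21])) (.node (.node (.leaf [0,1,12,18,8,5,13,23,4,9,11,10,2,6,21,15,16,17,3,20,19,14,22,7]) (.leaf [0,2,6,4,12,5,8,22,9,1,21,14,18,3,10,7,16,11,13,15,19,17,20,23])) (.leaf [0,16,8,3,4,5,1,20,9,2,7,15,13,18,11,14,6,22,12,17,10,21,19,23]))) (.node (.node (.node (.leaf [0,8,12,18,1,5,16,11,6,3,23,10,2,4,22,17,13,15,9,20,7,14,21,19]) (.leaf [0,8,16,6,2,5,18,11,9,4,21,23,13,1,20,14,3,10,12,17,22,7,19,15])) (.leaf [0,16,3,12,6,5,9,20,8,4,23,19,2,13,14,10,18,7,1,21,17,11,22,15])) (.node (.leaf [0,6,9,3,4,5,16,10,2,8,20,14,18,12,15,11,1,19,13,22,7,21,17,23]) (.leaf [0,8,1,2,3,5,18,19,4,12,15,11,16,13,22,14,6,21,9,20,17,7,23,10]))))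 (.node (.node (.node (.node (.leaf [0,13,3,6,12,5,2,7,8,4,21,19,9,16,14,10,1,20,18,23,22,15,17,11]) (.leaf [0,8,13,12,9,5,1,15,2,4,23,21,16,18,7,14,3,10,6,22,17,20,19,11])) (.leaf [0,1,12,4,6,5,3,23,18,2,17,10,9,8,14,20,16,11,13,15,19,21,7,22])) (.node (.leaf [0,9,8,16,6,5,12,17,2,13,14,23,3,1,19,20,18,7,4,22,10,11,15,21]) (.leaf [0,6,1,18,12,5,16,14,8,2,19,10,3,4,22,21,9,20,13,15,7,11,17,23]))) (.node (.node (.node (.leaf [0,9,12,2,3,5,16,17,4,1,15,14,18,6,22,11,13,23,8,20,19,10,21,7]) (.leaf [0,9,12,4,6,5,8,17,2,18,23,14,1,3,10,20,13,15,16,11,19,22,7,21])) (.leaf [0,2,16,1,9,5,4,21,6,13,14,23,12,8,7,17,18,11,3,10,15,19,22,20])) (.node (.leaf [0,4,6,12,3,5,13,15,2,16,11,14,8,9,19,22,18,7,1,21,17,23,10,20]) (.leaf [0,16,4,9,12,5,6,22,13,2,19,7,3,1,14,21,18,23,8,17,10,11,15,20])))))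

/-- Data. -/
def cert660Elt_29 : BT (List ℕ) :=
  (.node (.node (.node (.node (.node (.leaf [0,12,3,6,9,5,18,7,2,1,21,14,13,4,17,23,16,10,8,20,15,11,19,22]) (.leaf [0,6,4,12,9,5,16,17,2,13,23,14,1,3,7,21,18,19,8,22,15,11,10,20])) (.leaf [0,12,1,16,2,5,8,14,18,6,21,22,9,3,23,20,4,19,13,15,11,17,7,10])) (.node (.leaf [0,3,8,4,1,5,6,22,13,12,17,11,18,2,10,7,16,14,9,20,23,21,15,19]) (.leaf [0,12,13,9,18,5,6,22,8,3,10,21,1,2,17,15,16,14,4,23,20,11,7,19]))) (.node (.node (.node (.leaf [0,6,16,2,1,5,12,17,8,3,10,23,18,9,22,11,13,14,4,21,7,15,20,19]) (.leaf [0,18,8,12,6,5,16,17,4,3,20,10,13,1,19,14,9,22,2,7,23,11,21,15])) (.leaf [0,3,9,18,8,5,2,19,4,12,11,15,13,16,21,10,6,22,1,20,23,7,17,14])) (.node (.leaf [0,8,18,9,3,5,1,19,4,6,11,15,13,16,17,14,12,23,2,7,22,20,21,10]) (.leaf [0,3,6,9,2,5,16,11,12,8,22,14,1,4,23,21,13,15,18,7,20,10,17,19])))) (.node (.node (.node (.node (.leaf [0,16,12,13,9,5,2,15,1,18,23,7,8,4,21,17,3,20,6,11,14,10,19,22])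 (.leaf [0,3,9,4,16,5,1,19,18,13,22,15,12,8,7,20,6,11,2,10,23,21,14,17])) (.leaf [0,2,18,12,8,5,4,23,13,6,11,21,1,9,10,19,16,14,3,7,15,17,22,20])) (.node (.leaf [0,9,1,6,8,5,4,21,16,12,15,23,18,2,10,19,13,14,3,20,11,22,17,7]) (.leaf [0,4,2,3,1,5,16,10,13,18,7,11,12,8,22,17,6,15,9,19,23,21,14,20]))) (.node (.node (.node (.leaf [0,8,2,13,4,5,6,15,1,16,10,11,18,3,20,7,9,19,12,17,14,22,21,23]) (.leaf [0,6,8,16,9,5,18,14,1,4,17,23,3,2,15,7,12,20,13,22,21,11,19,10])) (.leaf [0,3,18,16,4,5,6,11,9,13,14,15,2,8,20,7,1,19,12,23,10,21,22,17])) (.node (.leaf [0,16,9,8,18,5,13,22,4,12,20,15,2,3,21,10,1,19,6,11,17,14,23,7]) (.leaf [0,6,12,4,1,5,16,17,8,13,23,10,9,18,7,11,3,20,2,15,22,21,14,19])))))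

/-- Data. -/
def cert660Elt_30 : BT (List ℕ) :=
  (.node (.node (.node (.node (.node (.leaf [0,1,8,6,12,5,13,22,4,3,7,10,16,18,19,14,2,17,9,20,21,15,23,11]) (.leaf [0,8,2,1,3,5,12,15,13,18,19,11,16,4,22,17,9,10,6,7,14,20,23,21])) (.leaf [0,4,6,12,8,5,16,11,18,13,15,10,3,1,19,21,2,7,9,22,23,17,14,20])) (.node (.node (.leaf [0,2,3,4,8,5,16,21,1,18,23,11,9,13,15,10,12,20,6,7,19,17,14,22]) (.leaf [0,4,2,6,9,5,8,7,3,1,15,14,16,12,23,17,13,10,18,19,21,22,20,11])) (.leaf [0,1,2,16,6,5,4,17,8,13,10,23,18,9,20,19,3,7,12,15,14,21,22,11]))) (.node (.node (.node (.leaf [0,18,13,9,12,5,16,10,2,4,22,21,1,8,7,14,6,15,3,23,19,11,17,20]) (.leaf [0,2,18,13,9,5,3,23,12,1,14,21,6,8,17,7,16,11,4,19,15,10,20,22])) (.leaf [0,4,3,8,16,5,12,20,9,6,7,15,13,18,19,23,2,10,1,21,22,17,11,14])) (.node (.leaf [0,2,3,12,16,5,8,20,1,13,23,22,6,18,19,7,4,21,9,10,15,17,14,11]) (.leaf [0,6,18,4,16,5,3,23,13,9,19,20,8,2,15,7,1,14,12,11,22,21,10,17]))))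 (.node (.node (.node (.node (.leaf [0,16,4,13,1,5,8,22,9,3,23,7,2,12,11,17,18,19,6,21,10,14,20,15]) (.leaf [0,16,18,4,8,5,12,23,3,1,19,15,6,9,10,11,2,7,13,14,21,17,20,22])) (.leaf [0,2,16,1,12,5,13,14,18,4,21,22,9,3,7,10,6,11,8,17,19,15,23,20])) (.node (.leaf [0,3,1,2,16,5,9,19,18,6,15,22,8,12,23,20,13,14,4,21,7,10,11,17]) (.leaf [0,1,3,2,4,5,9,10,13,6,7,11,12,8,14,20,18,23,16,21,15,19,22,17]))) (.node (.node (.node (.leaf [0,3,13,1,4,5,16,14,8,12,15,11,9,2,7,10,6,22,18,23,20,21,17,19]) (.leaf [0,18,8,4,1,5,2,17,12,13,22,10,3,6,11,7,9,20,16,14,23,19,15,21])) (.leaf [0,2,18,12,1,5,6,11,16,4,23,22,8,3,10,7,13,14,9,19,17,15,21,20])) (.node (.leaf [0,13,8,2,1,5,6,7,3,16,17,11,9,4,23,22,12,20,18,14,10,15,21,19]) (.leaf [0,4,2,3,12,5,18,7,6,16,10,14,1,9,22,19,13,15,8,17,21,23,11,20])))))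

/-- Data. -/
def cert660Elt_31 : BT (List ℕ) :=
  (.node (.node (.node (.node (.node (.leaf [0,1,16,9,8,5,3,10,2,18,11,23,4,6,15,21,12,17,13,14,19,20,7,22]) (.leaf [0,18,13,2,8,5,3,10,9,1,15,21,4,12,11,23,6,22,16,14,19,7,20,17])) (.leaf [0,18,6,4,12,5,3,21,1,9,22,10,2,8,14,7,13,15,16,11,19,23,20,17])) (.node (.leaf [0,3,12,16,13,5,9,11,6,4,17,19,1,8,7,20,2,15,18,23,21,10,22,14]) (.leaf [0,16,18,2,13,5,9,19,4,8,7,20,12,6,21,11,3,23,1,14,17,10,22,15]))) (.node (.node (.node (.leaf [0,6,13,3,1,5,4,23,18,2,10,17,8,9,11,22,16,14,12,15,7,21,19,20]) (.leaf [0,1,8,2,9,5,18,7,6,12,17,23,13,16,21,14,4,22,3,20,15,19,11,10])) (.leaf [0,4,13,2,18,5,9,10,16,12,15,20,8,6,21,22,1,14,3,23,17,19,11,7])) (.node (.leaf [0,2,16,18,4,5,9,11,6,8,14,20,3,13,15,10,1,21,12,17,7,19,22,23]) (.leaf [0,2,8,1,6,5,12,20,9,18,14,23,4,16,10,17,13,22,3,7,19,15,11,21])))) (.node (.node (.node (.node (.leaf [0,9,18,3,1,5,12,23,13,2,7,17,16,6,22,11,8,14,4,19,10,20,15,21])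 (.leaf [0,9,16,4,18,5,2,17,8,6,21,15,13,3,20,10,1,14,12,11,22,19,7,23])) (.leaf [0,8,13,2,4,5,16,10,3,6,15,11,18,1,20,14,12,23,9,22,7,17,21,19])) (.node (.leaf [0,13,3,1,18,5,16,21,6,12,20,17,2,9,22,10,8,7,4,23,15,14,11,19]) (.leaf [0,6,12,4,9,5,13,23,3,16,17,14,1,2,7,15,8,20,18,11,21,22,10,19]))) (.node (.node (.node (.leaf [0,12,8,6,16,5,9,22,13,2,7,19,1,3,23,20,18,14,4,17,15,11,10,21]) (.leaf [0,1,18,6,4,5,16,11,12,2,7,10,13,8,20,14,3,23,9,19,15,21,17,22])) (.leaf [0,2,4,13,16,5,9,22,6,12,23,20,1,18,7,19,3,21,8,17,15,10,11,14])) (.node (.leaf [0,8,4,1,13,5,16,21,3,9,19,11,12,2,7,17,18,23,6,22,20,14,10,15]) (.leaf [0,16,8,9,18,5,12,20,3,13,22,15,2,4,21,17,6,7,1,14,10,11,23,19])))))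

/-- Data. -/
def cert660Elt : BT (List ℕ) :=
  (.node (.node (.node (.node (.node cert660Elt_0 cert660Elt_1) (.node cert660Elt_2 cert660Elt_3)) (.node (.node cert660Elt_4 cert660Elt_5) (.node cert660Elt_6 cert660Elt_7))) (.node (.node (.node cert660Elt_8 cert660Elt_9) (.node cert660Elt_10 cert660Elt_11)) (.node (.node cert660Elt_12 cert660Elt_13) (.node cert660Elt_14 cert660Elt_15)))) (.node (.node (.node (.node cert660Elt_16 cert660Elt_17) (.node cert660Elt_18 cert660Elt_19)) (.node (.node cert660Elt_20 cert660Elt_21) (.node cert660Elt_22 cert660Elt_23))) (.node (.node (.node cert660Elt_24 cert660Elt_25) (.node cert660Elt_26 cert660Elt_27)) (.node (.node cert660Elt_28 cert660Elt_29) (.node cert660Elt_30 cert660Elt_31)))))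

/-- Data. -/
def cert660Par_0 : BT (ℕ × ℕ) :=
  (.node (.node (.node (.node (.node (.node (.node (.leaf (0, 0)) (.leaf (0, 390))) (.leaf (1, 180))) (.node (.node (.leaf (1, 86)) (.leaf (1, 567))) (.leaf (1, 275)))) (.node (.node (.node (.leaf (1, 42)) (.leaf (1, 459))) (.leaf (1, 226))) (.node (.leaf (1, 133)) (.leaf (0, 329))))) (.node (.node (.node (.node (.leaf (0, 21)) (.leaf (1, 426))) (.leaf (0, 202))) (.node (.leaf (1, 108)) (.leaf (0, 302)))) (.node (.node (.node (.leaf (1, 64)) (.leaf (1, 508))) (.leaf (1, 249))) (.node (.leaf (0, 156)) (.leaf (1, 360)))))) (.node (.node (.node (.node (.node (.leaf (0, 10)) (.leaf (0, 410))) (.leaf (1, 191))) (.node (.node (.leaf (1, 97)) (.leaf (0, 626))) (.leaf (0, 290)))) (.node (.node (.node (.leaf (0, 54)) (.leaf (0, 487))) (.leaf (0, 237))) (.node (.leaf (1, 145)) (.leaf (1, 346))))) (.node (.node (.node (.node (.leaf (0, 32)) (.leaf (0, 443)))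 (.leaf (1, 214))) (.node (.leaf (0, 121)) (.leaf (1, 316)))) (.node (.node (.node (.leaf (1, 75)) (.leaf (1, 527))) (.leaf (0, 262))) (.node (.leaf (0, 168)) (.leaf (0, 377))))))) (.node (.node (.node (.node (.node (.node (.leaf (0, 5)) (.leaf (0, 399))) (.leaf (1, 185))) (.node (.node (.leaf (0, 92)) (.leaf (1, 586))) (.leaf (1, 284)))) (.node (.node (.node (.leaf (0, 48)) (.leaf (1, 477))) (.leaf (1, 231))) (.node (.leaf (0, 139)) (.leaf (0, 338))))) (.node (.node (.node (.node (.leaf (0, 27)) (.leaf (1, 434))) (.leaf (1, 208))) (.node (.leaf (1, 115)) (.leaf (0, 309)))) (.node (.node (.node (.leaf (0, 70)) (.leaf (1, 519))) (.leaf (1, 255))) (.node (.leaf (1, 161)) (.leaf (1, 369)))))) (.node (.node (.node (.node (.node (.leaf (1, 15)) (.leaf (1, 419))) (.leaf (0, 196))) (.node (.leaf (1, 102)) (.leaf (1, 295)))) (.node (.node (.node (.leaf (1, 59)) (.leaf (1, 495))) (.leaf (0, 242)))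 (.node (.leaf (0, 151)) (.leaf (0, 353))))) (.node (.node (.node (.node (.leaf (1, 37)) (.leaf (0, 451))) (.leaf (0, 221))) (.node (.leaf (0, 126)) (.leaf (0, 324)))) (.node (.node (.node (.leaf (1, 80)) (.leaf (0, 549))) (.leaf (1, 268))) (.node (.leaf (0, 173)) (.leaf (0, 382))))))))

/-- Data. -/
def cert660Par_1 : BT (ℕ × ℕ) :=
  (.node (.node (.node (.node (.node (.node (.node (.leaf (1, 2)) (.leaf (1, 394))) (.leaf (0, 183))) (.node (.node (.leaf (0, 89)) (.leaf (0, 580))) (.leaf (0, 280)))) (.node (.node (.node (.leaf (1, 45)) (.leaf (1, 468))) (.leaf (0, 229))) (.node (.leaf (0, 136)) (.leaf (0, 333))))) (.node (.node (.node (.node (.leaf (1, 23)) (.leaf (1, 429))) (.leaf (1, 204))) (.node (.leaf (0, 113)) (.leaf (1, 306)))) (.node (.node (.node (.leaf (0, 67)) (.leaf (0, 512))) (.leaf (0, 253))) (.node (.leaf (1, 158)) (.leaf (1, 364)))))) (.node (.node (.node (.node (.node (.leaf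 (1, 12)) (.leaf (1, 414))) (.leaf (1, 193))) (.node (.leaf (0, 100)) (.leaf (1, 293)))) (.node (.node (.node (.leaf (1, 56)) (.leaf (1, 491))) (.leaf (1, 239))) (.node (.leaf (0, 148)) (.leaf (0, 351))))) (.node (.node (.node (.node (.leaf (0, 35)) (.leaf (0, 448))) (.leaf (1, 218))) (.node (.leaf (1, 123)) (.leaf (0, 321)))) (.node (.node (.node (.leaf (0, 78)) (.leaf (1, 534))) (.leaf (0, 266))) (.node (.leaf (1, 170)) (.leaf (1, 379))))))) (.node (.node (.node (.node (.node (.node (.leaf (1, 7)) (.leaf (0, 403))) (.leaf (1, 188))) (.node (.node (.leaf (1, 94)) (.leaf (1, 616))) (.leaf (1, 286)))) (.node (.node (.node (.leaf (1, 50)) (.leaf (0, 481))) (.leaf (1, 234))) (.node (.leaf (1, 141)) (.leaf (0, 343))))) (.node (.node (.node (.node (.leaf (1, 29)) (.leaf (1, 439))) (.leaf (0, 212))) (.node (.leaf (1, 118)) (.leaf (1, 313)))) (.node (.node (.node (.leaf (1, 72)) (.leaf (0, 524)))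 (.leaf (1, 259))) (.node (.leaf (1, 164)) (.leaf (0, 374)))))) (.node (.node (.node (.node (.node (.leaf (0, 18)) (.leaf (1, 422))) (.leaf (1, 198))) (.node (.leaf (0, 106)) (.leaf (0, 299)))) (.node (.node (.node (.leaf (0, 62)) (.leaf (0, 503))) (.leaf (0, 245))) (.node (.leaf (1, 153)) (.leaf (0, 356))))) (.node (.node (.node (.node (.leaf (0, 40)) (.leaf (1, 456))) (.leaf (0, 224))) (.node (.leaf (0, 129)) (.leaf (1, 326)))) (.node (.node (.node (.leaf (0, 84)) (.leaf (0, 555))) (.leaf (0, 271))) (.node (.leaf (1, 177)) (.leaf (1, 385))))))))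

/-- Data. -/
def cert660Par_2 : BT (ℕ × ℕ) :=
  (.node (.node (.node (.node (.node (.node (.node (.leaf (1, 1)) (.leaf (1, 391))) (.leaf (1, 181))) (.node (.node (.leaf (1, 87)) (.leaf (0, 572))) (.leaf (0, 278)))) (.node (.node (.node (.leaf (1, 44)) (.leaf (0, 462))) (.leaf (1, 227))) (.node (.leaf (1, 134)) (.leaf (1, 330))))) (.node (.node (.node (.node (.leaf (1, 22)) (.leaf (1, 427))) (.leaf (0, 203))) (.node (.leaf (0, 111)) (.leaf (1, 303)))) (.node (.node (.node (.leaf (1, 65)) (.leaf (1, 509))) (.leaf (0, 251))) (.node (.leaf (1, 157)) (.leaf (1, 363)))))) (.node (.node (.node (.node (.node (.leaf (0, 11)) (.leaf (1, 413))) (.leaf (1, 192))) (.node (.node (.leaf (0, 99)) (.leaf (0, 639))) (.leaf (1, 292)))) (.node (.node (.node (.leaf (0, 55)) (.leaf (1, 489))) (.leaf (0, 238))) (.node (.leaf (1, 146)) (.leaf (0, 350))))) (.node (.node (.node (.node (.leaf (0, 34)) (.leaf (0, 445)))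 (.leaf (0, 216))) (.node (.leaf (0, 122)) (.leaf (0, 319)))) (.node (.node (.node (.leaf (0, 77)) (.leaf (1, 532))) (.leaf (0, 265))) (.node (.leaf (0, 169)) (.leaf (1, 378))))))) (.node (.node (.node (.node (.node (.node (.leaf (1, 6)) (.leaf (1, 401))) (.leaf (1, 187))) (.node (.node (.leaf (1, 93)) (.leaf (1, 596))) (.leaf (1, 285)))) (.node (.node (.node (.leaf (1, 49)) (.leaf (0, 480))) (.leaf (1, 233))) (.node (.leaf (1, 140)) (.leaf (0, 340))))) (.node (.node (.node (.node (.leaf (0, 28)) (.leaf (1, 437))) (.leaf (1, 209))) (.node (.leaf (1, 116)) (.leaf (1, 311)))) (.node (.node (.node (.leaf (1, 71)) (.leaf (0, 523))) (.leaf (0, 257))) (.node (.leaf (1, 163)) (.leaf (1, 370)))))) (.node (.node (.node (.node (.node (.leaf (1, 16)) (.leaf (1, 420))) (.leaf (1, 197))) (.node (.leaf (0, 104)) (.leaf (0, 297)))) (.node (.node (.node (.leaf (1, 60)) (.leaf (1, 496))) (.leaf (0, 244)))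 (.node (.leaf (1, 152)) (.leaf (0, 354))))) (.node (.node (.node (.node (.leaf (1, 38)) (.leaf (1, 453))) (.leaf (0, 223))) (.node (.leaf (0, 128)) (.leaf (1, 325)))) (.node (.node (.node (.leaf (0, 82)) (.leaf (0, 554))) (.leaf (1, 269))) (.node (.leaf (1, 175)) (.leaf (1, 383))))))))

/-- Data. -/
def cert660Par_3 : BT (ℕ × ℕ) :=
  (.node (.node (.node (.node (.node (.node (.node (.leaf (1, 3)) (.leaf (1, 397))) (.leaf (0, 184))) (.node (.node (.leaf (0, 91)) (.leaf (1, 581))) (.leaf (0, 282)))) (.node (.node (.node (.leaf (0, 47)) (.leaf (1, 474))) (.leaf (1, 230))) (.node (.leaf (0, 138)) (.leaf (0, 336))))) (.node (.node (.node (.node (.leaf (0, 25)) (.leaf (1, 433))) (.leaf (1, 207))) (.node (.leaf (0, 114)) (.leaf (0, 308)))) (.node (.node (.node (.leaf (0, 69)) (.leaf (1, 515))) (.leaf (1, 254))) (.node (.leaf (1, 160)) (.leaf (1, 365)))))) (.node (.node (.node (.node (.node (.leaf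 (1, 13)) (.leaf (1, 417))) (.leaf (0, 195))) (.node (.leaf (1, 101)) (.leaf (1, 294)))) (.node (.node (.node (.leaf (1, 57)) (.leaf (1, 493))) (.leaf (1, 240))) (.node (.leaf (0, 150)) (.leaf (0, 352))))) (.node (.node (.node (.node (.leaf (1, 36)) (.leaf (1, 449))) (.leaf (1, 219))) (.node (.leaf (1, 124)) (.leaf (0, 323)))) (.node (.node (.node (.leaf (1, 79)) (.leaf (0, 539))) (.leaf (0, 267))) (.node (.leaf (1, 171)) (.leaf (1, 380))))))) (.node (.node (.node (.node (.node (.node (.leaf (1, 8)) (.leaf (0, 405))) (.leaf (1, 190))) (.node (.node (.leaf (1, 96)) (.leaf (0, 618))) (.leaf (1, 288)))) (.node (.node (.node (.leaf (0, 52)) (.leaf (1, 483))) (.leaf (1, 235))) (.node (.leaf (0, 143)) (.leaf (0, 344))))) (.node (.node (.node (.node (.leaf (1, 30)) (.leaf (1, 440))) (.leaf (1, 213))) (.node (.leaf (1, 119)) (.leaf (1, 315)))) (.node (.node (.node (.leaf (1, 74)) (.leaf (0, 526)))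 (.leaf (1, 260))) (.node (.leaf (0, 166)) (.leaf (0, 376)))))) (.node (.node (.node (.node (.node (.leaf (0, 20)) (.leaf (0, 424))) (.leaf (0, 200))) (.node (.leaf (0, 107)) (.leaf (0, 300)))) (.node (.node (.node (.leaf (0, 63)) (.leaf (0, 507))) (.leaf (1, 246))) (.node (.leaf (1, 154)) (.leaf (0, 359))))) (.node (.node (.node (.node (.leaf (1, 41)) (.leaf (0, 458))) (.leaf (1, 225))) (.node (.leaf (1, 130)) (.leaf (1, 327)))) (.node (.node (.node (.leaf (0, 85)) (.leaf (1, 563))) (.leaf (0, 273))) (.node (.leaf (1, 178)) (.leaf (1, 388))))))))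

/-- Data. -/
def cert660Par_4 : BT (ℕ × ℕ) :=
  (.node (.node (.node (.node (.node (.node (.node (.leaf (1, 0)) (.leaf (1, 390))) (.leaf (0, 181))) (.node (.node (.leaf (0, 87)) (.leaf (0, 571))) (.leaf (1, 277)))) (.node (.node (.node (.leaf (0, 44)) (.leaf (1, 461))) (.leaf (0, 227))) (.node (.leaf (0, 134)) (.leaf (1, 329))))) (.node (.node (.node (.node (.leaf (1, 21)) (.leaf (0, 427))) (.leaf (1, 202))) (.node (.leaf (0, 109)) (.leaf (0, 303)))) (.node (.node (.node (.leaf (0, 65)) (.leaf (0, 509))) (.leaf (1, 250))) (.node (.leaf (1, 156)) (.leaf (1, 362)))))) (.node (.node (.node (.node (.node (.leaf (1, 10)) (.leaf (0, 412))) (.leaf (0, 192))) (.node (.node (.leaf (1, 98)) (.leaf (1, 631))) (.leaf (0, 292)))) (.node (.node (.node (.leaf (1, 54)) (.leaf (1, 488))) (.leaf (1, 237))) (.node (.leaf (0, 146)) (.leaf (1, 347))))) (.node (.node (.node (.node (.leaf (1, 32)) (.leaf (1, 443)))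 (.leaf (1, 215))) (.node (.leaf (1, 121)) (.leaf (1, 318)))) (.node (.node (.node (.leaf (1, 76)) (.leaf (1, 530))) (.leaf (1, 264))) (.node (.leaf (1, 168)) (.leaf (1, 377))))))) (.node (.node (.node (.node (.node (.node (.leaf (1, 5)) (.leaf (1, 399))) (.leaf (1, 186))) (.node (.node (.leaf (1, 92)) (.leaf (1, 593))) (.leaf (0, 285)))) (.node (.node (.node (.leaf (1, 48)) (.leaf (0, 478))) (.leaf (0, 233))) (.node (.leaf (1, 139)) (.leaf (1, 338))))) (.node (.node (.node (.node (.leaf (1, 27)) (.leaf (1, 436))) (.leaf (0, 209))) (.node (.leaf (0, 116)) (.leaf (1, 309)))) (.node (.node (.node (.leaf (1, 70)) (.leaf (1, 520))) (.leaf (1, 256))) (.node (.leaf (1, 162)) (.leaf (0, 370)))))) (.node (.node (.node (.node (.node (.leaf (0, 16)) (.leaf (0, 420))) (.leaf (1, 196))) (.node (.leaf (1, 103)) (.leaf (1, 296)))) (.node (.node (.node (.leaf (0, 60)) (.leaf (0, 496))) (.leaf (1, 242)))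 (.node (.leaf (1, 151)) (.leaf (1, 353))))) (.node (.node (.node (.node (.leaf (0, 38)) (.leaf (0, 452))) (.leaf (1, 221))) (.node (.leaf (1, 126)) (.leaf (1, 324)))) (.node (.node (.node (.leaf (1, 81)) (.leaf (1, 550))) (.leaf (0, 269))) (.node (.leaf (1, 173)) (.leaf (1, 382))))))))

/-- Data. -/
def cert660Par_5 : BT (ℕ × ℕ) :=
  (.node (.node (.node (.node (.node (.node (.node (.leaf (0, 3)) (.leaf (0, 395))) (.leaf (1, 183))) (.node (.node (.leaf (1, 89)) (.leaf (1, 580))) (.leaf (1, 280)))) (.node (.node (.node (.leaf (1, 46)) (.leaf (0, 470))) (.leaf (1, 229))) (.node (.leaf (1, 136)) (.leaf (1, 333))))) (.node (.node (.node (.node (.leaf (1, 24)) (.leaf (0, 433))) (.leaf (1, 206))) (.node (.leaf (1, 113)) (.leaf (1, 307)))) (.node (.node (.node (.leaf (1, 67)) (.leaf (1, 513))) (.leaf (1, 253))) (.node (.leaf (0, 160)) (.leaf (0, 365)))))) (.node (.node (.node (.node (.node (.leaf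 (0, 13)) (.leaf (1, 416))) (.leaf (1, 194))) (.node (.leaf (1, 100)) (.leaf (0, 294)))) (.node (.node (.node (.leaf (0, 57)) (.leaf (0, 492))) (.leaf (0, 240))) (.node (.leaf (1, 148)) (.leaf (1, 351))))) (.node (.node (.node (.node (.leaf (1, 35)) (.leaf (1, 448))) (.leaf (0, 219))) (.node (.leaf (0, 124)) (.leaf (1, 321)))) (.node (.node (.node (.leaf (1, 78)) (.leaf (0, 537))) (.leaf (1, 266))) (.node (.leaf (0, 171)) (.leaf (0, 380))))))) (.node (.node (.node (.node (.node (.node (.leaf (0, 8)) (.leaf (1, 403))) (.leaf (0, 190))) (.node (.node (.leaf (0, 96)) (.leaf (0, 617))) (.leaf (1, 287)))) (.node (.node (.node (.leaf (1, 51)) (.leaf (1, 481))) (.leaf (0, 235))) (.node (.leaf (1, 142)) (.leaf (1, 343))))) (.node (.node (.node (.node (.leaf (0, 30)) (.leaf (0, 440))) (.leaf (1, 212))) (.node (.leaf (0, 119)) (.leaf (1, 314)))) (.node (.node (.node (.leaf (0, 74)) (.leaf (1, 524)))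 (.leaf (0, 260))) (.node (.leaf (1, 165)) (.leaf (1, 374)))))) (.node (.node (.node (.node (.node (.leaf (1, 18)) (.leaf (1, 423))) (.leaf (1, 199))) (.node (.leaf (1, 106)) (.leaf (1, 299)))) (.node (.node (.node (.leaf (1, 62)) (.leaf (0, 504))) (.leaf (1, 245))) (.node (.leaf (0, 154)) (.leaf (1, 356))))) (.node (.node (.node (.node (.leaf (1, 40)) (.leaf (1, 457))) (.leaf (1, 224))) (.node (.leaf (1, 129)) (.leaf (0, 327)))) (.node (.node (.node (.leaf (1, 84)) (.leaf (1, 559))) (.leaf (1, 271))) (.node (.leaf (0, 178)) (.leaf (1, 386))))))))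

/-- Data. -/
def cert660Par_6 : BT (ℕ × ℕ) :=
  (.node (.node (.node (.node (.node (.node (.node (.leaf (0, 2)) (.leaf (0, 392))) (.leaf (1, 182))) (.node (.node (.leaf (1, 88)) (.leaf (0, 574))) (.leaf (1, 279)))) (.node (.node (.node (.leaf (0, 45)) (.leaf (1, 467))) (.leaf (1, 228))) (.node (.leaf (1, 135)) (.leaf (1, 331))))) (.node (.node (.node (.node (.leaf (0, 23)) (.leaf (0, 429))) (.leaf (1, 203))) (.node (.leaf (1, 111)) (.leaf (1, 304)))) (.node (.node (.node (.leaf (1, 66)) (.leaf (0, 510))) (.leaf (1, 251))) (.node (.leaf (0, 158)) (.leaf (0, 364)))))) (.node (.node (.node (.node (.node (.leaf (1, 11)) (.leaf (0, 414))) (.leaf (0, 193))) (.node (.leaf (1, 99)) (.leaf (0, 293)))) (.node (.node (.node (.leaf (1, 55)) (.leaf (0, 491))) (.leaf (1, 238))) (.node (.leaf (1, 147)) (.leaf (1, 350))))) (.node (.node (.node (.node (.leaf (1, 34)) (.leaf (0, 447))) (.leaf (1, 216))) (.node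 (.leaf (1, 122)) (.leaf (1, 319)))) (.node (.node (.node (.leaf (1, 77)) (.leaf (0, 534))) (.leaf (1, 265))) (.node (.leaf (1, 169)) (.leaf (0, 379))))))) (.node (.node (.node (.node (.node (.node (.leaf (0, 7)) (.leaf (1, 402))) (.leaf (0, 188))) (.node (.node (.leaf (0, 94)) (.leaf (1, 614))) (.leaf (0, 286)))) (.node (.node (.node (.leaf (0, 50)) (.leaf (1, 480))) (.leaf (0, 234))) (.node (.leaf (0, 141)) (.leaf (1, 340))))) (.node (.node (.node (.node (.leaf (1, 28)) (.leaf (1, 438))) (.leaf (1, 211))) (.node (.leaf (0, 118)) (.leaf (0, 312)))) (.node (.node (.node (.leaf (0, 72)) (.leaf (1, 523))) (.leaf (1, 257))) (.node (.leaf (0, 164)) (.leaf (1, 372)))))) (.node (.node (.node (.node (.node (.leaf (1, 17)) (.leaf (0, 422))) (.leaf (0, 198))) (.node (.leaf (1, 104)) (.leaf (1, 297)))) (.node (.node (.node (.leaf (1, 61)) (.leaf (1, 499))) (.leaf (1, 244))) (.node (.leaf (0, 153)) (.leaf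 (1, 354))))) (.node (.node (.node (.node (.leaf (1, 39)) (.leaf (1, 454))) (.leaf (1, 223))) (.node (.leaf (1, 128)) (.leaf (0, 326)))) (.node (.node (.node (.leaf (1, 82)) (.leaf (1, 554))) (.leaf (1, 270))) (.node (.leaf (0, 176)) (.leaf (1, 384))))))))

/-- Data. -/
def cert660Par_7 : BT (ℕ × ℕ) :=
  (.node (.node (.node (.node (.node (.node (.node (.leaf (1, 4)) (.leaf (1, 398))) (.leaf (1, 184))) (.node (.node (.leaf (1, 91)) (.leaf (1, 584))) (.leaf (1, 282)))) (.node (.node (.node (.leaf (1, 47)) (.leaf (0, 476))) (.leaf (0, 231))) (.node (.leaf (1, 138)) (.leaf (1, 337))))) (.node (.node (.node (.node (.leaf (1, 25)) (.leaf (0, 434))) (.leaf (0, 208))) (.node (.leaf (1, 114)) (.leaf (1, 308)))) (.node (.node (.node (.leaf (1, 69)) (.leaf (1, 516))) (.leaf (0, 255))) (.node (.leaf (0, 161)) (.leaf (1, 367)))))) (.node (.node (.node (.node (.node (.leaf (0, 15)) (.leaf (0, 419))) (.leaf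 (1, 195))) (.node (.leaf (0, 102)) (.leaf (0, 295)))) (.node (.node (.node (.leaf (0, 59)) (.leaf (1, 494))) (.leaf (1, 241))) (.node (.leaf (1, 150)) (.leaf (1, 352))))) (.node (.node (.node (.node (.leaf (0, 37)) (.leaf (0, 450))) (.leaf (1, 220))) (.node (.leaf (1, 125)) (.leaf (1, 323)))) (.node (.node (.node (.leaf (0, 80)) (.leaf (1, 544))) (.leaf (1, 267))) (.node (.leaf (1, 172)) (.leaf (1, 381))))))) (.node (.node (.node (.node (.node (.node (.leaf (1, 9)) (.leaf (1, 409))) (.leaf (0, 191))) (.node (.node (.leaf (0, 97)) (.leaf (0, 622))) (.leaf (1, 289)))) (.node (.node (.node (.leaf (1, 52)) (.leaf (0, 485))) (.leaf (1, 236))) (.node (.leaf (1, 143)) (.leaf (1, 344))))) (.node (.node (.node (.node (.leaf (1, 31)) (.leaf (1, 442))) (.leaf (0, 214))) (.node (.leaf (1, 120)) (.leaf (0, 316)))) (.node (.node (.node (.leaf (0, 75)) (.leaf (1, 526))) (.leaf (1, 261))) (.node (.leaf (1,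 166)) (.leaf (1, 376)))))) (.node (.node (.node (.node (.node (.leaf (1, 20)) (.leaf (0, 426))) (.leaf (1, 200))) (.node (.leaf (1, 107)) (.leaf (1, 300)))) (.node (.node (.node (.leaf (1, 63)) (.leaf (0, 508))) (.leaf (1, 248))) (.node (.leaf (1, 155)) (.leaf (1, 359))))) (.node (.node (.node (.node (.leaf (0, 42)) (.leaf (1, 458))) (.leaf (0, 226))) (.node (.leaf (1, 132)) (.leaf (1, 328)))) (.node (.node (.node (.leaf (1, 85)) (.leaf (1, 564))) (.leaf (0, 275))) (.node (.leaf (0, 180)) (.leaf (1, 389))))))))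

/-- Data. -/
def cert660Par : BT (ℕ × ℕ) :=
  (.node (.node (.node cert660Par_0 cert660Par_1) (.node cert660Par_2 cert660Par_3)) (.node (.node cert660Par_4 cert660Par_5) (.node cert660Par_6 cert660Par_7)))

/-- Data. -/
def cert660MulA_0 : BT (ℕ) :=
  (.node (.node (.node (.node (.node (.node (.node (.leaf 1) (.leaf 613)) (.leaf 180)) (.node (.node (.leaf 187) (.leaf 599)) (.leaf 275))) (.node (.node (.node (.leaf 42) (.leaf 577)) (.leaf 226)) (.node (.leaf 274) (.leaf 565)))) (.node (.node (.node (.node (.leaf 49) (.leaf 426)) (.leaf 311)) (.node (.leaf 230) (.leaf 436))) (.node (.node (.node (.leaf 142) (.leaf 508)) (.leaf 471)) (.node (.leaf 317) (.leaf 587))))) (.node (.node (.node (.node (.node (.leaf 26) (.leaf 511)) (.leaf 191)) (.node (.node (.leaf 97) (.leaf 622)) (.leaf 482))) (.node (.node (.node (.leaf 120) (.leaf 485)) (.leaf 455)) (.node (.leaf 296) (.leaf 494)))) (.node (.node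 (.node (.node (.leaf 73) (.leaf 465)) (.leaf 214)) (.node (.leaf 252) (.leaf 316))) (.node (.node (.node (.leaf 75) (.leaf 634)) (.leaf 393)) (.node (.leaf 342) (.leaf 602)))))) (.node (.node (.node (.node (.node (.node (.leaf 14) (.leaf 609)) (.leaf 314)) (.node (.node (.leaf 197) (.leaf 658)) (.leaf 516))) (.node (.node (.node (.leaf 108) (.leaf 476)) (.leaf 231)) (.node (.leaf 287) (.leaf 407)))) (.node (.node (.node (.node (.leaf 61) (.leaf 434)) (.leaf 208)) (.node (.leaf 241) (.leaf 543))) (.node (.node (.node (.leaf 155) (.leaf 629)) (.leaf 255)) (.node (.leaf 161) (.leaf 553))))) (.node (.node (.node (.node (.node (.leaf 15) (.leaf 419)) (.leaf 389)) (.node (.leaf 102) (.leaf 295))) (.node (.node (.node (.leaf 59) (.leaf 601)) (.leaf 463)) (.node (.leaf 307) (.leaf 388)))) (.node (.node (.node (.node (.leaf 37) (.leaf 450)) (.leaf 428)) (.node (.leaf 263) (.leaf 558))) (.node (.node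 (.node (.leaf 80) (.leaf 627)) (.leaf 495)) (.node (.leaf 247) (.leaf 606)))))))

/-- Data. -/
def cert660MulA_1 : BT (ℕ) :=
  (.node (.node (.node (.node (.node (.node (.node (.leaf 2) (.leaf 392)) (.leaf 366)) (.node (.node (.leaf 131) (.leaf 574)) (.leaf 472))) (.node (.node (.node (.leaf 45) (.leaf 645)) (.leaf 441)) (.node (.leaf 281) (.leaf 570)))) (.node (.node (.node (.node (.leaf 23) (.leaf 429)) (.leaf 402)) (.node (.leaf 236) (.leaf 538))) (.node (.node (.node (.leaf 149) (.leaf 510)) (.leaf 477)) (.node (.leaf 158) (.leaf 364))))) (.node (.node (.node (.node (.node (.leaf 31) (.leaf 414)) (.leaf 193)) (.node (.leaf 213) (.leaf 293))) (.node (.node (.node (.leaf 125) (.leaf 491)) (.leaf 459)) (.node (.leaf 301) (.leaf 533)))) (.node (.node (.node (.node (.leaf 79) (.leaf 447)) (.leaf 423)) (.node (.leaf 256) (.leaf 416))) (.node (.node (.node (.leaf 170) (.leaf 534)) (.leaf 474))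 (.node (.leaf 347) (.leaf 379)))))) (.node (.node (.node (.node (.node (.node (.leaf 7) (.leaf 621)) (.leaf 188)) (.node (.node (.leaf 94) (.leaf 646)) (.leaf 286))) (.node (.node (.node (.leaf 50) (.leaf 614)) (.leaf 234)) (.node (.leaf 141) (.leaf 567)))) (.node (.node (.node (.node (.leaf 66) (.leaf 557)) (.leaf 415)) (.node (.leaf 118) (.leaf 312))) (.node (.node (.node (.leaf 72) (.leaf 653)) (.leaf 484)) (.node (.leaf 164) (.leaf 598))))) (.node (.node (.node (.node (.node (.leaf 43) (.leaf 422)) (.leaf 198)) (.node (.leaf 225) (.leaf 530))) (.node (.node (.node (.leaf 137) (.leaf 594)) (.leaf 398)) (.node (.leaf 153) (.leaf 584)))) (.node (.node (.node (.node (.leaf 90) (.leaf 643)) (.leaf 432)) (.node (.leaf 268) (.leaf 326))) (.node (.node (.node (.leaf 182) (.leaf 641)) (.leaf 502)) (.node (.leaf 176) (.leaf 608)))))))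

/-- Data. -/
def cert660MulA_2 : BT (ℕ) :=
  (.node (.node (.node (.node (.node (.node (.node (.leaf 4) (.leaf 515)) (.leaf 181)) (.node (.node (.leaf 87) (.leaf 571)) (.leaf 358))) (.node (.node (.node (.leaf 44) (.leaf 585)) (.leaf 227)) (.node (.leaf 134) (.leaf 568)))) (.node (.node (.node (.node (.leaf 51) (.leaf 427)) (.leaf 401)) (.node (.leaf 109) (.leaf 303))) (.node (.node (.node (.leaf 65) (.leaf 509)) (.leaf 475)) (.node (.leaf 320) (.leaf 400))))) (.node (.node (.node (.node (.node (.leaf 29) (.leaf 412)) (.leaf 192)) (.node (.node (.leaf 210) (.leaf 648)) (.leaf 292))) (.node (.node (.node (.leaf 123) (.leaf 604)) (.leaf 457)) (.node (.leaf 146) (.leaf 421)))) (.node (.node (.node (.node (.leaf 76) (.leaf 547)) (.leaf 305)) (.node (.leaf 254) (.leaf 552))) (.node (.node (.node (.leaf 167) (.leaf 657)) (.leaf 490)) (.node (.leaf 345) (.leaf 591)))))) (.node (.node (.node (.node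 (.node (.node (.leaf 17) (.leaf 483)) (.leaf 373)) (.node (.node (.leaf 199) (.leaf 649)) (.leaf 285))) (.node (.node (.node (.leaf 110) (.leaf 478)) (.leaf 233)) (.node (.leaf 289) (.leaf 575)))) (.node (.node (.node (.node (.leaf 64) (.leaf 635)) (.leaf 209)) (.node (.leaf 116) (.leaf 544))) (.node (.node (.node (.leaf 157) (.leaf 655)) (.leaf 361)) (.node (.leaf 332) (.leaf 370))))) (.node (.node (.node (.node (.node (.leaf 16) (.leaf 420)) (.leaf 391)) (.node (.leaf 222) (.leaf 529))) (.node (.node (.node (.leaf 60) (.leaf 496)) (.leaf 367)) (.node (.leaf 277) (.leaf 372)))) (.node (.node (.node (.node (.leaf 38) (.leaf 452)) (.leaf 264)) (.node (.leaf 211) (.leaf 541))) (.node (.node (.node (.leaf 179) (.leaf 624)) (.leaf 269)) (.node (.leaf 331) (.leaf 542)))))))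

/-- Data. -/
def cert660MulA_3 : BT (ℕ) :=
  (.node (.node (.node (.node (.node (.node (.node (.leaf 3) (.leaf 395)) (.leaf 369)) (.node (.node (.leaf 194) (.leaf 652)) (.leaf 513))) (.node (.node (.node (.leaf 105) (.leaf 470)) (.leaf 444)) (.node (.leaf 284) (.leaf 385)))) (.node (.node (.node (.node (.leaf 58) (.leaf 433)) (.leaf 406)) (.node (.leaf 239) (.leaf 540))) (.node (.node (.node (.leaf 152) (.leaf 588)) (.leaf 386)) (.node (.leaf 160) (.leaf 365))))) (.node (.node (.node (.node (.node (.leaf 13) (.leaf 628)) (.leaf 387)) (.node (.leaf 215) (.leaf 294))) (.node (.node (.node (.leaf 57) (.leaf 492)) (.leaf 240)) (.node (.leaf 304) (.leaf 582)))) (.node (.node (.node (.node (.leaf 81) (.leaf 489)) (.leaf 219)) (.node (.leaf 124) (.leaf 397))) (.node (.node (.node (.leaf 172) (.leaf 537)) (.leaf 493)) (.node (.leaf 171) (.leaf 380)))))) (.node (.node (.node (.node (.node (.node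 (.leaf 8) (.leaf 623)) (.leaf 190)) (.node (.node (.leaf 96) (.leaf 617)) (.leaf 348))) (.node (.node (.node (.leaf 117) (.leaf 638)) (.leaf 235)) (.node (.leaf 205) (.leaf 579)))) (.node (.node (.node (.node (.leaf 30) (.leaf 440)) (.leaf 417)) (.node (.leaf 119) (.leaf 431))) (.node (.node (.node (.leaf 74) (.leaf 656)) (.leaf 260)) (.node (.leaf 339) (.leaf 464))))) (.node (.node (.node (.node (.node (.leaf 46) (.leaf 506)) (.leaf 396)) (.node (.leaf 228) (.leaf 532))) (.node (.node (.node (.leaf 140) (.leaf 504)) (.leaf 467)) (.node (.leaf 154) (.leaf 586)))) (.node (.node (.node (.node (.leaf 93) (.leaf 644)) (.leaf 409)) (.node (.leaf 270) (.leaf 327))) (.node (.node (.node (.leaf 185) (.leaf 590)) (.leaf 505)) (.node (.leaf 178) (.leaf 612)))))))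

/-- Data. -/
def cert660MulA_4 : BT (ℕ) :=
  (.node (.node (.node (.node (.node (.node (.node (.leaf 0) (.leaf 390)) (.leaf 363)) (.node (.node (.leaf 189) (.leaf 636)) (.leaf 454))) (.node (.node (.node (.leaf 98) (.leaf 576)) (.leaf 437)) (.node (.leaf 276) (.leaf 329)))) (.node (.node (.node (.node (.leaf 21) (.leaf 499)) (.leaf 202)) (.node (.leaf 232) (.leaf 302))) (.node (.node (.node (.leaf 144) (.leaf 520)) (.leaf 473)) (.node (.leaf 156) (.leaf 589))))) (.node (.node (.node (.node (.node (.leaf 10) (.leaf 410)) (.leaf 383)) (.node (.node (.leaf 175) (.leaf 626)) (.leaf 290))) (.node (.node (.node (.leaf 54) (.leaf 487)) (.leaf 237)) (.node (.leaf 298) (.leaf 560)))) (.node (.node (.node (.node (.leaf 32) (.leaf 443)) (.leaf 306)) (.node (.leaf 121) (.leaf 550))) (.node (.node (.node (.leaf 165) (.leaf 595)) (.leaf 262)) (.node (.leaf 168) (.leaf 377)))))) (.node (.node (.node (.node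 (.node (.node (.leaf 5) (.leaf 399)) (.leaf 371)) (.node (.node (.leaf 92) (.leaf 650)) (.leaf 368))) (.node (.node (.node (.leaf 48) (.leaf 578)) (.leaf 449)) (.node (.leaf 139) (.leaf 338)))) (.node (.node (.node (.node (.leaf 27) (.leaf 488)) (.leaf 411)) (.node (.leaf 243) (.leaf 309))) (.node (.node (.node (.leaf 70) (.leaf 654)) (.leaf 362)) (.node (.leaf 330) (.leaf 566))))) (.node (.node (.node (.node (.node (.leaf 39) (.leaf 630)) (.leaf 196)) (.node (.leaf 220) (.leaf 318))) (.node (.node (.node (.leaf 133) (.leaf 600)) (.leaf 242)) (.node (.leaf 151) (.leaf 353)))) (.node (.node (.node (.node (.leaf 86) (.leaf 451)) (.leaf 221)) (.node (.leaf 126) (.leaf 324))) (.node (.node (.node (.leaf 177) (.leaf 549)) (.leaf 497)) (.node (.leaf 173) (.leaf 382)))))))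

/-- Data. -/
def cert660MulA_5 : BT (ℕ) :=
  (.node (.node (.node (.node (.node (.node (.node (.leaf 9) (.leaf 531)) (.leaf 183)) (.node (.node (.leaf 89) (.leaf 580)) (.leaf 280))) (.node (.node (.node (.leaf 103) (.leaf 611)) (.leaf 229)) (.node (.leaf 136) (.leaf 333)))) (.node (.node (.node (.node (.leaf 56) (.leaf 633)) (.leaf 404)) (.node (.leaf 113) (.leaf 466))) (.node (.node (.node (.leaf 67) (.leaf 512)) (.leaf 253)) (.node (.leaf 325) (.leaf 592))))) (.node (.node (.node (.node (.node (.leaf 33) (.leaf 468)) (.leaf 218)) (.node (.leaf 100) (.leaf 527))) (.node (.node (.node (.leaf 127) (.leaf 559)) (.leaf 283)) (.node (.leaf 148) (.leaf 351)))) (.node (.node (.node (.node (.leaf 35) (.leaf 448)) (.leaf 425)) (.node (.leaf 258) (.leaf 321))) (.node (.node (.node (.leaf 78) (.leaf 616)) (.leaf 266)) (.node (.leaf 349) (.leaf 519)))))) (.node (.node (.node (.node (.node (.node (.leaf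 22) (.leaf 403)) (.leaf 378)) (.node (.node (.leaf 204) (.leaf 620)) (.leaf 438))) (.node (.node (.node (.leaf 115) (.leaf 481)) (.leaf 453)) (.node (.leaf 206) (.leaf 343)))) (.node (.node (.node (.node (.leaf 68) (.leaf 556)) (.leaf 212)) (.node (.leaf 249) (.leaf 548))) (.node (.node (.node (.leaf 162) (.leaf 524)) (.leaf 486)) (.node (.leaf 337) (.leaf 374))))) (.node (.node (.node (.node (.node (.leaf 18) (.leaf 442)) (.leaf 394)) (.node (.leaf 106) (.leaf 299))) (.node (.node (.node (.leaf 62) (.leaf 503)) (.leaf 245)) (.node (.leaf 313) (.leaf 356)))) (.node (.node (.node (.node (.leaf 40) (.leaf 583)) (.leaf 224)) (.node (.leaf 129) (.leaf 563))) (.node (.node (.node (.leaf 84) (.leaf 555)) (.leaf 271)) (.node (.leaf 357) (.leaf 610)))))))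

/-- Data. -/
def cert660MulA_6 : BT (ℕ) :=
  (.node (.node (.node (.node (.node (.node (.node (.leaf 6) (.leaf 514)) (.leaf 335)) (.node (.node (.leaf 132) (.leaf 572)) (.leaf 278))) (.node (.node (.node (.leaf 101) (.leaf 462)) (.leaf 439)) (.node (.leaf 279) (.leaf 569)))) (.node (.node (.node (.node (.leaf 53) (.leaf 562)) (.leaf 203)) (.node (.leaf 111) (.leaf 536))) (.node (.node (.node (.leaf 147) (.leaf 581)) (.leaf 251)) (.node (.leaf 322) (.leaf 522))))) (.node (.node (.node (.node (.node (.leaf 11) (.leaf 517)) (.leaf 384)) (.node (.node (.leaf 99) (.leaf 639)) (.leaf 525))) (.node (.node (.node (.leaf 55) (.leaf 625)) (.leaf 238)) (.node (.leaf 186) (.leaf 350)))) (.node (.node (.node (.node (.leaf 34) (.leaf 445)) (.leaf 216)) (.node (.leaf 122) (.leaf 319))) (.node (.node (.node (.leaf 77) (.leaf 632)) (.leaf 265)) (.node (.leaf 169) (.leaf 545)))))) (.node (.node (.node (.node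 (.node (.node (.leaf 19) (.leaf 619)) (.leaf 375)) (.node (.node (.leaf 201) (.leaf 647)) (.leaf 518))) (.node (.node (.node (.leaf 112) (.leaf 480)) (.leaf 250)) (.node (.leaf 291) (.leaf 340)))) (.node (.node (.node (.node (.leaf 28) (.leaf 637)) (.leaf 413)) (.node (.leaf 246) (.leaf 546))) (.node (.node (.node (.leaf 159) (.leaf 523)) (.leaf 257)) (.node (.leaf 334) (.leaf 596))))) (.node (.node (.node (.node (.node (.leaf 41) (.leaf 631)) (.leaf 341)) (.node (.leaf 104) (.leaf 297))) (.node (.node (.node (.leaf 135) (.leaf 551)) (.leaf 244)) (.node (.leaf 310) (.leaf 354)))) (.node (.node (.node (.node (.leaf 88) (.leaf 642)) (.leaf 223)) (.node (.leaf 128) (.leaf 561))) (.node (.node (.node (.leaf 82) (.leaf 554)) (.leaf 500)) (.node (.leaf 355) (.leaf 607)))))))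

/-- Data. -/
def cert660MulA_7 : BT (ℕ) :=
  (.node (.node (.node (.node (.node (.node (.node (.leaf 12) (.leaf 501)) (.leaf 184)) (.node (.node (.leaf 91) (.leaf 651)) (.leaf 282))) (.node (.node (.node (.leaf 47) (.leaf 573)) (.leaf 446)) (.node (.leaf 138) (.leaf 336)))) (.node (.node (.node (.node (.leaf 25) (.leaf 603)) (.leaf 408)) (.node (.leaf 114) (.leaf 308))) (.node (.node (.node (.leaf 69) (.leaf 535)) (.leaf 479)) (.node (.leaf 328) (.leaf 593))))) (.node (.node (.node (.node (.node (.leaf 36) (.leaf 615)) (.leaf 195)) (.node (.leaf 217) (.leaf 456))) (.node (.node (.node (.leaf 130) (.leaf 640)) (.leaf 461)) (.node (.leaf 150) (.leaf 352)))) (.node (.node (.node (.node (.leaf 83) (.leaf 460)) (.leaf 288)) (.node (.leaf 261) (.leaf 323))) (.node (.node (.node (.leaf 174) (.leaf 539)) (.leaf 267)) (.node (.leaf 248) (.leaf 605)))))) (.node (.node (.node (.node (.node (.node (.leaf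 24) (.leaf 405)) (.leaf 381)) (.node (.node (.leaf 207) (.leaf 618)) (.leaf 521))) (.node (.node (.node (.leaf 52) (.leaf 498)) (.leaf 259)) (.node (.leaf 143) (.leaf 344)))) (.node (.node (.node (.node (.leaf 71) (.leaf 597)) (.leaf 418)) (.node (.leaf 145) (.leaf 430))) (.node (.node (.node (.leaf 163) (.leaf 526)) (.leaf 346)) (.node (.leaf 166) (.leaf 376))))) (.node (.node (.node (.node (.node (.leaf 20) (.leaf 424)) (.leaf 200)) (.node (.leaf 107) (.leaf 300))) (.node (.node (.node (.leaf 63) (.leaf 507)) (.leaf 469)) (.node (.leaf 315) (.leaf 359)))) (.node (.node (.node (.node (.leaf 95) (.leaf 458)) (.leaf 435)) (.node (.leaf 272) (.leaf 564))) (.node (.node (.node (.leaf 85) (.leaf 659)) (.leaf 273)) (.node (.leaf 360) (.leaf 528)))))))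

/-- Data. -/
def cert660MulA : BT (ℕ) :=
  (.node (.node (.node cert660MulA_0 cert660MulA_1) (.node cert660MulA_2 cert660MulA_3)) (.node (.node cert660MulA_4 cert660MulA_5) (.node cert660MulA_6 cert660MulA_7)))

/-- Data. -/
def cert660MulB_0 : BT (ℕ) :=
  (.node (.node (.node (.node (.node (.node (.node (.leaf 2) (.leaf 602)) (.leaf 362)) (.node (.node (.leaf 188) (.leaf 373)) (.leaf 508))) (.node (.node (.node (.leaf 97) (.leaf 339)) (.leaf 252)) (.node (.leaf 275) (.leaf 566)))) (.node (.node (.node (.node (.leaf 50) (.leaf 632)) (.leaf 399)) (.node (.leaf 231) (.leaf 534))) (.node (.node (.node (.leaf 143) (.leaf 274)) (.leaf 472)) (.node (.leaf 318) (.leaf 588))))) (.node (.node (.node (.node (.node (.leaf 27) (.leaf 471)) (.leaf 86)) (.node (.node (.leaf 41) (.leaf 659)) (.leaf 360))) (.node (.node (.node (.leaf 121) (.leaf 582)) (.leaf 378)) (.node (.leaf 297) (.leaf 563)))) (.node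 (.node (.node (.node (.leaf 74) (.leaf 366)) (.leaf 420)) (.node (.leaf 225) (.leaf 369))) (.node (.node (.node (.leaf 31) (.leaf 432)) (.leaf 197)) (.node (.leaf 343) (.leaf 603)))))) (.node (.node (.node (.node (.node (.node (.leaf 15) (.leaf 618)) (.leaf 370)) (.node (.node (.leaf 198) (.leaf 538)) (.leaf 381))) (.node (.node (.node (.leaf 109) (.leaf 648)) (.leaf 448)) (.node (.leaf 288) (.leaf 573)))) (.node (.node (.node (.node (.leaf 62) (.leaf 408)) (.leaf 410)) (.node (.leaf 242) (.leaf 479))) (.node (.node (.node (.leaf 156) (.leaf 653)) (.leaf 481)) (.node (.leaf 71) (.leaf 594))))) (.node (.node (.node (.node (.node (.leaf 38) (.leaf 592)) (.leaf 390)) (.node (.leaf 219) (.leaf 142))) (.node (.node (.node (.leaf 132) (.leaf 375)) (.leaf 464)) (.node (.leaf 308) (.leaf 194)))) (.node (.node (.node (.node (.leaf 85) (.leaf 529)) (.leaf 239)) (.node (.leaf 264) (.leaf 559))) (.node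 (.node (.node (.leaf 176) (.leaf 413)) (.leaf 496)) (.node (.leaf 352) (.leaf 548)))))))

/-- Data. -/
def cert660MulB_1 : BT (ℕ) :=
  (.node (.node (.node (.node (.node (.node (.node (.leaf 8) (.leaf 616)) (.leaf 367)) (.node (.node (.leaf 192) (.leaf 337)) (.leaf 511))) (.node (.node (.node (.leaf 17) (.leaf 646)) (.leaf 442)) (.node (.leaf 282) (.leaf 505)))) (.node (.node (.node (.node (.leaf 55) (.leaf 220)) (.leaf 403)) (.node (.leaf 237) (.leaf 539))) (.node (.node (.node (.leaf 150) (.leaf 357)) (.leaf 478)) (.node (.leaf 324) (.leaf 568))))) (.node (.node (.node (.node (.node (.leaf 32) (.leaf 627)) (.leaf 88)) (.node (.leaf 214) (.leaf 140))) (.node (.node (.node (.leaf 126) (.leaf 651)) (.leaf 460)) (.node (.leaf 302) (.leaf 581)))) (.node (.node (.node (.node (.leaf 80) (.leaf 640)) (.leaf 424)) (.node (.leaf 257) (.leaf 554))) (.node (.node (.node (.leaf 171) (.leaf 435)) (.leaf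 492)) (.node (.leaf 348) (.leaf 455)))))) (.node (.node (.node (.node (.node (.node (.leaf 21) (.leaf 622)) (.leaf 377)) (.node (.node (.leaf 203) (.leaf 654)) (.leaf 137))) (.node (.node (.node (.leaf 114) (.leaf 389)) (.leaf 108)) (.node (.leaf 293) (.leaf 328)))) (.node (.node (.node (.node (.leaf 67) (.leaf 322)) (.leaf 416)) (.node (.leaf 248) (.leaf 152))) (.node (.node (.node (.leaf 161) (.leaf 628)) (.leaf 485)) (.node (.leaf 336) (.leaf 546))))) (.node (.node (.node (.node (.node (.leaf 44) (.leaf 215)) (.leaf 393)) (.node (.leaf 226) (.leaf 461))) (.node (.node (.node (.leaf 138) (.leaf 552)) (.leaf 199)) (.node (.leaf 312) (.leaf 394)))) (.node (.node (.node (.node (.leaf 91) (.leaf 623)) (.leaf 433)) (.node (.leaf 269) (.leaf 387))) (.node (.node (.node (.leaf 183) (.leaf 459)) (.leaf 503)) (.node (.leaf 79) (.leaf 609)))))))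

/-- Data. -/
def cert660MulB_2 : BT (ℕ) :=
  (.node (.node (.node (.node (.node (.node (.node (.leaf 5) (.leaf 281)) (.leaf 81)) (.node (.node (.leaf 191) (.leaf 332)) (.leaf 510))) (.node (.node (.node (.leaf 100) (.leaf 355)) (.leaf 105)) (.node (.leaf 278) (.leaf 363)))) (.node (.node (.node (.node (.leaf 52) (.leaf 287)) (.leaf 241)) (.node (.leaf 234) (.leaf 147))) (.node (.node (.node (.leaf 146) (.leaf 453)) (.leaf 476)) (.node (.leaf 321) (.leaf 201))))) (.node (.node (.node (.node (.node (.leaf 30) (.leaf 626)) (.leaf 130)) (.node (.node (.leaf 211) (.leaf 475)) (.leaf 524))) (.node (.node (.node (.leaf 124) (.leaf 544)) (.leaf 458)) (.node (.leaf 64) (.leaf 304)))) (.node (.node (.node (.node (.leaf 77) (.leaf 598)) (.leaf 421)) (.node (.leaf 255) (.leaf 553))) (.node (.node (.node (.leaf 168) (.leaf 589)) (.leaf 491)) (.node (.leaf 346) (.leaf 521)))))) (.node (.node (.node (.node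 (.node (.node (.leaf 18) (.leaf 256)) (.leaf 374)) (.node (.node (.leaf 200) (.leaf 477)) (.leaf 517))) (.node (.node (.node (.leaf 111) (.leaf 649)) (.leaf 451)) (.node (.leaf 290) (.leaf 576)))) (.node (.node (.node (.node (.leaf 65) (.leaf 636)) (.leaf 174)) (.node (.leaf 245) (.leaf 545))) (.node (.node (.node (.leaf 158) (.leaf 635)) (.leaf 482)) (.node (.leaf 333) (.leaf 313))))) (.node (.node (.node (.node (.node (.leaf 4) (.leaf 213)) (.leaf 392)) (.node (.leaf 223) (.leaf 449))) (.node (.node (.node (.leaf 24) (.leaf 579)) (.leaf 465)) (.node (.leaf 309) (.leaf 583)))) (.node (.node (.node (.node (.leaf 14) (.leaf 249)) (.leaf 430)) (.node (.leaf 266) (.leaf 560))) (.node (.node (.node (.leaf 180) (.leaf 643)) (.leaf 499)) (.node (.leaf 354) (.leaf 307)))))))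

/-- Data. -/
def cert660MulB_3 : BT (ℕ) :=
  (.node (.node (.node (.node (.node (.node (.node (.leaf 11) (.leaf 584)) (.leaf 315)) (.node (.node (.leaf 195) (.leaf 587)) (.leaf 514))) (.node (.node (.node (.leaf 106) (.leaf 633)) (.leaf 445)) (.node (.leaf 285) (.leaf 572)))) (.node (.node (.node (.node (.leaf 59) (.leaf 634)) (.leaf 407)) (.node (.leaf 240) (.leaf 541))) (.node (.node (.node (.leaf 153) (.leaf 652)) (.leaf 217)) (.node (.leaf 327) (.leaf 334))))) (.node (.node (.node (.node (.node (.leaf 35) (.leaf 629)) (.leaf 325)) (.node (.leaf 216) (.leaf 204))) (.node (.node (.node (.leaf 129) (.leaf 473)) (.leaf 428)) (.node (.leaf 305) (.leaf 484)))) (.node (.node (.node (.node (.leaf 82) (.leaf 261)) (.leaf 101)) (.node (.leaf 260) (.leaf 556))) (.node (.node (.node (.leaf 173) (.leaf 656)) (.leaf 494)) (.node (.leaf 351) (.leaf 189)))))) (.node (.node (.node (.node (.node (.node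 (.leaf 1) (.leaf 624)) (.leaf 380)) (.node (.node (.leaf 206) (.leaf 500)) (.leaf 520))) (.node (.node (.node (.leaf 118) (.leaf 596)) (.leaf 110)) (.node (.leaf 294) (.leaf 495)))) (.node (.node (.node (.node (.leaf 70) (.leaf 518)) (.leaf 258)) (.node (.leaf 51) (.leaf 222))) (.node (.node (.node (.leaf 162) (.leaf 536)) (.leaf 123)) (.node (.leaf 340) (.leaf 600))))) (.node (.node (.node (.node (.node (.leaf 47) (.leaf 570)) (.leaf 397)) (.node (.leaf 229) (.leaf 533))) (.node (.node (.node (.leaf 141) (.leaf 270)) (.leaf 468)) (.node (.leaf 68) (.leaf 525)))) (.node (.node (.node (.node (.leaf 94) (.leaf 558)) (.leaf 434)) (.node (.leaf 271) (.leaf 159))) (.node (.node (.node (.leaf 186) (.leaf 657)) (.leaf 506)) (.node (.leaf 359) (.leaf 575)))))))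

/-- Data. -/
def cert660MulB_4 : BT (ℕ) :=
  (.node (.node (.node (.node (.node (.node (.node (.leaf 3) (.leaf 614)) (.leaf 364)) (.node (.node (.leaf 190) (.leaf 655)) (.leaf 509))) (.node (.node (.node (.leaf 99) (.leaf 612)) (.leaf 438)) (.node (.leaf 277) (.leaf 567)))) (.node (.node (.node (.node (.leaf 6) (.leaf 268)) (.leaf 400)) (.node (.leaf 233) (.leaf 535))) (.node (.node (.node (.leaf 145) (.leaf 347)) (.leaf 474)) (.node (.leaf 319) (.leaf 590))))) (.node (.node (.node (.node (.node (.leaf 28) (.leaf 207)) (.leaf 296)) (.node (.node (.leaf 209) (.leaf 411)) (.leaf 523))) (.node (.node (.node (.leaf 122) (.leaf 650)) (.leaf 456)) (.node (.leaf 299) (.leaf 540)))) (.node (.node (.node (.node (.leaf 75) (.leaf 228)) (.leaf 149)) (.node (.leaf 253) (.leaf 551))) (.node (.node (.node (.leaf 166) (.leaf 565)) (.leaf 489)) (.node (.leaf 344) (.leaf 187)))))) (.node (.node (.node (.node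 (.node (.node (.leaf 16) (.leaf 310)) (.leaf 372)) (.node (.node (.leaf 39) (.leaf 486)) (.leaf 182))) (.node (.node (.node (.leaf 19) (.leaf 342)) (.leaf 450)) (.node (.leaf 61) (.leaf 574)))) (.node (.node (.node (.node (.leaf 63) (.leaf 345)) (.leaf 412)) (.node (.leaf 244) (.leaf 276))) (.node (.node (.node (.leaf 29) (.leaf 645)) (.leaf 179)) (.node (.leaf 331) (.leaf 595))))) (.node (.node (.node (.node (.node (.leaf 40) (.leaf 457)) (.leaf 90)) (.node (.leaf 221) (.leaf 528))) (.node (.node (.node (.leaf 134) (.leaf 463)) (.leaf 401)) (.node (.leaf 66) (.leaf 172)))) (.node (.node (.node (.node (.leaf 87) (.leaf 232)) (.leaf 429)) (.node (.leaf 265) (.leaf 157))) (.node (.node (.node (.leaf 178) (.leaf 606)) (.leaf 498)) (.node (.leaf 353) (.leaf 516)))))))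

/-- Data. -/
def cert660MulB_5 : BT (ℕ) :=
  (.node (.node (.node (.node (.node (.node (.node (.leaf 10) (.leaf 298)) (.leaf 368)) (.node (.node (.leaf 193) (.leaf 349)) (.leaf 512))) (.node (.node (.node (.leaf 104) (.leaf 647)) (.leaf 443)) (.node (.leaf 283) (.leaf 571)))) (.node (.node (.node (.node (.leaf 57) (.leaf 469)) (.leaf 405)) (.node (.leaf 238) (.leaf 243))) (.node (.node (.node (.leaf 151) (.leaf 279)) (.leaf 120)) (.node (.leaf 326) (.leaf 418))))) (.node (.node (.node (.node (.node (.leaf 34) (.leaf 564)) (.leaf 386)) (.node (.leaf 43) (.leaf 423))) (.node (.node (.node (.leaf 128) (.leaf 644)) (.leaf 135)) (.node (.leaf 303) (.leaf 170)))) (.node (.node (.node (.node (.leaf 12) (.leaf 230)) (.leaf 426)) (.node (.leaf 259) (.leaf 555))) (.node (.node (.node (.leaf 33) (.leaf 391)) (.leaf 210)) (.node (.leaf 350) (.leaf 437)))))) (.node (.node (.node (.node (.node (.node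 (.leaf 23) (.leaf 605)) (.leaf 379)) (.node (.node (.leaf 205) (.leaf 642)) (.leaf 519))) (.node (.node (.node (.leaf 116) (.leaf 254)) (.leaf 454)) (.node (.leaf 95) (.leaf 578)))) (.node (.node (.node (.node (.leaf 69) (.leaf 396)) (.leaf 98)) (.node (.leaf 250) (.leaf 549))) (.node (.node (.node (.leaf 73) (.leaf 291)) (.leaf 487)) (.node (.leaf 338) (.leaf 599))))) (.node (.node (.node (.node (.node (.leaf 45) (.leaf 607)) (.leaf 395)) (.node (.leaf 227) (.leaf 531))) (.node (.node (.node (.leaf 139) (.leaf 637)) (.leaf 115)) (.node (.leaf 314) (.leaf 585)))) (.node (.node (.node (.node (.leaf 92) (.leaf 371)) (.leaf 103)) (.node (.leaf 56) (.leaf 493))) (.node (.node (.node (.leaf 184) (.leaf 320)) (.leaf 504)) (.node (.leaf 358) (.leaf 611)))))))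

/-- Data. -/
def cert660MulB_6 : BT (ℕ) :=
  (.node (.node (.node (.node (.node (.node (.node (.leaf 7) (.leaf 615)) (.leaf 365)) (.node (.node (.leaf 58) (.leaf 384)) (.leaf 133))) (.node (.node (.node (.leaf 102) (.leaf 530)) (.leaf 440)) (.node (.leaf 280) (.leaf 497)))) (.node (.node (.node (.node (.leaf 54) (.leaf 593)) (.leaf 93)) (.node (.leaf 235) (.leaf 537))) (.node (.node (.node (.leaf 148) (.leaf 532)) (.leaf 144)) (.node (.leaf 323) (.leaf 591))))) (.node (.node (.node (.node (.node (.leaf 0) (.leaf 284)) (.leaf 385)) (.node (.node (.leaf 212) (.leaf 444)) (.leaf 526))) (.node (.node (.node (.leaf 22) (.leaf 404)) (.leaf 112)) (.node (.leaf 300) (.leaf 580)))) (.node (.node (.node (.node (.leaf 78) (.leaf 639)) (.leaf 422)) (.node (.leaf 53) (.leaf 155))) (.node (.node (.node (.leaf 169) (.leaf 425)) (.leaf 125)) (.node (.leaf 76) (.leaf 604)))))) (.node (.node (.node (.node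 (.node (.node (.leaf 20) (.leaf 620)) (.leaf 376)) (.node (.node (.leaf 202) (.leaf 610)) (.leaf 439))) (.node (.node (.node (.leaf 113) (.leaf 543)) (.leaf 452)) (.node (.leaf 292) (.leaf 577)))) (.node (.node (.node (.node (.leaf 9) (.leaf 502)) (.leaf 414)) (.node (.leaf 247) (.leaf 547))) (.node (.node (.node (.leaf 160) (.leaf 289)) (.leaf 483)) (.node (.leaf 335) (.leaf 597))))) (.node (.node (.node (.node (.node (.leaf 42) (.leaf 550)) (.leaf 165)) (.node (.leaf 224) (.leaf 383))) (.node (.node (.node (.leaf 136) (.leaf 631)) (.leaf 466)) (.node (.leaf 311) (.leaf 330)))) (.node (.node (.node (.node (.leaf 89) (.leaf 619)) (.leaf 431)) (.node (.leaf 267) (.leaf 562))) (.node (.node (.node (.leaf 181) (.leaf 415)) (.leaf 501)) (.node (.leaf 356) (.leaf 441)))))))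

/-- Data. -/
def cert660MulB_7 : BT (ℕ) :=
  (.node (.node (.node (.node (.node (.node (.node (.leaf 13) (.leaf 617)) (.leaf 83)) (.node (.node (.leaf 196) (.leaf 490)) (.leaf 515))) (.node (.node (.node (.leaf 107) (.leaf 406)) (.leaf 447)) (.node (.leaf 286) (.leaf 163)))) (.node (.node (.node (.node (.leaf 60) (.leaf 613)) (.leaf 409)) (.node (.leaf 49) (.leaf 542))) (.node (.node (.node (.leaf 154) (.leaf 301)) (.leaf 480)) (.node (.leaf 329) (.leaf 561))))) (.node (.node (.node (.node (.node (.leaf 37) (.leaf 513)) (.leaf 388)) (.node (.leaf 218) (.leaf 236))) (.node (.node (.node (.leaf 131) (.leaf 446)) (.leaf 462)) (.node (.leaf 306) (.leaf 246)))) (.node (.node (.node (.node (.leaf 84) (.leaf 641)) (.leaf 427)) (.node (.leaf 262) (.leaf 557))) (.node (.node (.node (.leaf 175) (.leaf 658)) (.leaf 127)) (.node (.leaf 117) (.leaf 402)))))) (.node (.node (.node (.node (.node (.node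 (.leaf 25) (.leaf 625)) (.leaf 382)) (.node (.node (.leaf 208) (.leaf 608)) (.leaf 522))) (.node (.node (.node (.leaf 119) (.leaf 569)) (.leaf 417)) (.node (.leaf 295) (.leaf 167)))) (.node (.node (.node (.node (.leaf 72) (.leaf 638)) (.leaf 419)) (.node (.leaf 251) (.leaf 263))) (.node (.node (.node (.leaf 164) (.leaf 586)) (.leaf 488)) (.node (.leaf 341) (.leaf 601))))) (.node (.node (.node (.node (.node (.leaf 48) (.leaf 527)) (.leaf 398)) (.node (.leaf 46) (.leaf 185))) (.node (.node (.node (.leaf 26) (.leaf 272)) (.leaf 470)) (.node (.leaf 316) (.leaf 177)))) (.node (.node (.node (.node (.leaf 96) (.leaf 630)) (.leaf 436)) (.node (.leaf 273) (.leaf 467))) (.node (.node (.node (.leaf 36) (.leaf 621)) (.leaf 507)) (.node (.leaf 361) (.leaf 317)))))))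

/-- Data. -/
def cert660MulB : BT (ℕ) :=
  (.node (.node (.node cert660MulB_0 cert660MulB_1) (.node cert660MulB_2 cert660MulB_3)) (.node (.node cert660MulB_4 cert660MulB_5) (.node cert660MulB_6 cert660MulB_7)))

/-- Data. -/
def cert660Ord_0 : BT (ℕ) :=
  (.node (.node (.node (.node (.node (.node (.node (.leaf 0) (.leaf 529)) (.leaf 371)) (.node (.node (.leaf 644) (.leaf 211)) (.leaf 109))) (.node (.node (.node (.leaf 519) (.leaf 284)) (.leaf 358)) (.node (.leaf 400) (.leaf 179)))) (.node (.node (.node (.node (.leaf 536) (.leaf 601)) (.leaf 87)) (.node (.leaf 189) (.leaf 542))) (.node (.node (.node (.leaf 552) (.leaf 444)) (.leaf 476)) (.node (.leaf 293) (.leaf 260))))) (.node (.node (.node (.node (.node (.leaf 113) (.leaf 640)) (.leaf 158)) (.node (.node (.leaf 151) (.leaf 452)) (.leaf 538))) (.node (.node (.node (.leaf 646) (.leaf 12)) (.leaf 544)) (.node (.leaf 356) (.leaf 472)))) (.node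 (.node (.node (.node (.leaf 507) (.leaf 47)) (.leaf 571)) (.node (.leaf 609) (.leaf 482))) (.node (.node (.node (.leaf 264) (.leaf 497)) (.leaf 152)) (.node (.leaf 41) (.leaf 562)))))) (.node (.node (.node (.node (.node (.node (.leaf 121) (.leaf 73)) (.leaf 185)) (.node (.node (.leaf 632) (.leaf 592)) (.leaf 137))) (.node (.node (.node (.leaf 492) (.leaf 386)) (.leaf 206)) (.node (.leaf 231) (.leaf 578)))) (.node (.node (.node (.node (.leaf 165) (.leaf 414)) (.leaf 396)) (.node (.leaf 17) (.leaf 534))) (.node (.node (.node (.leaf 14) (.leaf 594)) (.leaf 183)) (.node (.leaf 202) (.leaf 275))))) (.node (.node (.node (.node (.node (.leaf 607) (.leaf 42)) (.leaf 292)) (.node (.leaf 294) (.leaf 126))) (.node (.node (.node (.leaf 314) (.leaf 366)) (.leaf 389)) (.node (.leaf 243) (.leaf 413)))) (.node (.node (.node (.node (.leaf 639) (.leaf 128)) (.leaf 502)) (.node (.leaf 628) (.leaf 46))) (.node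 (.node (.node (.leaf 145) (.leaf 645)) (.leaf 265)) (.node (.leaf 257) (.leaf 550)))))))

/-- Data. -/
def cert660Ord_1 : BT (ℕ) :=
  (.node (.node (.node (.node (.node (.node (.node (.leaf 399) (.leaf 324)) (.leaf 510)) (.node (.node (.leaf 62) (.leaf 148)) (.leaf 138))) (.node (.node (.node (.leaf 143) (.leaf 205)) (.leaf 198)) (.node (.leaf 36) (.leaf 289)))) (.node (.node (.node (.node (.leaf 295) (.leaf 566)) (.leaf 561)) (.node (.leaf 520) (.leaf 602))) (.node (.node (.node (.leaf 233) (.leaf 232)) (.leaf 215)) (.node (.leaf 70) (.leaf 483))))) (.node (.node (.node (.node (.node (.leaf 146) (.leaf 526)) (.leaf 525)) (.node (.leaf 13) (.leaf 344))) (.node (.node (.node (.leaf 418) (.leaf 280)) (.leaf 71)) (.node (.leaf 54) (.leaf 116)))) (.node (.node (.node (.node (.leaf 546) (.leaf 110)) (.leaf 429)) (.node (.leaf 195) (.leaf 259))) (.node (.node (.node (.leaf 541) (.leaf 48)) (.leaf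 576)) (.node (.leaf 484) (.leaf 213)))))) (.node (.node (.node (.node (.node (.node (.leaf 296) (.leaf 475)) (.leaf 638)) (.node (.node (.leaf 392) (.leaf 64)) (.leaf 103))) (.node (.node (.node (.leaf 330) (.leaf 82)) (.leaf 401)) (.node (.leaf 170) (.leaf 246)))) (.node (.node (.node (.node (.leaf 643) (.leaf 245)) (.leaf 455)) (.node (.leaf 361) (.leaf 618))) (.node (.node (.node (.leaf 359) (.leaf 238)) (.leaf 27)) (.node (.leaf 636) (.leaf 161))))) (.node (.node (.node (.node (.node (.leaf 15) (.leaf 336)) (.leaf 450)) (.node (.leaf 93) (.leaf 590))) (.node (.node (.node (.leaf 226) (.leaf 3)) (.leaf 282)) (.node (.leaf 30) (.leaf 469)))) (.node (.node (.node (.node (.leaf 454) (.leaf 584)) (.leaf 532)) (.node (.leaf 655) (.leaf 28))) (.node (.node (.node (.leaf 633) (.leaf 491)) (.leaf 605)) (.node (.leaf 626) (.leaf 186)))))))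

/-- Data. -/
def cert660Ord_2 : BT (ℕ) :=
  (.node (.node (.node (.node (.node (.node (.node (.leaf 521) (.leaf 118)) (.leaf 69)) (.node (.node (.leaf 574) (.leaf 222)) (.leaf 268))) (.node (.node (.node (.leaf 283) (.leaf 382)) (.leaf 83)) (.node (.leaf 277) (.leaf 105)))) (.node (.node (.node (.node (.leaf 490) (.leaf 405)) (.leaf 92)) (.node (.leaf 111) (.leaf 312))) (.node (.node (.node (.leaf 60) (.leaf 384)) (.leaf 5)) (.node (.leaf 504) (.leaf 4))))) (.node (.node (.node (.node (.node (.leaf 370) (.leaf 580)) (.leaf 199)) (.node (.node (.leaf 362) (.leaf 172)) (.leaf 229))) (.node (.node (.node (.leaf 320) (.leaf 435)) (.leaf 50)) (.node (.leaf 43) (.leaf 616)))) (.node (.node (.node (.node (.leaf 24) (.leaf 76)) (.leaf 527)) (.node (.leaf 322) (.leaf 23))) (.node (.node (.node (.leaf 367) (.leaf 345)) (.leaf 33)) (.node (.leaf 220) (.leaf 184)))))) (.node (.node (.node (.node (.node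 (.node (.leaf 177) (.leaf 318)) (.leaf 458)) (.node (.node (.leaf 406) (.leaf 369)) (.leaf 499))) (.node (.node (.node (.leaf 90) (.leaf 45)) (.leaf 59)) (.node (.leaf 171) (.leaf 328)))) (.node (.node (.node (.node (.leaf 321) (.leaf 380)) (.leaf 274)) (.node (.leaf 217) (.leaf 323))) (.node (.node (.node (.leaf 498) (.leaf 354)) (.leaf 364)) (.node (.leaf 388) (.leaf 326))))) (.node (.node (.node (.node (.node (.leaf 427) (.leaf 262)) (.leaf 95)) (.node (.leaf 343) (.leaf 513))) (.node (.node (.node (.leaf 652) (.leaf 540)) (.leaf 551)) (.node (.leaf 365) (.leaf 209)))) (.node (.node (.node (.node (.leaf 572) (.leaf 391)) (.leaf 349)) (.node (.leaf 439) (.leaf 486))) (.node (.node (.node (.leaf 595) (.leaf 599)) (.leaf 403)) (.node (.leaf 102) (.leaf 614)))))))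

/-- Data. -/
def cert660Ord_3 : BT (ℕ) :=
  (.node (.node (.node (.node (.node (.node (.node (.leaf 431) (.leaf 242)) (.leaf 481)) (.node (.node (.leaf 129) (.leaf 212)) (.leaf 130))) (.node (.node (.node (.leaf 249) (.leaf 304)) (.leaf 505)) (.node (.leaf 585) (.leaf 235)))) (.node (.node (.node (.node (.leaf 208) (.leaf 174)) (.leaf 325)) (.node (.leaf 227) (.leaf 279))) (.node (.node (.node (.leaf 346) (.leaf 25)) (.leaf 123)) (.node (.leaf 276) (.leaf 464))))) (.node (.node (.node (.node (.node (.leaf 419) (.leaf 485)) (.leaf 503)) (.node (.leaf 516) (.leaf 192))) (.node (.node (.node (.leaf 80) (.leaf 603)) (.leaf 319)) (.node (.leaf 122) (.leaf 160)))) (.node (.node (.node (.node (.leaf 437) (.leaf 290)) (.leaf 119)) (.node (.leaf 496) (.leaf 169))) (.node (.node (.node (.leaf 8) (.leaf 623)) (.leaf 657)) (.node (.leaf 21) (.leaf 301)))))) (.node (.node (.node (.node (.node (.node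 (.leaf 473) (.leaf 339)) (.leaf 132)) (.node (.node (.leaf 461) (.leaf 166)) (.leaf 612))) (.node (.node (.node (.leaf 647) (.leaf 150)) (.leaf 187)) (.node (.leaf 270) (.leaf 395)))) (.node (.node (.node (.node (.leaf 659) (.leaf 426)) (.leaf 600)) (.node (.leaf 133) (.leaf 134))) (.node (.node (.node (.leaf 120) (.leaf 409)) (.leaf 307)) (.node (.leaf 518) (.leaf 49))))) (.node (.node (.node (.node (.node (.leaf 210) (.leaf 642)) (.leaf 428)) (.node (.leaf 627) (.leaf 63))) (.node (.node (.node (.leaf 651) (.leaf 494)) (.leaf 583)) (.node (.leaf 298) (.leaf 565)))) (.node (.node (.node (.node (.leaf 445) (.leaf 573)) (.leaf 214)) (.node (.leaf 236) (.leaf 81))) (.node (.node (.node (.leaf 416) (.leaf 588)) (.leaf 467)) (.node (.leaf 577) (.leaf 239)))))))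

/-- Data. -/
def cert660Ord_4 : BT (ℕ) :=
  (.node (.node (.node (.node (.node (.node (.node (.leaf 1) (.leaf 570)) (.leaf 317)) (.node (.node (.leaf 613) (.leaf 225)) (.leaf 131))) (.node (.node (.node (.leaf 563) (.leaf 342)) (.leaf 302)) (.node (.leaf 466) (.leaf 149)))) (.node (.node (.node (.node (.leaf 587) (.leaf 557)) (.leaf 72)) (.node (.leaf 159) (.leaf 568))) (.node (.node (.node (.leaf 598) (.leaf 500)) (.leaf 412)) (.node (.leaf 351) (.leaf 219))))) (.node (.node (.node (.node (.node (.leaf 91) (.leaf 637)) (.leaf 188)) (.node (.node (.leaf 181) (.leaf 410)) (.leaf 589))) (.node (.node (.node (.leaf 622) (.leaf 9)) (.leaf 593)) (.node (.leaf 299) (.leaf 407)))) (.node (.node (.node (.node (.leaf 451) (.leaf 57)) (.leaf 508)) (.node (.leaf 619) (.leaf 421))) (.node (.node (.node (.leaf 223) (.leaf 441)) (.leaf 182)) (.node (.leaf 51) (.leaf 604)))))) (.node (.node (.node (.node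 (.node (.node (.leaf 99) (.leaf 58)) (.leaf 155)) (.node (.node (.leaf 650) (.leaf 543)) (.leaf 167))) (.node (.node (.node (.leaf 434) (.leaf 417)) (.leaf 248)) (.node (.leaf 271) (.leaf 517)))) (.node (.node (.node (.node (.leaf 135) (.leaf 478)) (.leaf 463)) (.node (.leaf 22) (.leaf 554))) (.node (.node (.node (.leaf 19) (.leaf 547)) (.leaf 153)) (.node (.leaf 244) (.leaf 333))))) (.node (.node (.node (.node (.node (.leaf 569) (.leaf 52)) (.leaf 350)) (.node (.leaf 352) (.leaf 104))) (.node (.node (.node (.leaf 315) (.leaf 310)) (.leaf 457)) (.node (.leaf 201) (.leaf 477)))) (.node (.node (.node (.node (.leaf 617) (.leaf 106)) (.leaf 446)) (.node (.leaf 635) (.leaf 56))) (.node (.node (.node (.leaf 175) (.leaf 621)) (.leaf 224)) (.node (.leaf 216) (.leaf 596)))))))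

/-- Data. -/
def cert660Ord_5 : BT (ℕ) :=
  (.node (.node (.node (.node (.node (.node (.node (.leaf 465) (.leaf 377)) (.leaf 535)) (.node (.node (.leaf 77) (.leaf 178)) (.leaf 168))) (.node (.node (.node (.leaf 173) (.leaf 247)) (.leaf 240)) (.node (.leaf 29) (.leaf 347)))) (.node (.node (.node (.node (.leaf 353) (.leaf 548)) (.leaf 545)) (.node (.leaf 523) (.leaf 558))) (.node (.node (.node (.leaf 273) (.leaf 272)) (.leaf 256)) (.node (.leaf 85) (.leaf 422))))) (.node (.node (.node (.node (.node (.leaf 176) (.leaf 581)) (.leaf 533)) (.node (.leaf 10) (.leaf 286))) (.node (.node (.node (.leaf 479) (.leaf 338)) (.leaf 86)) (.node (.leaf 44) (.leaf 94)))) (.node (.node (.node (.node (.leaf 553) (.leaf 88)) (.leaf 489)) (.node (.leaf 237) (.leaf 218))) (.node (.node (.node (.leaf 591) (.leaf 38)) (.leaf 514)) (.node (.leaf 423) (.leaf 254)))))) (.node (.node (.node (.node (.node (.node (.leaf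 331) (.leaf 411)) (.leaf 631)) (.node (.node (.leaf 460) (.leaf 79)) (.leaf 125))) (.node (.node (.node (.leaf 383) (.leaf 67)) (.leaf 398)) (.node (.leaf 140) (.leaf 204)))) (.node (.node (.node (.node (.leaf 610) (.leaf 203)) (.leaf 387)) (.node (.leaf 305) (.leaf 620))) (.node (.node (.node (.leaf 303) (.leaf 196)) (.leaf 34)) (.node (.leaf 629) (.leaf 191))))) (.node (.node (.node (.node (.node (.leaf 20) (.leaf 278)) (.leaf 506)) (.node (.leaf 115) (.leaf 539))) (.node (.node (.node (.leaf 266) (.leaf 2)) (.leaf 340)) (.node (.leaf 37) (.leaf 404)))) (.node (.node (.node (.node (.leaf 385) (.leaf 530)) (.leaf 586)) (.node (.leaf 653) (.leaf 35))) (.node (.node (.node (.leaf 625) (.leaf 433)) (.leaf 564)) (.node (.leaf 648) (.leaf 156)))))))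

/-- Data. -/
def cert660Ord_6 : BT (ℕ) :=
  (.node (.node (.node (.node (.node (.node (.node (.leaf 560) (.leaf 96)) (.leaf 84)) (.node (.node (.leaf 512) (.leaf 263)) (.leaf 228))) (.node (.node (.node (.leaf 341) (.leaf 329)) (.leaf 68)) (.node (.leaf 335) (.leaf 127)))) (.node (.node (.node (.node (.leaf 432) (.leaf 470)) (.leaf 114)) (.node (.leaf 89) (.leaf 368))) (.node (.node (.node (.leaf 75) (.leaf 453)) (.leaf 7)) (.node (.leaf 448) (.leaf 6))))) (.node (.node (.node (.node (.node (.leaf 316) (.leaf 524)) (.leaf 241)) (.node (.node (.leaf 306) (.leaf 142)) (.leaf 269))) (.node (.node (.node (.leaf 373) (.leaf 415)) (.leaf 40)) (.node (.leaf 53) (.leaf 641)))) (.node (.node (.node (.node (.leaf 31) (.leaf 61)) (.leaf 582)) (.node (.leaf 375) (.leaf 18))) (.node (.node (.node (.leaf 311) (.leaf 287)) (.leaf 26)) (.node (.leaf 261) (.leaf 154)))))) (.node (.node (.node (.node (.node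 (.node (.leaf 147) (.leaf 372)) (.leaf 390)) (.node (.node (.leaf 471) (.leaf 313)) (.leaf 443))) (.node (.node (.node (.leaf 112) (.leaf 55)) (.leaf 74)) (.node (.leaf 141) (.leaf 381)))) (.node (.node (.node (.node (.leaf 374) (.leaf 327)) (.leaf 332)) (.node (.leaf 258) (.leaf 376))) (.node (.node (.node (.leaf 442) (.leaf 297)) (.leaf 308)) (.node (.leaf 456) (.leaf 379))))) (.node (.node (.node (.node (.node (.leaf 488) (.leaf 221)) (.leaf 117)) (.node (.leaf 285) (.leaf 575))) (.node (.node (.node (.leaf 656) (.leaf 522)) (.leaf 597)) (.node (.leaf 309) (.leaf 251)))) (.node (.node (.node (.node (.leaf 509) (.leaf 459)) (.leaf 291)) (.node (.leaf 495) (.leaf 425))) (.node (.node (.node (.leaf 549) (.leaf 555)) (.leaf 468)) (.node (.leaf 124) (.leaf 630)))))))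

/-- Data. -/
def cert660Ord_7 : BT (ℕ) :=
  (.node (.node (.node (.node (.node (.node (.node (.leaf 430) (.leaf 200)) (.leaf 420)) (.node (.node (.leaf 107) (.leaf 253)) (.leaf 108))) (.node (.node (.node (.leaf 207) (.leaf 360)) (.leaf 449)) (.node (.leaf 531) (.leaf 193)))) (.node (.node (.node (.node (.leaf 250) (.leaf 144)) (.leaf 378)) (.node (.leaf 267) (.leaf 337))) (.node (.node (.node (.leaf 288) (.leaf 32)) (.leaf 101)) (.node (.leaf 334) (.leaf 397))))) (.node (.node (.node (.node (.node (.leaf 480) (.leaf 424)) (.leaf 447)) (.node (.leaf 567) (.leaf 234))) (.node (.node (.node (.leaf 65) (.leaf 559)) (.leaf 300)) (.node (.leaf 100) (.leaf 190)))) (.node (.node (.node (.node (.leaf 493) (.leaf 348)) (.leaf 97)) (.node (.leaf 440) (.leaf 139))) (.node (.node (.node (.leaf 11) (.leaf 611)) (.leaf 658)) (.node (.leaf 16) (.leaf 357)))))) (.node (.node (.node (.node (.node (.node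 (.leaf 408) (.leaf 281)) (.leaf 162)) (.node (.node (.leaf 394) (.leaf 136)) (.leaf 615))) (.node (.node (.node (.leaf 624) (.leaf 180)) (.leaf 157)) (.node (.leaf 230) (.leaf 462)))) (.node (.node (.node (.node (.leaf 654) (.leaf 487)) (.leaf 556)) (.node (.leaf 163) (.leaf 164))) (.node (.node (.node (.leaf 98) (.leaf 474)) (.leaf 363)) (.node (.leaf 579) (.leaf 39))))) (.node (.node (.node (.node (.node (.leaf 252) (.leaf 608)) (.leaf 393)) (.node (.leaf 649) (.leaf 78))) (.node (.node (.node (.leaf 634) (.leaf 438)) (.leaf 528)) (.node (.leaf 355) (.leaf 606)))) (.node (.node (.node (.node (.leaf 501) (.leaf 511)) (.leaf 255)) (.node (.leaf 194) (.leaf 66))) (.node (.node (.node (.leaf 436) (.leaf 537)) (.leaf 402)) (.node (.leaf 515) (.leaf 197)))))))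

/-- Data. -/
def cert660Ord : BT (ℕ) :=
  (.node (.node (.node cert660Ord_0 cert660Ord_1) (.node cert660Ord_2 cert660Ord_3)) (.node (.node cert660Ord_4 cert660Ord_5) (.node cert660Ord_6 cert660Ord_7)))

/-- Data. -/
def cert660Pos_0 : BT (ℕ) :=
  (.node (.node (.node (.node (.node (.node (.node (.leaf 0) (.leaf 131)) (.leaf 357)) (.node (.node (.leaf 568) (.leaf 528)) (.leaf 610))) (.node (.node (.node (.leaf 652) (.leaf 372)) (.leaf 82)) (.node (.leaf 406) (.leaf 227)))) (.node (.node (.node (.node (.leaf 615) (.leaf 336)) (.leaf 103)) (.node (.leaf 470) (.leaf 126))) (.node (.node (.node (.leaf 515) (.leaf 543)) (.leaf 153)) (.node (.leaf 377) (.leaf 23))))) (.node (.node (.node (.node (.node (.leaf 247) (.leaf 351)) (.leaf 613)) (.node (.node (.leaf 551) (.leaf 91)) (.leaf 192))) (.node (.node (.node (.leaf 86) (.leaf 648)) (.leaf 540)) (.node (.leaf 38) (.leaf 486)))) (.node (.node (.node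 (.node (.leaf 628) (.leaf 3)) (.leaf 582)) (.node (.leaf 21) (.leaf 35))) (.node (.node (.node (.leaf 75) (.leaf 79)) (.leaf 419)) (.node (.leaf 325) (.leaf 182)))))) (.node (.node (.node (.node (.node (.node (.leaf 118) (.leaf 164)) (.leaf 112)) (.node (.node (.leaf 655) (.leaf 253)) (.leaf 140))) (.node (.node (.node (.leaf 289) (.leaf 572)) (.leaf 458)) (.node (.leaf 519) (.leaf 235)))) (.node (.node (.node (.node (.leaf 339) (.leaf 96)) (.leaf 12)) (.node (.leaf 389) (.leaf 535))) (.node (.node (.node (.leaf 409) (.leaf 466)) (.leaf 583)) (.node (.leaf 612) (.leaf 27))))) (.node (.node (.node (.node (.node (.leaf 50) (.leaf 32)) (.leaf 596)) (.node (.leaf 368) (.leaf 15))) (.node (.node (.node (.leaf 565) (.leaf 302)) (.leaf 404)) (.node (.leaf 249) (.leaf 464)))) (.node (.node (.node (.node (.leaf 441) (.leaf 417)) (.leaf 418)) (.node (.leaf 498) (.leaf 183))) (.node (.node (.node (.leaf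 110) (.leaf 136)) (.leaf 427)) (.node (.leaf 329) (.leaf 226)))))))

/-- Data. -/
def cert660Pos_1 : BT (ℕ) :=
  (.node (.node (.node (.node (.node (.node (.node (.leaf 482) (.leaf 150)) (.leaf 480)) (.node (.node (.leaf 270) (.leaf 128)) (.leaf 234))) (.node (.node (.node (.leaf 323) (.leaf 530)) (.leaf 516)) (.node (.leaf 621) (.leaf 656)))) (.node (.node (.node (.node (.leaf 196) (.leaf 549)) (.leaf 280)) (.node (.leaf 431) (.leaf 263))) (.node (.node (.node (.leaf 215) (.leaf 398)) (.leaf 208)) (.node (.leaf 387) (.leaf 244))))) (.node (.node (.node (.node (.node (.leaf 29) (.leaf 316)) (.leaf 230)) (.node (.leaf 644) (.leaf 477))) (.node (.node (.node (.leaf 259) (.leaf 505)) (.leaf 349)) (.node (.leaf 646) (.leaf 379)))) (.node (.node (.node (.node (.leaf 537) (.leaf 381)) (.leaf 363)) (.node (.leaf 591) (.leaf 127))) (.node (.node (.node (.leaf 468) (.leaf 184)) (.leaf 523)) (.node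 (.leaf 233) (.leaf 609)))))) (.node (.node (.node (.node (.node (.node (.leaf 592) (.leaf 531)) (.leaf 386)) (.node (.node (.leaf 205) (.leaf 90)) (.leaf 296))) (.node (.node (.node (.leaf 562) (.leaf 638)) (.leaf 299)) (.node (.leaf 461) (.leaf 141)))) (.node (.node (.node (.node (.leaf 213) (.leaf 303)) (.leaf 343)) (.node (.leaf 658) (.leaf 286))) (.node (.node (.node (.leaf 391) (.leaf 429)) (.leaf 362)) (.node (.leaf 190) (.leaf 72))))) (.node (.node (.node (.node (.node (.leaf 444) (.leaf 602)) (.leaf 576)) (.node (.leaf 509) (.leaf 353))) (.node (.node (.node (.leaf 290) (.leaf 497)) (.leaf 567)) (.node (.leaf 242) (.leaf 352)))) (.node (.node (.node (.node (.leaf 98) (.leaf 58)) (.leaf 19)) (.node (.leaf 273) (.leaf 608))) (.node (.node (.node (.leaf 251) (.leaf 236)) (.leaf 554)) (.node (.leaf 31) (.leaf 305)))))))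

/-- Data. -/
def cert660Pos_2 : BT (ℕ) :=
  (.node (.node (.node (.node (.node (.node (.node (.leaf 605) (.leaf 373)) (.leaf 171)) (.node (.node (.leaf 390) (.leaf 542)) (.leaf 584))) (.node (.node (.node (.leaf 447) (.leaf 456)) (.leaf 178)) (.node (.leaf 191) (.leaf 284)))) (.node (.node (.node (.node (.leaf 365) (.leaf 52)) (.leaf 566)) (.node (.leaf 271) (.leaf 84))) (.node (.node (.node (.leaf 111) (.leaf 45)) (.leaf 618)) (.node (.leaf 92) (.leaf 432))))) (.node (.node (.node (.node (.node (.leaf 435) (.leaf 573)) (.leaf 298)) (.node (.node (.leaf 20) (.leaf 375)) (.leaf 383))) (.node (.node (.node (.leaf 588) (.leaf 616)) (.leaf 597)) (.node (.leaf 30) (.leaf 193)))) (.node (.node (.node (.node (.leaf 338) (.leaf 496)) (.leaf 147)) (.node (.leaf 645) (.leaf 73))) (.node (.node (.node (.leaf 291) (.leaf 252)) (.leaf 18)) (.node (.leaf 518) (.leaf 106)))))) (.node (.node (.node (.node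 (.node (.node (.leaf 149) (.leaf 603)) (.leaf 93)) (.node (.node (.leaf 388) (.leaf 137)) (.leaf 143))) (.node (.node (.node (.leaf 331) (.leaf 317)) (.leaf 76)) (.node (.leaf 232) (.leaf 266)))) (.node (.node (.node (.node (.leaf 536) (.leaf 425)) (.leaf 222)) (.node (.leaf 204) (.leaf 558))) (.node (.node (.node (.leaf 569) (.leaf 428)) (.leaf 146)) (.node (.leaf 407) (.leaf 34))))) (.node (.node (.node (.node (.node (.leaf 371) (.leaf 400)) (.leaf 348)) (.node (.leaf 499) (.leaf 657))) (.node (.node (.node (.leaf 74) (.leaf 420)) (.leaf 102)) (.node (.leaf 437) (.leaf 623)))) (.node (.node (.node (.node (.leaf 521) (.leaf 513)) (.leaf 88)) (.node (.leaf 508) (.leaf 107))) (.node (.node (.node (.leaf 214) (.leaf 95)) (.leaf 295)) (.node (.leaf 39) (.leaf 285)))))))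

/-- Data. -/
def cert660Pos_3 : BT (ℕ) :=
  (.node (.node (.node (.node (.node (.node (.node (.leaf 483) (.leaf 238)) (.leaf 538)) (.node (.node (.leaf 430) (.leaf 80)) (.leaf 267))) (.node (.node (.node (.leaf 228) (.leaf 307)) (.leaf 490)) (.node (.leaf 324) (.leaf 60)))) (.node (.node (.node (.node (.leaf 629) (.leaf 504)) (.leaf 152)) (.node (.leaf 654) (.leaf 485))) (.node (.node (.node (.leaf 250) (.leaf 506)) (.leaf 320)) (.node (.leaf 207) (.leaf 442))))) (.node (.node (.node (.node (.node (.leaf 169) (.leaf 424)) (.leaf 541)) (.node (.leaf 590) (.leaf 138))) (.node (.node (.node (.leaf 341) (.leaf 97)) (.leaf 577)) (.node (.leaf 318) (.leaf 547)))) (.node (.node (.node (.node (.leaf 212) (.leaf 548)) (.leaf 601)) (.node (.leaf 369) (.leaf 607))) (.node (.node (.node (.leaf 514) (.leaf 507)) (.leaf 43)) (.node (.leaf 460) (.leaf 312)))))) (.node (.node (.node (.node (.node (.node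 (.leaf 104) (.leaf 532)) (.leaf 206)) (.node (.node (.leaf 659) (.leaf 47)) (.leaf 333))) (.node (.node (.node (.leaf 415) (.leaf 412)) (.leaf 231)) (.node (.leaf 328) (.leaf 463)))) (.node (.node (.node (.node (.leaf 440) (.leaf 421)) (.leaf 321)) (.node (.leaf 550) (.leaf 7))) (.node (.node (.node (.leaf 564) (.leaf 81)) (.leaf 600)) (.node (.leaf 620) (.leaf 606))))) (.node (.node (.node (.node (.node (.leaf 220) (.leaf 416)) (.leaf 405)) (.node (.leaf 272) (.leaf 552))) (.node (.node (.node (.leaf 469) (.leaf 479)) (.leaf 281)) (.node (.leaf 642) (.leaf 553)))) (.node (.node (.node (.node (.leaf 132) (.leaf 130)) (.leaf 522)) (.node (.leaf 471) (.leaf 313))) (.node (.node (.node (.leaf 408) (.leaf 268)) (.leaf 578)) (.node (.leaf 501) (.leaf 260)))))))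

/-- Data. -/
def cert660Pos_4 : BT (ℕ) :=
  (.node (.node (.node (.node (.node (.node (.node (.leaf 1) (.leaf 410)) (.leaf 248)) (.node (.node (.leaf 134) (.leaf 467)) (.leaf 61))) (.node (.node (.node (.leaf 87) (.leaf 254)) (.leaf 42)) (.node (.leaf 455) (.leaf 327)))) (.node (.node (.node (.node (.leaf 370) (.leaf 293)) (.leaf 452)) (.node (.leaf 492) (.leaf 585))) (.node (.node (.node (.leaf 311) (.leaf 176)) (.leaf 37)) (.node (.leaf 641) (.leaf 262))))) (.node (.node (.node (.node (.node (.leaf 168) (.leaf 512)) (.leaf 101)) (.node (.node (.leaf 120) (.leaf 374)) (.leaf 332))) (.node (.node (.node (.leaf 446) (.leaf 337)) (.leaf 423)) (.node (.leaf 474) (.leaf 5)))) (.node (.node (.node (.node (.leaf 494) (.leaf 292)) (.leaf 173)) (.node (.leaf 10) (.leaf 637))) (.node (.node (.node (.leaf 16) (.leaf 125)) (.leaf 650)) (.node (.leaf 275) (.leaf 624)))))) (.node (.node (.node (.node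 (.node (.node (.leaf 593) (.leaf 2)) (.leaf 376)) (.node (.node (.leaf 392) (.leaf 159)) (.leaf 287))) (.node (.node (.node (.leaf 520) (.leaf 198)) (.leaf 579)) (.node (.leaf 217) (.leaf 345)))) (.node (.node (.node (.node (.leaf 240) (.leaf 53)) (.leaf 619)) (.node (.leaf 438) (.leaf 443))) (.node (.node (.node (.leaf 450) (.leaf 57)) (.leaf 172)) (.node (.leaf 100) (.leaf 309))))) (.node (.node (.node (.node (.node (.leaf 614) (.leaf 639)) (.leaf 527)) (.node (.leaf 361) (.leaf 622))) (.node (.node (.node (.leaf 163) (.leaf 544)) (.leaf 626)) (.node (.leaf 170) (.leaf 14)))) (.node (.node (.node (.node (.leaf 561) (.leaf 25)) (.leaf 651)) (.node (.leaf 264) (.leaf 625))) (.node (.node (.node (.leaf 8) (.leaf 124)) (.leaf 517)) (.node (.leaf 70) (.leaf 326)))))))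

/-- Data. -/
def cert660Pos_5 : BT (ℕ) :=
  (.node (.node (.node (.node (.node (.node (.node (.leaf 354) (.leaf 457)) (.leaf 243)) (.node (.node (.leaf 174) (.leaf 632)) (.leaf 344))) (.node (.node (.node (.leaf 258) (.leaf 533)) (.leaf 294)) (.node (.leaf 511) (.leaf 611)))) (.node (.node (.node (.node (.leaf 221) (.leaf 123)) (.leaf 224)) (.node (.leaf 40) (.leaf 433))) (.node (.node (.node (.leaf 359) (.leaf 129)) (.leaf 503)) (.node (.leaf 402) (.leaf 534))))) (.node (.node (.node (.node (.node (.leaf 246) (.leaf 277)) (.leaf 194)) (.node (.leaf 449) (.leaf 546))) (.node (.node (.node (.leaf 229) (.leaf 347)) (.leaf 67)) (.node (.leaf 500) (.leaf 476)))) (.node (.node (.node (.node (.leaf 211) (.leaf 478)) (.leaf 219)) (.node (.leaf 145) (.leaf 54))) (.node (.node (.node (.leaf 283) (.leaf 237)) (.leaf 83)) (.node (.leaf 556) (.leaf 63)))))) (.node (.node (.node (.node (.node (.node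 (.leaf 148) (.leaf 276)) (.leaf 403)) (.node (.node (.leaf 203) (.leaf 189)) (.leaf 487))) (.node (.node (.node (.leaf 133) (.leaf 401)) (.leaf 489)) (.node (.leaf 580) (.leaf 142)))) (.node (.node (.node (.node (.leaf 586) (.leaf 545)) (.leaf 502)) (.node (.leaf 69) (.leaf 308))) (.node (.node (.node (.leaf 384) (.leaf 633)) (.leaf 218)) (.node (.leaf 181) (.leaf 55))))) (.node (.node (.node (.node (.node (.leaf 197) (.leaf 116)) (.leaf 155)) (.node (.leaf 335) (.leaf 472))) (.node (.node (.node (.leaf 156) (.leaf 380)) (.leaf 314)) (.node (.leaf 539) (.leaf 473)))) (.node (.node (.node (.node (.leaf 563) (.leaf 574)) (.leaf 257)) (.node (.leaf 160) (.leaf 62))) (.node (.node (.node (.leaf 397) (.leaf 529)) (.leaf 459)) (.node (.leaf 647) (.leaf 59)))))))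

/-- Data. -/
def cert660Pos_6 : BT (ℕ) :=
  (.node (.node (.node (.node (.node (.node (.node (.leaf 604) (.leaf 255)) (.leaf 436)) (.node (.node (.leaf 385) (.leaf 44)) (.leaf 301))) (.node (.node (.node (.leaf 589) (.leaf 239)) (.leaf 426)) (.node (.leaf 180) (.leaf 49)))) (.node (.node (.node (.node (.leaf 445) (.leaf 617)) (.leaf 315)) (.node (.leaf 175) (.leaf 22))) (.node (.node (.node (.leaf 9) (.leaf 631)) (.leaf 223)) (.node (.leaf 166) (.leaf 484))))) (.node (.node (.node (.node (.node (.leaf 105) (.leaf 199)) (.leaf 488)) (.node (.node (.leaf 11) (.leaf 46)) (.leaf 378))) (.node (.node (.node (.leaf 322) (.leaf 122)) (.leaf 526)) (.node (.leaf 640) (.leaf 382)))) (.node (.node (.node (.node (.leaf 241) (.leaf 65)) (.leaf 366)) (.node (.leaf 448) (.leaf 594))) (.node (.node (.node (.leaf 157) (.leaf 158)) (.leaf 256)) (.node (.leaf 216) (.leaf 394)))))) (.node (.node (.node (.node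 (.node (.node (.leaf 119) (.leaf 165)) (.leaf 167)) (.node (.node (.leaf 439) (.leaf 94)) (.leaf 462))) (.node (.node (.node (.leaf 99) (.leaf 33)) (.leaf 13)) (.node (.leaf 557) (.leaf 571)))) (.node (.node (.node (.node (.leaf 210) (.leaf 635)) (.leaf 209)) (.node (.leaf 202) (.leaf 26))) (.node (.node (.node (.leaf 135) (.leaf 177)) (.leaf 367)) (.node (.leaf 454) (.leaf 636))))) (.node (.node (.node (.node (.node (.leaf 364) (.leaf 413)) (.leaf 66)) (.node (.leaf 265) (.leaf 525))) (.node (.node (.node (.leaf 17) (.leaf 598)) (.leaf 453)) (.node (.leaf 481) (.leaf 524)))) (.node (.node (.node (.node (.leaf 330) (.leaf 304)) (.leaf 89)) (.node (.leaf 334) (.leaf 395))) (.node (.node (.node (.leaf 358) (.leaf 185)) (.leaf 491)) (.node (.leaf 475) (.leaf 48)))))))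

/-- Data. -/
def cert660Pos_7 : BT (ℕ) :=
  (.node (.node (.node (.node (.node (.node (.node (.leaf 355) (.leaf 64)) (.leaf 643)) (.node (.node (.leaf 41) (.leaf 78)) (.leaf 570))) (.node (.node (.node (.leaf 340) (.leaf 350)) (.leaf 555)) (.node (.leaf 274) (.leaf 300)))) (.node (.node (.node (.node (.leaf 495) (.leaf 346)) (.leaf 36)) (.node (.leaf 393) (.leaf 245))) (.node (.node (.node (.leaf 396) (.leaf 399)) (.leaf 108)) (.node (.leaf 200) (.leaf 559))))) (.node (.node (.node (.node (.node (.leaf 434) (.leaf 261)) (.leaf 422)) (.node (.leaf 144) (.leaf 465))) (.node (.node (.node (.leaf 288) (.leaf 634)) (.leaf 154)) (.node (.leaf 356) (.leaf 139)))) (.node (.node (.node (.node (.leaf 587) (.leaf 151)) (.leaf 115)) (.node (.leaf 360) (.leaf 186))) (.node (.node (.node (.leaf 310) (.leaf 269)) (.leaf 179)) (.node (.leaf 581) (.leaf 278)))))) (.node (.node (.node (.node (.node (.node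 (.leaf 28) (.leaf 306)) (.leaf 201)) (.node (.node (.leaf 68) (.leaf 188)) (.leaf 4))) (.node (.node (.node (.leaf 653) (.leaf 117)) (.leaf 195)) (.node (.leaf 71) (.leaf 297)))) (.node (.node (.node (.node (.leaf 560) (.leaf 599)) (.leaf 109)) (.node (.leaf 121) (.leaf 6))) (.node (.node (.node (.leaf 162) (.leaf 630)) (.leaf 114)) (.node (.leaf 510) (.leaf 187))))) (.node (.node (.node (.node (.node (.leaf 51) (.leaf 649)) (.leaf 627)) (.node (.leaf 161) (.leaf 595))) (.node (.node (.node (.leaf 282) (.leaf 24)) (.leaf 225)) (.node (.leaf 113) (.leaf 85)))) (.node (.node (.node (.node (.leaf 414) (.leaf 411)) (.leaf 342)) (.node (.leaf 493) (.leaf 279))) (.node (.node (.node (.leaf 451) (.leaf 56)) (.leaf 77)) (.node (.leaf 319) (.leaf 575)))))))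

/-- Data. -/
def cert660Pos : BT (ℕ) :=
  (.node (.node (.node cert660Pos_0 cert660Pos_1) (.node cert660Pos_2 cert660Pos_3)) (.node (.node cert660Pos_4 cert660Pos_5) (.node cert660Pos_6 cert660Pos_7)))

/-- Data. -/
def cert660Img_0 : BT (List ℕ) :=
  (.node (.node (.node (.node (.node (.node (.node (.leaf [1,0,0,1]) (.leaf [5,0,4,9])) (.leaf [3,4,9,5])) (.node (.node (.leaf [1,6,2,2]) (.leaf [5,3,5,1])) (.leaf [2,7,10,8]))) (.node (.node (.node (.leaf [5,3,9,10]) (.leaf [2,10,4,4])) (.leaf [3,6,4,1])) (.node (.leaf [1,3,1,4]) (.leaf [5,8,0,9])))) (.node (.node (.node (.node (.leaf [1,10,3,9]) (.leaf [4,0,8,3])) (.leaf [3,4,0,4])) (.node (.leaf [5,10,0,9]) (.leaf [4,7,7,7]))) (.node (.node (.node (.leaf [3,2,4,3]) (.leaf [1,4,9,4])) (.leaf [3,7,4,6])) (.node (.leaf [0,3,7,2]) (.leaf [5,0,0,9]))))) (.node (.node (.node (.node (.node (.leaf [2,1,1,1]) (.leaf [4,6,4,9])) (.leaf [1,5,10,7]))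 (.node (.node (.leaf [3,2,6,8]) (.leaf [2,5,2,0])) (.leaf [4,2,8,7]))) (.node (.node (.node (.leaf [1,9,4,4]) (.leaf [2,0,2,6])) (.leaf [4,3,6,2])) (.node (.leaf [3,2,10,7]) (.leaf [4,5,1,7])))) (.node (.node (.node (.node (.leaf [2,10,1,0]) (.leaf [3,3,4,8])) (.leaf [2,7,9,10])) (.node (.leaf [4,4,3,6]) (.leaf [5,6,7,2]))) (.node (.node (.node (.leaf [2,10,8,2]) (.leaf [5,6,2,7])) (.leaf [5,8,4,0])) (.node (.leaf [3,9,0,4]) (.leaf [2,2,5,0])))))) (.node (.node (.node (.node (.node (.node (.leaf [1,1,0,1]) (.leaf [3,0,9,4])) (.leaf [2,4,3,1])) (.node (.node (.leaf [2,3,5,8]) (.leaf [0,5,2,2])) (.leaf [3,5,7,1]))) (.node (.node (.node (.leaf [1,0,7,1]) (.leaf [0,5,2,8])) (.leaf [5,8,6,1])) (.node (.leaf [3,4,8,0]) (.leaf [2,4,4,3])))) (.node (.node (.node (.node (.leaf [1,1,3,4]) (.leaf [4,3,0,3])) (.leaf [1,4,3,2])) (.node (.leaf [4,8,7,6]) (.leaf [5,2,0,9]))) (.node (.node (.node (.leaf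 [4,1,0,3]) (.leaf [4,10,7,4])) (.leaf [4,2,1,9])) (.node (.leaf [5,10,7,1]) (.leaf [4,0,0,3]))))) (.node (.node (.node (.node (.node (.leaf [1,2,10,10]) (.leaf [2,0,0,6])) (.leaf [1,2,5,0])) (.node (.leaf [0,4,8,10]) (.leaf [4,3,4,6]))) (.node (.node (.node (.leaf [1,3,10,9]) (.leaf [1,7,8,2])) (.leaf [4,5,8,2])) (.node (.leaf [5,2,1,5]) (.leaf [3,7,7,2])))) (.node (.node (.node (.node (.leaf [1,6,0,1]) (.leaf [4,6,6,1])) (.leaf [3,5,0,4])) (.node (.leaf [2,4,1,8]) (.leaf [2,9,0,6]))) (.node (.node (.node (.leaf [4,4,10,2]) (.leaf [4,0,1,3])) (.leaf [2,2,3,9])) (.node (.leaf [3,7,1,10]) (.leaf [3,5,2,0])))))))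

/-- Data. -/
def cert660Img_1 : BT (List ℕ) :=
  (.node (.node (.node (.node (.node (.node (.node (.leaf [1,1,10,0]) (.leaf [4,10,3,5])) (.leaf [4,0,3,3])) (.node (.node (.leaf [1,3,0,1]) (.leaf [2,4,0,6])) (.leaf [4,9,3,7]))) (.node (.node (.node (.leaf [3,1,7,10]) (.leaf [0,2,5,7])) (.leaf [3,3,9,2])) (.node (.leaf [3,5,1,2]) (.leaf [4,10,6,7])))) (.node (.node (.node (.node (.leaf [1,7,0,1]) (.leaf [3,5,5,5])) (.leaf [5,6,9,0])) (.node (.leaf [2,10,7,8]) (.leaf [2,7,0,6]))) (.node (.node (.node (.leaf [5,2,2,1]) (.leaf [4,4,2,5])) (.leaf [3,6,0,4])) (.node (.leaf [3,3,6,10]) (.leaf [4,6,2,6]))))) (.node (.node (.node (.node (.node (.leaf [1,10,2,10]) (.leaf [1,3,6,8])) (.leaf [1,3,9,6])) (.node (.leaf [2,1,0,6]) (.leaf [5,6,5,4]))) (.node (.node (.node (.leaf [1,7,2,4]) (.leaf [4,2,2,4])) (.leaf [5,8,7,7])) (.node (.leaf [2,6,4,7]) (.leaf [5,5,5,3])))) (.node (.node (.node (.node (.leaf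 [1,9,3,6]) (.leaf [5,3,0,9])) (.leaf [5,2,6,7])) (.node (.leaf [2,6,3,4]) (.leaf [4,4,4,7]))) (.node (.node (.node (.leaf [1,10,6,6]) (.leaf [0,3,7,4])) (.leaf [3,0,5,4])) (.node (.leaf [5,7,9,4]) (.leaf [5,9,10,5])))))) (.node (.node (.node (.node (.node (.node (.leaf [1,9,0,1]) (.leaf [2,0,7,6])) (.leaf [3,8,10,5])) (.node (.node (.leaf [5,6,10,10]) (.leaf [5,9,0,9])) (.leaf [2,3,6,4]))) (.node (.node (.node (.leaf [4,8,10,1]) (.leaf [5,0,5,9])) (.leaf [4,10,8,1])) (.node (.leaf [5,4,1,1]) (.leaf [5,8,1,4])))) (.node (.node (.node (.node (.leaf [3,1,5,2]) (.leaf [4,1,9,8])) (.leaf [4,7,3,0])) (.node (.leaf [3,7,9,3]) (.leaf [0,4,8,6]))) (.node (.node (.node (.leaf [4,10,1,0]) (.leaf [0,3,7,1])) (.leaf [2,6,7,5])) (.node (.leaf [4,3,2,10]) (.leaf [3,0,8,4]))))) (.node (.node (.node (.node (.node (.leaf [3,1,2,1]) (.leaf [4,8,1,5])) (.leaf [4,0,2,3])) (.node (.leaf [4,1,4,4]) (.leaf [3,2,5,0])))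 (.node (.node (.node (.leaf [3,4,2,3]) (.leaf [4,3,7,0])) (.leaf [5,7,3,0])) (.node (.leaf [3,5,8,10]) (.leaf [2,8,0,6])))) (.node (.node (.node (.node (.leaf [2,3,1,2]) (.leaf [3,10,2,7])) (.leaf [4,9,5,6])) (.node (.leaf [1,6,3,8]) (.leaf [2,5,6,10]))) (.node (.node (.node (.leaf [1,8,4,0]) (.leaf [4,4,1,4])) (.leaf [2,0,1,6])) (.node (.leaf [3,6,7,7]) (.leaf [2,7,1,4])))))))

/-- Data. -/
def cert660Img_2 : BT (List ℕ) :=
  (.node (.node (.node (.node (.node (.node (.node (.leaf [1,0,1,1]) (.leaf [1,2,7,4])) (.leaf [2,6,8,8])) (.node (.node (.leaf [1,4,0,1]) (.leaf [4,10,4,2])) (.leaf [2,5,5,2]))) (.node (.node (.node (.leaf [5,2,8,10]) (.leaf [3,2,0,4])) (.leaf [4,1,2,9])) (.node (.leaf [3,7,10,9]) (.leaf [5,10,4,6])))) (.node (.node (.node (.node (.leaf [1,9,2,8]) (.leaf [3,0,0,4])) (.leaf [4,5,0,3])) (.node (.leaf [3,10,1,0]) (.leaf [2,6,0,6]))) (.node (.node (.node (.leaf [4,7,2,1])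 (.leaf [4,2,10,8])) (.leaf [2,8,9,9])) (.node (.leaf [4,1,8,5]) (.leaf [3,4,4,2]))))) (.node (.node (.node (.node (.node (.leaf [1,0,4,1]) (.leaf [5,0,8,9])) (.leaf [1,4,10,8])) (.node (.node (.leaf [4,7,6,8]) (.leaf [2,2,0,6])) (.leaf [2,0,5,6]))) (.node (.node (.node (.leaf [1,8,3,3]) (.leaf [4,0,4,3])) (.leaf [2,10,0,6])) (.node (.leaf [5,3,4,7]) (.leaf [2,7,7,3])))) (.node (.node (.node (.node (.leaf [1,10,4,8]) (.leaf [3,7,0,4])) (.leaf [4,8,9,10])) (.node (.leaf [1,9,6,0]) (.leaf [0,3,7,8]))) (.node (.node (.node (.leaf [4,8,3,9]) (.leaf [5,0,2,9])) (.leaf [2,4,5,5])) (.node (.leaf [4,8,0,3]) (.leaf [3,8,5,10])))))) (.node (.node (.node (.node (.node (.node (.leaf [1,0,3,1]) (.leaf [3,4,6,1])) (.leaf [1,7,5,3])) (.node (.node (.leaf [3,4,5,7]) (.leaf [0,4,8,1])) (.leaf [2,8,2,3]))) (.node (.node (.node (.leaf [2,10,3,10]) (.leaf [3,10,8,5])) (.leaf [2,2,4,10])) (.node (.leaf [4,5,7,9])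 (.leaf [2,10,2,5])))) (.node (.node (.node (.node (.leaf [2,1,5,3]) (.leaf [4,4,8,0])) (.leaf [2,8,6,8])) (.node (.leaf [5,5,1,10]) (.leaf [3,8,4,0]))) (.node (.node (.node (.leaf [5,1,9,2]) (.leaf [3,0,1,4])) (.leaf [3,4,1,9])) (.node (.leaf [3,10,4,10]) (.leaf [5,5,9,7]))))) (.node (.node (.node (.node (.node (.leaf [1,1,9,10]) (.leaf [0,5,2,7])) (.leaf [3,5,4,7])) (.node (.leaf [4,9,8,10]) (.leaf [1,4,4,6]))) (.node (.node (.node (.leaf [1,2,9,8]) (.leaf [5,0,9,9])) (.leaf [4,8,4,0])) (.node (.leaf [3,8,9,6]) (.leaf [5,4,8,0])))) (.node (.node (.node (.node (.leaf [0,1,10,9]) (.leaf [5,4,4,10])) (.leaf [3,1,9,7])) (.node (.leaf [1,7,4,7]) (.leaf [3,3,1,5]))) (.node (.node (.node (.leaf [2,6,1,9]) (.leaf [2,7,6,5])) (.leaf [4,3,10,5])) (.node (.leaf [2,8,7,1]) (.leaf [1,5,5,4])))))))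

/-- Data. -/
def cert660Img_3 : BT (List ℕ) :=
  (.node (.node (.node (.node (.node (.node (.node (.leaf [1,10,0,1]) (.leaf [0,5,2,3])) (.leaf [1,8,6,5])) (.node (.node (.leaf [1,2,3,7]) (.leaf [0,2,5,9])) (.leaf [1,2,6,2]))) (.node (.node (.node (.leaf [5,1,4,1]) (.leaf [2,0,4,6])) (.leaf [5,1,2,5])) (.node (.leaf [2,3,7,0]) (.leaf [3,10,10,8])))) (.node (.node (.node (.node (.leaf [1,2,0,1]) (.leaf [2,7,4,9])) (.leaf [4,3,5,4])) (.node (.leaf [3,9,8,6]) (.leaf [1,5,7,3]))) (.node (.node (.node (.leaf [3,1,0,4]) (.leaf [5,9,6,0])) (.leaf [5,2,9,6])) (.node (.leaf [0,2,5,10]) (.leaf [3,10,3,3]))))) (.node (.node (.node (.node (.node (.leaf [1,8,0,1]) (.leaf [4,7,0,3])) (.leaf [3,7,2,5])) (.node (.leaf [5,2,7,3]) (.leaf [5,4,7,8]))) (.node (.node (.node (.leaf [1,5,0,1]) (.leaf [3,7,3,0])) (.leaf [0,4,8,2])) (.node (.leaf [2,1,2,7]) (.leaf [4,6,9,0])))) (.node (.node (.node (.node (.leaf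 [1,8,2,6]) (.leaf [5,8,5,6])) (.leaf [3,8,0,4])) (.node (.leaf [4,0,10,3]) (.leaf [4,1,5,7]))) (.node (.node (.node (.leaf [2,8,3,7]) (.leaf [2,5,0,6])) (.leaf [1,7,6,10])) (.node (.leaf [4,6,1,10]) (.leaf [1,6,9,0])))))) (.node (.node (.node (.node (.node (.node (.leaf [0,1,10,10]) (.leaf [5,6,8,1])) (.leaf [2,0,10,6])) (.node (.node (.leaf [4,3,8,9]) (.leaf [5,9,5,7])) (.leaf [3,0,6,4]))) (.node (.node (.node (.leaf [2,8,1,10]) (.leaf [4,2,9,2])) (.leaf [3,10,6,2])) (.node (.leaf [4,3,1,1]) (.leaf [3,9,6,0])))) (.node (.node (.node (.node (.leaf [5,1,10,0]) (.leaf [0,5,2,9])) (.leaf [2,6,6,2])) (.node (.leaf [2,8,8,5]) (.leaf [3,1,1,8]))) (.node (.node (.node (.leaf [3,10,9,1]) (.leaf [2,0,9,6])) (.leaf [3,3,7,0])) (.node (.leaf [5,8,2,10]) (.leaf [1,7,7,6]))))) (.node (.node (.node (.node (.node (.leaf [1,0,5,1]) (.leaf [5,4,10,6])) (.leaf [5,7,2,3])) (.node (.leaf [5,1,3,3]) (.leaf [5,3,1,3])))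 (.node (.node (.node (.leaf [1,1,5,6]) (.leaf [2,0,8,6])) (.leaf [5,5,0,9])) (.node (.leaf [3,1,4,9]) (.leaf [3,6,3,10])))) (.node (.node (.node (.node (.leaf [1,1,4,5]) (.leaf [0,5,2,4])) (.leaf [0,3,7,5])) (.node (.leaf [1,5,2,0]) (.leaf [5,1,0,9]))) (.node (.node (.node (.leaf [1,7,3,0]) (.leaf [2,9,4,2])) (.leaf [1,5,4,10])) (.node (.leaf [5,0,1,9]) (.leaf [2,5,7,7])))))))

/-- Data. -/
def cert660Img_4 : BT (List ℕ) :=
  (.node (.node (.node (.node (.node (.node (.node (.leaf [0,1,10,0]) (.leaf [5,9,1,2])) (.leaf [2,6,5,10])) (.node (.node (.leaf [1,5,1,6]) (.leaf [1,4,7,7])) (.leaf [1,3,3,10]))) (.node (.node (.node (.leaf [2,1,7,4]) (.leaf [4,4,9,1])) (.leaf [4,1,1,6])) (.node (.leaf [2,5,1,3]) (.leaf [1,4,5,10])))) (.node (.node (.node (.node (.leaf [1,10,10,2]) (.leaf [3,8,7,8])) (.leaf [4,2,4,5])) (.node (.leaf [4,10,5,10]) (.leaf [5,9,2,6]))) (.node (.node (.node (.leaf [5,3,3,2])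 (.leaf [2,7,3,0])) (.leaf [5,4,3,7])) (.node (.leaf [4,4,7,10]) (.leaf [4,2,5,0]))))) (.node (.node (.node (.node (.node (.leaf [3,1,10,0]) (.leaf [4,6,10,7])) (.leaf [1,4,2,9])) (.node (.node (.leaf [5,3,8,5]) (.leaf [2,9,6,0])) (.leaf [0,3,7,6]))) (.node (.node (.node (.leaf [2,6,10,3]) (.leaf [0,4,8,8])) (.leaf [2,4,2,10])) (.node (.leaf [5,3,2,8]) (.leaf [4,8,8,8])))) (.node (.node (.node (.node (.leaf [3,9,10,1]) (.leaf [3,3,3,7])) (.leaf [2,1,4,8])) (.node (.leaf [5,2,10,2]) (.leaf [4,9,9,4]))) (.node (.node (.node (.leaf [3,9,5,8]) (.leaf [0,2,5,6])) (.leaf [5,6,1,8])) (.node (.leaf [4,5,4,8]) (.leaf [2,2,8,3])))))) (.node (.node (.node (.node (.node (.node (.leaf [2,1,10,0]) (.leaf [3,8,8,7])) (.leaf [3,0,2,4])) (.node (.node (.leaf [2,3,8,7]) (.leaf [3,10,0,4])) (.leaf [4,0,6,3]))) (.node (.node (.node (.leaf [1,0,9,1]) (.leaf [0,4,8,9])) (.leaf [5,10,10,7])) (.node (.leaf [3,4,7,6])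 (.leaf [0,5,2,10])))) (.node (.node (.node (.node (.leaf [3,2,9,10]) (.leaf [0,3,7,0])) (.leaf [3,2,2,9])) (.node (.leaf [5,7,4,8]) (.leaf [1,3,8,3]))) (.node (.node (.node (.leaf [4,1,6,10]) (.leaf [5,7,6,2])) (.leaf [1,9,8,7])) (.node (.leaf [4,10,9,9]) (.leaf [5,6,6,3]))))) (.node (.node (.node (.node (.node (.leaf [1,1,2,3]) (.leaf [0,5,2,5])) (.leaf [1,2,8,6])) (.node (.leaf [3,1,3,5]) (.leaf [4,6,0,3]))) (.node (.node (.node (.leaf [1,2,2,5]) (.leaf [3,9,1,7])) (.leaf [0,3,7,3])) (.node (.leaf [5,2,3,8]) (.leaf [3,7,6,7])))) (.node (.node (.node (.node (.leaf [0,1,10,6]) (.leaf [5,10,2,2])) (.leaf [5,5,3,1])) (.node (.leaf [3,0,10,4]) (.leaf [2,9,3,3]))) (.node (.node (.node (.leaf [1,9,5,2]) (.leaf [2,0,6,6])) (.leaf [3,8,2,2])) (.node (.leaf [5,4,9,3]) (.leaf [4,10,10,6])))))))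

/-- Data. -/
def cert660Img_5 : BT (List ℕ) :=
  (.node (.node (.node (.node (.node (.node (.node (.leaf [1,0,2,1]) (.leaf [2,8,4,0])) (.leaf [5,8,10,3])) (.node (.node (.leaf [2,5,10,9]) (.leaf [5,7,0,9])) (.leaf [5,0,10,9]))) (.node (.node (.node (.leaf [4,1,7,2]) (.leaf [5,5,10,8])) (.leaf [3,7,5,1])) (.node (.leaf [5,8,9,8]) (.leaf [4,2,3,10])))) (.node (.node (.node (.node (.leaf [0,1,10,5]) (.leaf [5,5,2,0])) (.leaf [5,4,6,5])) (.node (.leaf [5,8,8,2]) (.leaf [4,8,2,7]))) (.node (.node (.node (.leaf [3,8,3,1]) (.leaf [4,9,6,0])) (.leaf [4,4,6,9])) (.node (.leaf [5,1,8,4]) (.leaf [2,6,9,0]))))) (.node (.node (.node (.node (.node (.leaf [1,9,1,10]) (.leaf [5,3,6,6])) (.leaf [2,5,3,8])) (.node (.leaf [2,1,6,9]) (.leaf [5,4,0,9]))) (.node (.node (.node (.leaf [1,6,1,7]) (.leaf [2,4,9,2])) (.leaf [3,5,6,3])) (.node (.leaf [0,5,2,1]) (.leaf [5,5,7,5])))) (.node (.node (.node (.node (.leaf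 [1,9,10,3]) (.leaf [0,2,5,8])) (.leaf [3,8,1,3])) (.node (.leaf [3,3,2,6]) (.leaf [1,6,7,10]))) (.node (.node (.node (.leaf [1,10,9,3]) (.leaf [4,7,4,10])) (.leaf [5,3,10,4])) (.node (.leaf [5,5,6,4]) (.leaf [1,6,6,4])))))) (.node (.node (.node (.node (.node (.node (.leaf [0,1,10,3]) (.leaf [3,6,6,5])) (.leaf [1,6,4,3])) (.node (.node (.leaf [1,1,6,7]) (.leaf [4,10,0,3])) (.leaf [5,7,7,10]))) (.node (.node (.node (.leaf [1,10,5,7]) (.leaf [5,0,7,9])) (.leaf [3,10,7,9])) (.node (.leaf [1,1,7,8]) (.leaf [3,2,8,2])))) (.node (.node (.node (.node (.leaf [4,1,3,1]) (.leaf [2,3,4,1])) (.leaf [4,7,9,5])) (.node (.leaf [2,8,5,4]) (.leaf [5,5,8,6]))) (.node (.node (.node (.leaf [1,0,8,1]) (.leaf [4,5,2,0])) (.leaf [3,3,8,1])) (.node (.leaf [2,10,9,7]) (.leaf [5,1,1,7]))))) (.node (.node (.node (.node (.node (.leaf [4,1,10,0]) (.leaf [1,5,8,8])) (.leaf [2,3,9,3])) (.node (.leaf [2,9,5,1]) (.leaf [4,0,5,3])))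 (.node (.node (.node (.leaf [4,5,10,10]) (.leaf [3,6,9,0])) (.leaf [5,7,5,5])) (.node (.leaf [3,1,6,6]) (.leaf [0,4,8,5])))) (.node (.node (.node (.node (.leaf [3,4,10,10]) (.leaf [2,4,6,7])) (.leaf [4,9,0,3])) (.node (.leaf [1,6,10,6]) (.leaf [5,1,7,6]))) (.node (.node (.node (.leaf [2,4,10,4]) (.leaf [3,6,1,6])) (.leaf [3,5,10,6])) (.node (.leaf [5,2,4,4]) (.leaf [1,3,4,2])))))))

/-- Data. -/
def cert660Img_6 : BT (List ℕ) :=
  (.node (.node (.node (.node (.node (.node (.node (.leaf [0,1,10,1]) (.leaf [4,7,1,2])) (.leaf [3,3,5,9])) (.node (.node (.leaf [0,1,10,8]) (.leaf [2,7,8,1])) (.leaf [2,5,8,4]))) (.node (.node (.node (.leaf [3,1,8,3]) (.leaf [5,0,3,9])) (.leaf [2,9,9,8])) (.node (.leaf [1,2,4,9]) (.leaf [2,2,6,1])))) (.node (.node (.node (.node (.leaf [1,8,1,9]) (.leaf [0,4,8,4])) (.leaf [4,5,6,5])) (.node (.leaf [5,9,9,1]) (.leaf [0,5,2,0]))) (.node (.node (.node (.leaf [2,1,9,5])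 (.leaf [1,3,5,5])) (.leaf [3,2,3,6])) (.node (.leaf [2,9,7,10]) (.leaf [5,10,3,4]))))) (.node (.node (.node (.node (.node (.leaf [1,0,10,1]) (.leaf [4,0,9,3])) (.leaf [1,3,2,7])) (.node (.node (.leaf [2,6,2,1]) (.leaf [2,5,4,5])) (.leaf [5,6,3,6]))) (.node (.node (.node (.leaf [1,8,10,4]) (.leaf [5,6,0,9])) (.leaf [2,10,6,3])) (.node (.leaf [4,7,10,4]) (.leaf [0,2,5,5])))) (.node (.node (.node (.node (.leaf [2,8,10,2]) (.leaf [4,5,5,1])) (.leaf [1,5,6,9])) (.node (.leaf [1,9,9,5]) (.leaf [0,3,7,7]))) (.node (.node (.node (.leaf [5,7,10,1]) (.leaf [1,3,7,0])) (.leaf [2,4,8,0])) (.node (.leaf [4,8,6,4]) (.leaf [4,3,3,8])))))) (.node (.node (.node (.node (.node (.node (.leaf [1,10,1,0]) (.leaf [0,3,7,9])) (.leaf [2,2,1,7])) (.node (.node (.leaf [4,5,3,4]) (.leaf [4,2,6,6])) (.leaf [2,3,0,6]))) (.node (.node (.node (.leaf [3,9,2,10]) (.leaf [0,2,5,0])) (.leaf [4,10,2,8])) (.node (.leaf [5,6,4,5])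 (.leaf [4,4,5,8])))) (.node (.node (.node (.node (.leaf [2,1,8,10]) (.leaf [1,6,8,5])) (.leaf [5,3,7,0])) (.node (.leaf [1,10,7,5]) (.leaf [0,4,8,0]))) (.node (.node (.node (.leaf [5,10,6,10]) (.leaf [4,2,0,3])) (.leaf [5,10,9,5])) (.node (.leaf [5,9,3,10]) (.leaf [2,4,7,9]))))) (.node (.node (.node (.node (.node (.leaf [2,1,3,2]) (.leaf [2,7,2,2])) (.leaf [5,8,3,5])) (.node (.leaf [0,3,7,10]) (.leaf [2,9,8,9]))) (.node (.node (.node (.leaf [2,3,3,5]) (.leaf [2,2,7,2])) (.leaf [2,7,5,7])) (.node (.leaf [0,4,8,3]) (.leaf [2,2,2,8])))) (.node (.node (.node (.node (.leaf [1,2,1,3]) (.leaf [4,2,7,1])) (.leaf [1,8,7,2])) (.node (.leaf [2,2,10,5]) (.leaf [3,7,8,8]))) (.node (.node (.node (.leaf [3,3,10,3]) (.leaf [3,0,4,4])) (.leaf [1,6,5,9])) (.node (.leaf [3,6,8,9]) (.leaf [2,9,1,5])))))))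

/-- Data. -/
def cert660Img_7 : BT (List ℕ) :=
  (.node (.node (.node (.node (.node (.node (.node (.leaf [0,1,10,2]) (.leaf [5,7,1,6])) (.leaf [1,8,9,7])) (.node (.node (.leaf [3,5,9,8]) (.leaf [5,5,4,2])) (.leaf [4,7,8,6]))) (.node (.node (.node (.leaf [5,10,1,0]) (.leaf [5,4,2,4])) (.leaf [0,2,5,1])) (.node (.leaf [5,7,8,7]) (.leaf [5,9,4,3])))) (.node (.node (.node (.node (.leaf [2,3,10,10]) (.leaf [4,9,2,2])) (.leaf [4,6,7,8])) (.node (.leaf [3,9,7,3]) (.leaf [5,4,5,2]))) (.node (.node (.node (.leaf [4,9,4,1]) (.leaf [4,7,5,9])) (.leaf [5,0,6,9])) (.node (.leaf [5,10,5,8]) (.leaf [3,3,0,4]))))) (.node (.node (.node (.node (.node (.leaf [0,1,10,4]) (.leaf [5,9,7,4])) (.leaf [4,9,10,9])) (.node (.leaf [3,8,6,9]) (.leaf [4,3,9,7]))) (.node (.node (.node (.leaf [0,1,10,7]) (.leaf [5,1,6,8])) (.leaf [3,9,3,2])) (.node (.leaf [4,8,5,2]) (.leaf [4,6,8,4])))) (.node (.node (.node (.node (.leaf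 [1,7,1,8]) (.leaf [1,4,6,3])) (.leaf [0,4,8,7])) (.node (.leaf [1,8,5,8]) (.leaf [2,3,2,9]))) (.node (.node (.node (.leaf [3,6,2,8]) (.leaf [2,2,9,4])) (.leaf [1,7,9,9])) (.node (.leaf [1,10,8,4]) (.leaf [2,0,3,6])))))) (.node (.node (.node (.node (.node (.node (.leaf [1,1,1,2]) (.leaf [0,2,5,4])) (.leaf [1,5,3,5])) (.node (.node (.leaf [3,2,7,5]) (.leaf [1,4,8,0])) (.leaf [3,4,3,8]))) (.node (.node (.node (.leaf [3,6,10,2]) (.leaf [5,10,8,3])) (.leaf [5,9,8,8])) (.node (.leaf [4,6,3,2]) (.leaf [3,9,4,5])))) (.node (.node (.node (.node (.leaf [1,0,6,1]) (.leaf [2,9,2,4])) (.leaf [0,5,2,6])) (.node (.leaf [3,6,5,3]) (.leaf [1,8,8,10]))) (.node (.node (.node (.leaf [2,10,5,9]) (.leaf [3,10,5,6])) (.leaf [4,0,7,3])) (.node (.leaf [3,5,3,9]) (.leaf [3,9,9,9]))))) (.node (.node (.node (.node (.node (.leaf [2,10,10,1]) (.leaf [0,2,5,2])) (.leaf [3,0,3,4])) (.node (.leaf [5,1,5,10]) (.leaf [3,0,7,4])))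 (.node (.node (.node (.leaf [1,1,8,9]) (.leaf [1,5,9,2])) (.leaf [4,6,5,5])) (.node (.leaf [4,9,1,8]) (.leaf [5,2,5,0])))) (.node (.node (.node (.node (.leaf [3,2,1,1]) (.leaf [2,5,9,1])) (.leaf [4,4,0,3])) (.node (.leaf [1,4,1,5]) (.leaf [0,2,5,3]))) (.node (.node (.node (.leaf [1,7,10,5]) (.leaf [4,5,9,6])) (.leaf [2,9,10,7])) (.node (.leaf [1,9,7,9]) (.leaf [4,9,7,5])))))))

/-- Data. -/
def cert660Img : BT (List ℕ) :=
  (.node (.node (.node cert660Img_0 cert660Img_1) (.node cert660Img_2 cert660Img_3)) (.node (.node cert660Img_4 cert660Img_5) (.node cert660Img_6 cert660Img_7)))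

/-- The certificate. -/
def cert660 : Cert where
  n := 660
  gens := [
  [0,1,2,3,12,5,9,10,16,6,7,22,4,18,14,19,8,17,13,15,21,20,11,23],
  [0,18,1,12,16,5,9,20,3,13,15,22,4,2,7,19,6,21,8,14,23,11,10,17]]
  elt := cert660Elt
  par := cert660Par
  mul := [cert660MulA, cert660MulB]
  ord := cert660Ord
  pos := cert660Pos

/-- Data. -/
def cert120Elt_0 : BT (List ℕ) :=
  (.node (.node (.node (.node (.node (.leaf [0,1,2,3,4,5,6,7,8,9,10,11,12,13,14,15,16,17,18,19,20,21,22,23]) (.leaf [0,1,3,6,4,7,18,5,8,12,21,19,16,9,17,23,13,20,2,10,22,11,14,15])) (.node (.leaf [0,9,2,3,13,7,6,5,18,1,10,22,16,4,14,15,12,19,8,17,23,21,11,20]) (.leaf [0,13,18,2,16,5,3,7,6,1,19,20,12,4,22,23,9,11,8,14,15,10,21,17]))) (.node (.node (.leaf [0,9,18,8,4,5,6,7,3,1,14,15,12,16,10,11,13,23,2,19,20,22,21,17]) (.leaf [0,12,3,18,13,7,2,5,8,9,23,15,4,1,22,10,16,20,6,21,14,19,17,11])) (.node (.leaf [0,1,18,3,9,5,8,7,6,4,23,17,16,13,15,14,12,11,2,19,21,20,22,10])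 (.leaf [0,4,6,18,13,5,3,7,2,9,11,20,1,16,17,21,12,15,8,22,19,23,10,14])))) (.node (.node (.node (.leaf [0,13,8,2,1,5,6,7,3,16,17,11,9,4,23,22,12,20,18,14,10,15,21,19]) (.leaf [0,12,2,18,16,5,6,7,3,4,19,22,13,1,20,15,9,10,8,17,23,11,21,14])) (.node (.leaf [0,9,2,6,16,5,18,7,8,13,15,23,4,1,20,19,12,17,3,10,22,11,14,21]) (.leaf [0,9,3,8,12,7,18,5,2,13,20,11,1,16,15,23,4,10,6,21,17,14,19,22]))) (.node (.node (.leaf [0,4,3,18,12,7,8,5,6,1,23,17,13,16,15,20,9,21,2,10,11,14,22,19]) (.leaf [0,1,6,18,4,5,2,7,8,16,11,10,13,12,20,15,9,22,3,21,14,19,17,23])) (.leaf [0,4,2,8,16,7,3,5,18,9,17,21,12,1,11,10,13,19,6,15,14,20,23,22])))) (.node (.node (.node (.node (.leaf [0,12,6,2,1,7,3,5,18,16,15,20,13,9,14,21,4,11,8,22,19,10,23,17]) (.leaf [0,16,3,8,4,5,2,7,18,1,20,15,13,9,11,10,12,23,6,21,14,17,19,22])) (.node (.leaf [0,16,3,2,13,7,18,5,6,4,10,14,9,1,22,23,12,21,8,20,15,19,11,17]) (.leaf [0,1,6,2,13,7,8,5,3,4,15,14,12,16,23,22,9,21,18,11,10,17,20,19])))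 (.node (.node (.leaf [0,4,3,2,1,5,18,7,8,16,10,11,12,13,22,23,9,20,6,21,17,19,14,15]) (.leaf [0,1,18,2,4,7,3,5,8,13,19,21,9,16,22,23,12,14,6,11,17,10,20,15])) (.node (.leaf [0,4,8,3,16,5,6,7,18,12,20,15,13,9,19,22,1,14,2,17,23,21,11,10]) (.leaf [0,16,2,18,13,5,8,7,6,9,19,20,12,4,21,17,1,15,3,10,11,14,22,23])))) (.node (.node (.node (.leaf [0,13,8,6,9,7,3,5,18,1,22,10,4,16,19,20,12,14,2,17,11,21,23,15]) (.leaf [0,13,2,18,12,5,3,7,8,1,19,21,16,9,22,10,4,17,6,15,14,23,20,11])) (.node (.leaf [0,16,3,18,9,5,6,7,8,13,23,15,1,4,17,21,12,20,2,10,14,11,22,19]) (.leaf [0,9,3,6,13,5,8,7,18,16,21,17,12,1,19,20,4,23,2,10,11,22,14,15]))) (.node (.node (.leaf [0,9,6,2,4,5,18,7,3,13,15,14,16,12,20,11,1,21,8,22,10,19,23,17]) (.leaf [0,12,8,18,4,5,3,7,6,16,14,10,9,1,15,20,13,22,2,17,11,23,21,19])) (.leaf [0,16,6,3,4,7,8,5,18,9,21,17,1,12,19,22,13,11,2,15,23,20,14,10])))))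

/-- Data. -/
def cert120Elt_1 : BT (List ℕ) :=
  (.node (.node (.node (.node (.node (.leaf [0,12,6,8,16,5,2,7,3,9,22,19,1,13,23,15,4,21,18,11,20,17,10,14]) (.leaf [0,1,6,8,12,5,3,7,18,13,22,10,16,4,19,21,9,11,2,15,14,20,23,17])) (.node (.leaf [0,16,8,18,1,7,3,5,2,12,14,21,13,4,15,20,9,17,6,22,19,23,10,11]) (.leaf [0,1,3,2,12,5,6,7,18,9,10,22,4,16,14,21,13,23,8,20,19,15,11,17]))) (.node (.node (.leaf [0,13,8,3,4,5,18,7,2,9,20,11,16,1,15,14,12,17,6,22,10,23,19,21]) (.leaf [0,13,6,2,12,7,18,5,8,9,15,23,1,4,20,11,16,22,3,21,17,19,14,10])) (.node (.leaf [0,12,2,3,1,5,8,7,18,13,10,22,4,16,11,17,9,19,6,15,23,20,14,21]) (.leaf [0,4,6,8,9,7,18,5,3,16,22,19,13,1,10,11,12,21,2,15,20,14,23,17])))) (.node (.node (.node (.leaf [0,13,3,18,4,7,6,5,2,16,23,22,12,9,17,21,1,10,8,20,19,11,15,14]) (.leaf [0,4,18,2,9,7,6,5,3,12,19,22,1,13,20,11,16,23,8,14,10,15,21,17])) (.node (.leaf [0,16,8,3,13,5,2,7,6,1,20,19,4,12,11,17,9,22,18,14,21,10,15,23])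 (.leaf [0,9,3,2,16,7,6,5,8,1,10,11,13,12,14,21,4,20,18,23,17,15,22,19]))) (.node (.node (.leaf [0,9,2,8,1,5,3,7,6,4,17,23,13,16,11,10,12,15,18,19,22,20,21,14]) (.leaf [0,1,8,2,9,5,18,7,6,12,17,23,13,16,21,14,4,22,3,20,15,19,11,10])) (.leaf [0,16,18,6,9,7,2,5,8,1,11,10,12,13,20,19,4,14,3,23,22,15,17,21])))) (.node (.node (.node (.node (.leaf [0,1,2,18,9,7,3,5,6,13,19,20,4,12,22,10,16,15,8,17,11,23,21,14]) (.leaf [0,1,18,6,13,5,2,7,3,16,11,17,4,9,20,19,12,23,8,14,21,15,10,22])) (.node (.leaf [0,9,6,18,16,7,3,5,8,4,11,10,12,13,17,21,1,22,2,15,14,23,20,19]) (.leaf [0,9,8,18,12,5,6,7,2,1,14,21,4,13,10,22,16,17,3,20,19,11,15,23]))) (.node (.node (.leaf [0,9,6,8,13,7,2,5,18,12,22,10,4,16,23,15,1,11,3,21,14,17,19,20]) (.leaf [0,1,3,8,9,7,2,5,6,16,20,19,12,4,11,10,13,21,18,23,22,17,15,14])) (.node (.leaf [0,12,18,2,13,5,6,7,8,4,19,21,16,9,20,11,1,14,3,23,17,15,22,10]) (.leaf [0,16,2,3,9,7,18,5,8,4,10,11,13,12,22,19,1,17,6,15,20,23,14,21]))))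 (.node (.node (.node (.leaf [0,13,3,6,12,5,2,7,8,4,21,19,9,16,14,10,1,20,18,23,22,15,17,11]) (.leaf [0,13,6,18,1,5,8,7,3,12,11,17,4,9,10,22,16,21,2,15,23,14,20,19])) (.node (.leaf [0,4,18,6,1,5,3,7,8,9,11,10,13,12,17,23,16,14,2,19,22,21,20,15]) (.leaf [0,9,3,18,1,5,2,7,6,12,23,17,16,13,22,10,4,21,8,20,11,19,15,14]))) (.node (.node (.leaf [0,4,3,8,13,5,6,7,2,12,20,11,16,1,19,21,9,10,18,23,17,22,15,14]) (.leaf [0,9,8,3,1,7,18,5,6,13,20,19,12,4,15,14,16,22,2,17,21,23,11,10])) (.leaf [0,12,3,8,1,7,6,5,18,4,20,15,9,13,19,21,16,23,2,10,14,22,11,17])))))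

/-- Data. -/
def cert120Elt_2 : BT (List ℕ) :=
  (.node (.node (.node (.node (.node (.leaf [0,1,2,6,12,7,8,5,18,4,15,20,13,9,23,17,16,19,3,10,11,22,14,21]) (.leaf [0,13,2,6,1,7,18,5,3,9,15,14,12,16,20,19,4,10,8,17,21,11,23,22])) (.node (.leaf [0,16,18,2,12,5,8,7,3,9,19,22,13,1,21,14,4,23,6,11,10,17,20,15]) (.leaf [0,9,8,2,13,5,3,7,18,4,17,21,1,12,11,20,16,14,6,22,19,10,23,15]))) (.node (.node (.leaf [0,9,6,3,12,5,8,7,2,16,21,14,13,4,19,22,1,15,18,11,10,20,17,23]) (.leaf [0,12,8,2,16,7,18,5,3,1,17,11,4,9,21,14,13,20,6,22,10,19,23,15])) (.node (.leaf [0,16,6,2,9,5,3,7,8,12,15,23,4,1,14,21,13,22,18,11,17,10,20,19]) (.leaf [0,4,6,2,16,5,8,7,18,1,15,20,9,13,23,22,12,11,3,21,19,17,14,10])))) (.node (.node (.node (.leaf [0,9,18,3,16,5,2,7,8,12,23,15,1,4,22,19,13,14,6,11,20,10,17,21]) (.leaf [0,12,3,6,9,5,18,7,2,1,21,14,13,4,17,23,16,10,8,20,15,11,19,22])) (.node (.leaf [0,16,18,8,13,7,3,5,6,12,14,10,1,9,15,23,4,11,2,19,22,20,21,17])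 (.leaf [0,9,8,6,4,7,2,5,3,12,22,19,13,1,23,17,16,20,18,14,21,15,10,11]))) (.node (.node (.leaf [0,4,8,6,13,7,18,5,2,16,22,23,9,12,10,14,1,17,3,20,15,11,19,21]) (.leaf [0,13,6,8,4,7,3,5,2,1,22,23,9,12,19,21,16,15,18,11,17,20,10,14])) (.leaf [0,4,18,3,13,7,8,5,2,1,23,22,12,9,15,14,16,19,6,11,10,20,17,21])))) (.node (.node (.node (.node (.leaf [0,13,8,18,16,7,2,5,6,4,14,10,1,9,21,17,12,22,3,20,11,19,15,23]) (.leaf [0,4,2,3,12,5,18,7,6,16,10,14,1,9,22,19,13,15,8,17,21,23,11,20])) (.node (.leaf [0,4,2,18,1,7,6,5,8,12,19,21,9,16,20,15,13,17,3,10,14,11,22,23]) (.leaf [0,12,8,3,9,7,6,5,2,4,20,11,1,16,19,22,13,17,18,14,10,21,15,23]))) (.node (.node (.leaf [0,9,18,6,12,7,3,5,2,4,11,20,16,1,17,23,13,19,8,14,15,21,10,22]) (.leaf [0,12,2,6,13,7,3,5,8,16,15,23,1,4,14,10,9,17,18,19,22,21,20,11])) (.node (.leaf [0,9,2,18,4,7,8,5,3,16,19,22,1,13,21,17,12,10,6,15,23,14,20,11]) (.leaf [0,16,2,6,4,5,3,7,18,12,15,20,9,13,14,10,1,19,8,17,11,21,23,22]))))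 (.node (.node (.node (.leaf [0,9,18,2,1,7,8,5,6,16,19,20,4,12,21,14,13,11,3,23,15,17,22,10]) (.leaf [0,1,6,3,16,7,18,5,2,12,21,14,4,13,17,11,9,15,8,22,10,23,19,20])) (.node (.leaf [0,4,2,6,9,5,8,7,3,1,15,14,16,12,23,17,13,10,18,19,21,22,20,11]) (.leaf [0,12,8,6,1,5,2,7,18,9,22,10,16,4,23,17,13,14,3,20,11,15,19,21]))) (.node (.node (.leaf [0,16,8,6,12,5,18,7,3,4,22,19,1,13,10,14,9,20,2,17,21,11,23,15]) (.leaf [0,1,8,6,16,5,3,7,2,13,22,23,12,9,19,20,4,17,18,14,15,21,10,11])) (.leaf [0,12,2,8,4,7,18,5,6,1,17,23,16,13,21,19,9,15,3,10,22,14,11,20])))))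

/-- Data. -/
def cert120Elt_3 : BT (List ℕ) :=
  (.node (.node (.node (.node (.node (.leaf [0,1,2,8,13,5,18,7,3,12,17,11,9,4,21,19,16,10,6,15,20,14,23,22]) (.leaf [0,12,18,6,16,7,8,5,3,13,11,17,9,4,10,14,1,23,2,19,21,22,20,15])) (.node (.leaf [0,12,18,8,9,5,3,7,2,16,14,21,4,13,15,23,1,19,6,11,17,20,10,22]) (.leaf [0,13,2,8,9,5,6,7,18,16,17,21,1,12,23,15,4,19,3,10,14,22,11,20]))) (.node (.node (.leaf [0,13,3,2,9,7,8,5,18,12,10,22,16,4,11,20,1,23,6,21,19,17,14,15]) (.leaf [0,1,8,18,13,7,6,5,3,9,14,15,16,12,10,22,4,20,2,17,23,11,21,19])) (.node (.leaf [0,16,6,18,12,7,2,5,3,1,11,17,9,4,20,15,13,21,8,22,23,19,10,14]) (.leaf [0,4,6,3,1,7,2,5,8,13,21,19,16,9,14,15,12,22,18,11,20,10,17,23])))) (.node (.node (.node (.leaf [0,12,6,18,9,7,8,5,2,13,11,20,16,1,10,22,4,15,3,21,19,14,17,23]) (.leaf [0,1,3,18,16,5,8,7,2,4,23,22,9,12,15,20,13,10,6,21,19,14,17,11])) (.node (.leaf [0,12,18,3,4,7,2,5,6,9,23,17,13,16,22,19,1,11,8,14,21,10,15,20])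 (.leaf [0,13,18,6,4,5,8,7,2,12,11,20,1,16,10,14,9,19,3,23,15,22,17,21]))) (.node (.node (.leaf [0,13,3,8,16,5,18,7,6,9,20,19,4,12,15,23,1,21,2,10,22,14,11,17]) (.leaf [0,12,3,2,4,5,8,7,6,13,10,14,1,9,11,20,16,21,18,23,15,17,22,19])) (.leaf [0,1,18,8,16,7,6,5,2,9,14,21,13,4,10,11,12,19,3,23,17,22,15,20])))) (.node (.node (.node (.node (.leaf [0,12,6,3,13,5,18,7,8,1,21,19,9,16,17,11,4,22,2,15,20,23,14,10]) (.leaf [0,16,6,8,1,5,18,7,2,4,22,23,12,9,10,11,13,15,3,21,17,14,19,20])) (.node (.leaf [0,4,8,2,12,7,3,5,6,9,17,23,16,13,11,20,1,22,18,14,15,10,21,19]) (.leaf [0,13,18,3,12,7,6,5,8,16,23,15,4,1,17,11,9,14,2,19,20,21,22,10]))) (.node (.node (.leaf [0,16,8,2,4,7,6,5,18,13,17,21,12,1,23,22,9,14,3,20,19,15,11,10]) (.leaf [0,13,2,3,16,7,8,5,6,12,10,14,9,1,11,17,4,15,18,19,21,20,22,23])) (.node (.leaf [0,16,3,6,1,7,8,5,2,9,21,14,4,13,19,20,12,10,18,23,15,22,17,11]) (.leaf [0,16,2,8,12,7,6,5,3,13,17,11,4,9,23,15,1,10,18,19,20,22,21,14]))))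 (.node (.node (.node (.leaf [0,4,3,6,16,7,2,5,18,13,21,17,1,12,14,10,9,23,8,20,11,15,19,22]) (.leaf [0,1,8,3,12,7,2,5,18,16,20,15,9,13,11,17,4,14,6,22,23,10,19,21])) (.node (.leaf [0,16,18,3,1,5,6,7,2,13,23,22,9,12,17,11,4,19,8,14,10,21,15,20]) (.leaf [0,13,18,8,1,7,2,5,3,4,14,15,16,12,21,19,9,23,6,11,20,17,10,22]))) (.node (.node (.leaf [0,4,8,18,9,5,2,7,3,13,14,15,12,16,21,17,1,20,6,22,23,19,10,11]) (.leaf [0,13,6,3,9,5,2,7,18,4,21,17,12,1,14,15,16,11,8,22,23,10,19,20])) (.leaf [0,4,18,8,12,5,2,7,6,13,14,10,9,1,21,19,16,11,3,23,22,17,15,20])))))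

/-- Data. -/
def cert120Elt : BT (List ℕ) :=
  (.node (.node cert120Elt_0 cert120Elt_1) (.node cert120Elt_2 cert120Elt_3))

/-- Data. -/
def cert120Par_0 : BT (ℕ × ℕ) :=
  (.node (.node (.node (.node (.node (.node (.leaf (0, 0)) (.leaf (0, 50))) (.node (.leaf (0, 23)) (.leaf (0, 82)))) (.node (.node (.leaf (0, 10)) (.leaf (1, 64))) (.node (.leaf (0, 36)) (.leaf (0, 106))))) (.node (.node (.node (.leaf (0, 5)) (.leaf (0, 57))) (.node (.leaf (0, 29)) (.leaf (0, 95)))) (.node (.node (.leaf (0, 17)) (.leaf (0, 73))) (.leaf (1, 41))))) (.node (.node (.node (.node (.leaf (0, 2)) (.leaf (0, 53))) (.node (.leaf (0, 26)) (.leaf (1, 86)))) (.node (.node (.leaf (1, 13)) (.leaf (0, 69))) (.node (.leaf (1, 38)) (.leaf (1, 113))))) (.node (.node (.node (.leaf (0, 8)) (.leaf (1, 61))) (.node (.leaf (0, 32)) (.leaf (1, 98)))) (.node (.node (.leaf (1, 20)) (.leaf (0, 77))) (.leaf (0, 45)))))) (.node (.node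 (.node (.node (.node (.leaf (0, 1)) (.leaf (0, 52))) (.node (.leaf (0, 25)) (.leaf (0, 85)))) (.node (.node (.leaf (1, 12)) (.leaf (0, 66))) (.node (.leaf (1, 37)) (.leaf (0, 110))))) (.node (.node (.node (.leaf (1, 6)) (.leaf (0, 59))) (.node (.leaf (0, 31)) (.leaf (1, 96)))) (.node (.node (.leaf (1, 18)) (.leaf (0, 74))) (.leaf (1, 43))))) (.node (.node (.node (.node (.leaf (1, 3)) (.leaf (0, 55))) (.node (.leaf (0, 28)) (.leaf (0, 92)))) (.node (.node (.leaf (1, 15)) (.leaf (0, 72))) (.node (.leaf (1, 39)) (.leaf (1, 115))))) (.node (.node (.node (.leaf (0, 9)) (.leaf (1, 62))) (.node (.leaf (0, 34)) (.leaf (1, 103)))) (.node (.node (.leaf (0, 22)) (.leaf (0, 80))) (.leaf (1, 47)))))))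

/-- Data. -/
def cert120Par_1 : BT (ℕ × ℕ) :=
  (.node (.node (.node (.node (.node (.node (.leaf (1, 0)) (.leaf (1, 50))) (.node (.leaf (1, 24)) (.leaf (0, 84)))) (.node (.node (.leaf (0, 11)) (.leaf (1, 65))) (.node (.leaf (0, 37)) (.leaf (0, 108))))) (.node (.node (.node (.leaf (1, 5)) (.leaf (1, 58))) (.node (.leaf (1, 30)) (.leaf (0, 96)))) (.node (.node (.leaf (1, 17)) (.leaf (1, 73))) (.leaf (0, 42))))) (.node (.node (.node (.node (.leaf (0, 3)) (.leaf (1, 54))) (.node (.leaf (0, 27)) (.leaf (0, 89)))) (.node (.node (.leaf (0, 14)) (.leaf (0, 70))) (.node (.leaf (0, 39)) (.leaf (1, 114))))) (.node (.node (.node (.leaf (1, 8)) (.leaf (0, 62))) (.node (.leaf (1, 33)) (.leaf (1, 102)))) (.node (.node (.leaf (0, 21)) (.leaf (0, 78))) (.leaf (0, 46)))))) (.node (.node (.node (.node (.node (.leaf (1, 1)) (.leaf (1, 52))) (.node (.leaf (1, 25)) (.leaf (1, 85)))) (.node (.node (.leaf (0, 13))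 (.leaf (1, 67))) (.node (.leaf (0, 38)) (.leaf (1, 112))))) (.node (.node (.node (.leaf (0, 7)) (.leaf (0, 61))) (.node (.leaf (1, 31)) (.leaf (1, 97)))) (.node (.node (.leaf (0, 19)) (.leaf (1, 75))) (.leaf (0, 44))))) (.node (.node (.node (.node (.leaf (0, 4)) (.leaf (0, 56))) (.node (.leaf (1, 28)) (.leaf (1, 94)))) (.node (.node (.leaf (0, 16)) (.leaf (1, 72))) (.leaf (0, 40)))) (.node (.node (.node (.leaf (1, 9)) (.leaf (0, 63))) (.node (.leaf (1, 35)) (.leaf (0, 104)))) (.node (.node (.leaf (1, 22)) (.leaf (0, 81))) (.leaf (0, 48)))))))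

/-- Data. -/
def cert120Par : BT (ℕ × ℕ) :=
  (.node cert120Par_0 cert120Par_1)

/-- Data. -/
def cert120MulA_0 : BT (ℕ) :=
  (.node (.node (.node (.node (.node (.node (.node (.leaf 1) (.leaf 66)) (.node (.leaf 45) (.leaf 106))) (.node (.node (.leaf 24) (.leaf 95)) (.node (.leaf 64) (.leaf 101)))) (.node (.node (.node (.leaf 13) (.leaf 87)) (.node (.leaf 56) (.leaf 112))) (.node (.node (.leaf 7) (.leaf 79)) (.leaf 72)))) (.node (.node (.node (.node (.leaf 8) (.leaf 51)) (.node (.leaf 49) (.leaf 90))) (.node (.node (.leaf 4) (.leaf 98)) (.node (.leaf 67) (.leaf 118)))) (.node (.node (.node (.leaf 16) (.leaf 32)) (.node (.leaf 60) (.leaf 114))) (.node (.node (.leaf 39) (.leaf 103)) (.leaf 29))))) (.node (.node (.node (.node (.node (.leaf 5) (.leaf 83)) (.node (.leaf 47) (.leaf 100))) (.node (.node (.leaf 21) (.leaf 97)) (.node (.leaf 65) (.leaf 92)))) (.node (.node (.node (.leaf 17) (.leaf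 91)) (.node (.leaf 58) (.leaf 113))) (.node (.node (.leaf 37) (.leaf 84)) (.leaf 68)))) (.node (.node (.node (.node (.leaf 0) (.leaf 86)) (.node (.leaf 52) (.leaf 57))) (.node (.node (.leaf 31) (.leaf 88)) (.node (.leaf 19) (.leaf 117)))) (.node (.node (.node (.leaf 22) (.leaf 94)) (.node (.leaf 62) (.leaf 115))) (.node (.node (.leaf 11) (.leaf 46)) (.leaf 78)))))) (.node (.node (.node (.node (.node (.node (.leaf 3) (.leaf 26)) (.node (.leaf 36) (.leaf 74))) (.node (.node (.leaf 25) (.leaf 96)) (.node (.leaf 23) (.leaf 81)))) (.node (.node (.node (.leaf 15) (.leaf 89)) (.node (.leaf 44) (.leaf 63))) (.node (.node (.leaf 35) (.leaf 102)) (.leaf 73)))) (.node (.node (.node (.node (.leaf 9) (.leaf 85)) (.node (.leaf 50) (.leaf 107))) (.node (.node (.leaf 30) (.leaf 99)) (.node (.leaf 69) (.leaf 119)))) (.node (.node (.node (.leaf 20) (.leaf 93)) (.node (.leaf 61) (.leaf 111))) (.node (.node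 (.leaf 41) (.leaf 59)) (.leaf 76))))) (.node (.node (.node (.node (.node (.leaf 6) (.leaf 27)) (.node (.leaf 10) (.leaf 53))) (.node (.node (.leaf 28) (.leaf 48)) (.node (.leaf 42) (.leaf 109)))) (.node (.node (.node (.leaf 18) (.leaf 77)) (.node (.leaf 14) (.leaf 104))) (.node (.node (.leaf 38) (.leaf 82)) (.leaf 75)))) (.node (.node (.node (.node (.leaf 12) (.leaf 34)) (.node (.leaf 54) (.leaf 108))) (.node (.node (.leaf 33) (.leaf 40)) (.node (.leaf 71) (.leaf 116)))) (.node (.node (.node (.leaf 2) (.leaf 70)) (.node (.leaf 55) (.leaf 110))) (.node (.node (.leaf 43) (.leaf 105)) (.leaf 80)))))))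

/-- Data. -/
def cert120MulA : BT (ℕ) :=
  cert120MulA_0

/-- Data. -/
def cert120MulB_0 : BT (ℕ) :=
  (.node (.node (.node (.node (.node (.node (.node (.leaf 2) (.leaf 81)) (.node (.leaf 22) (.leaf 107))) (.node (.node (.leaf 9) (.leaf 83)) (.node (.leaf 35) (.leaf 116)))) (.node (.node (.node (.leaf 14) (.leaf 88)) (.node (.leaf 28) (.leaf 94))) (.node (.node (.leaf 34) (.leaf 72)) (.leaf 60)))) (.node (.node (.node (.node (.leaf 1) (.leaf 52)) (.node (.leaf 25) (.leaf 85))) (.node (.node (.leaf 29) (.leaf 67)) (.node (.leaf 68) (.leaf 112)))) (.node (.node (.node (.leaf 19) (.leaf 78)) (.node (.leaf 31) (.leaf 97))) (.node (.node (.leaf 40) (.leaf 75)) (.leaf 56))))) (.node (.node (.node (.node (.node (.leaf 0) (.leaf 50)) (.node (.leaf 24) (.leaf 109))) (.node (.node (.leaf 27) (.leaf 65)) (.node (.leaf 66) (.leaf 118)))) (.node (.node (.node (.leaf 5) (.leaf 58)) (.node (.leaf 30) (.leaf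 105))) (.node (.node (.leaf 17) (.leaf 73)) (.leaf 74)))) (.node (.node (.node (.node (.leaf 11) (.leaf 54)) (.node (.leaf 53) (.leaf 110))) (.node (.node (.leaf 32) (.leaf 101)) (.node (.leaf 70) (.leaf 114)))) (.node (.node (.node (.leaf 8) (.leaf 76)) (.node (.leaf 33) (.leaf 102))) (.node (.node (.leaf 42) (.leaf 104)) (.leaf 79)))))) (.node (.node (.node (.node (.node (.node (.leaf 4) (.leaf 82)) (.node (.leaf 46) (.leaf 108))) (.node (.node (.leaf 26) (.leaf 64)) (.node (.leaf 45) (.leaf 117)))) (.node (.node (.node (.leaf 16) (.leaf 90)) (.node (.leaf 57) (.leaf 106))) (.node (.node (.leaf 36) (.leaf 87)) (.leaf 41)))) (.node (.node (.node (.node (.leaf 10) (.leaf 71)) (.node (.leaf 51) (.leaf 86))) (.node (.node (.leaf 13) (.leaf 100)) (.node (.leaf 38) (.leaf 113)))) (.node (.node (.node (.leaf 21) (.leaf 61)) (.node (.leaf 49) (.leaf 98))) (.node (.node (.leaf 20) (.leaf 91)) (.leaf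 77))))) (.node (.node (.node (.node (.node (.leaf 7) (.leaf 84)) (.node (.leaf 48) (.leaf 95))) (.node (.node (.leaf 12) (.leaf 80)) (.node (.leaf 37) (.leaf 119)))) (.node (.node (.node (.leaf 6) (.leaf 92)) (.node (.leaf 59) (.leaf 96))) (.node (.node (.leaf 18) (.leaf 93)) (.leaf 43)))) (.node (.node (.node (.node (.leaf 3) (.leaf 69)) (.node (.leaf 55) (.leaf 111))) (.node (.node (.leaf 15) (.leaf 89)) (.node (.leaf 39) (.leaf 115)))) (.node (.node (.node (.leaf 23) (.leaf 62)) (.node (.leaf 63) (.leaf 103))) (.node (.node (.leaf 44) (.leaf 99)) (.leaf 47)))))))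

/-- Data. -/
def cert120MulB : BT (ℕ) :=
  cert120MulB_0

/-- Data. -/
def cert120Ord_0 : BT (ℕ) :=
  (.node (.node (.node (.node (.node (.node (.node (.leaf 0) (.leaf 91)) (.node (.leaf 39) (.leaf 96))) (.node (.node (.leaf 84) (.leaf 87)) (.node (.leaf 28) (.leaf 23)))) (.node (.node (.node (.leaf 100) (.leaf 81)) (.node (.leaf 32) (.leaf 36))) (.node (.node (.leaf 20) (.leaf 82)) (.leaf 13)))) (.node (.node (.node (.node (.leaf 98) (.leaf 4)) (.node (.leaf 74) (.leaf 118))) (.node (.node (.leaf 69) (.leaf 19)) (.node (.leaf 97) (.leaf 33)))) (.node (.node (.node (.leaf 90) (.leaf 54)) (.node (.leaf 106) (.leaf 49))) (.node (.node (.leaf 113) (.leaf 8)) (.leaf 50))))) (.node (.node (.node (.node (.node (.leaf 3) (.leaf 62)) (.node (.leaf 25) (.leaf 107))) (.node (.node (.leaf 70) (.leaf 99)) (.node (.leaf 22) (.leaf 29)))) (.node (.node (.node (.leaf 66) (.leaf 109)) (.node (.leaf 26)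 (.leaf 68))) (.node (.node (.leaf 30) (.leaf 89)) (.leaf 21)))) (.node (.node (.node (.node (.leaf 86) (.leaf 2)) (.node (.leaf 46) (.leaf 119))) (.node (.node (.leaf 56) (.leaf 27)) (.node (.leaf 105) (.leaf 58)))) (.node (.node (.node (.leaf 93) (.leaf 67)) (.node (.leaf 104) (.leaf 71))) (.node (.node (.leaf 114) (.leaf 12)) (.leaf 61)))))) (.node (.node (.node (.node (.node (.node (.leaf 1) (.leaf 73)) (.node (.leaf 52) (.leaf 103))) (.node (.node (.leaf 48) (.leaf 65)) (.node (.leaf 17) (.leaf 42)))) (.node (.node (.node (.leaf 77) (.leaf 101)) (.node (.leaf 40) (.leaf 55))) (.node (.node (.leaf 15) (.leaf 95)) (.leaf 9)))) (.node (.node (.node (.node (.leaf 64) (.leaf 7)) (.node (.leaf 57) (.leaf 117))) (.node (.node (.leaf 45) (.leaf 14)) (.node (.leaf 94) (.leaf 47)))) (.node (.node (.node (.leaf 79) (.leaf 43)) (.node (.leaf 108) (.leaf 60))) (.node (.node (.leaf 115) (.leaf 18))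 (.leaf 85))))) (.node (.node (.node (.node (.node (.leaf 6) (.leaf 80)) (.node (.leaf 31) (.leaf 111))) (.node (.node (.leaf 59) (.leaf 76)) (.node (.leaf 38) (.leaf 34)))) (.node (.node (.node (.leaf 88) (.leaf 92)) (.node (.leaf 53) (.leaf 44))) (.node (.node (.leaf 24) (.leaf 78)) (.leaf 16)))) (.node (.node (.node (.node (.leaf 75) (.leaf 11)) (.node (.leaf 63) (.leaf 116))) (.node (.node (.leaf 37) (.leaf 10)) (.node (.leaf 102) (.leaf 41)))) (.node (.node (.node (.leaf 83) (.leaf 35)) (.node (.leaf 110) (.leaf 51))) (.node (.node (.leaf 112) (.leaf 5)) (.leaf 72)))))))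

/-- Data. -/
def cert120Ord : BT (ℕ) :=
  cert120Ord_0

/-- Data. -/
def cert120Pos_0 : BT (ℕ) :=
  (.node (.node (.node (.node (.node (.node (.node (.leaf 0) (.leaf 5)) (.node (.leaf 40) (.leaf 96))) (.node (.node (.leaf 59) (.leaf 67)) (.node (.leaf 17) (.leaf 31)))) (.node (.node (.node (.leaf 92) (.leaf 63)) (.node (.leaf 41) (.leaf 46))) (.node (.node (.leaf 27) (.leaf 11)) (.leaf 22)))) (.node (.node (.node (.node (.leaf 68) (.leaf 106)) (.node (.leaf 104) (.leaf 8))) (.node (.node (.leaf 24) (.leaf 16)) (.node (.leaf 33) (.leaf 103)))) (.node (.node (.node (.leaf 94) (.leaf 83)) (.node (.leaf 107) (.leaf 45))) (.node (.node (.leaf 48) (.leaf 75)) (.leaf 109))))) (.node (.node (.node (.node (.node (.leaf 70) (.leaf 10)) (.node (.leaf 115) (.leaf 4))) (.node (.node (.leaf 93) (.leaf 88)) (.node (.leaf 60) (.leaf 30)))) (.node (.node (.node (.leaf 87) (.leaf 36)) (.node (.leaf 113) (.leaf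 44))) (.node (.node (.leaf 42) (.leaf 12)) (.leaf 118)))) (.node (.node (.node (.node (.leaf 3) (.leaf 18)) (.node (.leaf 51) (.leaf 55))) (.node (.node (.leaf 50) (.leaf 6)) (.node (.leaf 76) (.leaf 100)))) (.node (.node (.node (.leaf 85) (.leaf 91)) (.node (.leaf 38) (.leaf 47))) (.node (.node (.leaf 26) (.leaf 53)) (.leaf 66)))))) (.node (.node (.node (.node (.node (.node (.leaf 1) (.leaf 81)) (.node (.leaf 116) (.leaf 52))) (.node (.node (.leaf 49) (.leaf 72)) (.node (.leaf 108) (.leaf 28)))) (.node (.node (.node (.leaf 57) (.leaf 65)) (.node (.leaf 119) (.leaf 54))) (.node (.node (.leaf 34) (.leaf 90)) (.leaf 37)))) (.node (.node (.node (.node (.leaf 95) (.leaf 20)) (.node (.leaf 23) (.leaf 73))) (.node (.node (.leaf 58) (.leaf 61)) (.node (.leaf 43) (.leaf 101)))) (.node (.node (.node (.leaf 56) (.leaf 9)) (.node (.leaf 21) (.leaf 74))) (.node (.node (.leaf 114) (.leaf 14)) (.leaf 62)))))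 (.node (.node (.node (.node (.node (.leaf 2) (.leaf 78)) (.node (.leaf 79) (.leaf 82))) (.node (.node (.leaf 84) (.leaf 15)) (.node (.leaf 111) (.leaf 29)))) (.node (.node (.node (.leaf 71) (.leaf 7)) (.node (.leaf 77) (.leaf 98))) (.node (.node (.leaf 86) (.leaf 64)) (.leaf 19)))) (.node (.node (.node (.node (.leaf 69) (.leaf 110)) (.node (.leaf 32) (.leaf 97))) (.node (.node (.leaf 112) (.leaf 80)) (.node (.leaf 105) (.leaf 102)))) (.node (.node (.node (.leaf 25) (.leaf 13)) (.node (.leaf 117) (.leaf 99))) (.node (.node (.leaf 35) (.leaf 89)) (.leaf 39)))))))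

/-- Data. -/
def cert120Pos : BT (ℕ) :=
  cert120Pos_0

/-- Data. -/
def cert120Img_0 : BT (List ℕ) :=
  (.node (.node (.node (.node (.node (.node (.leaf [0,1,2,3,4]) (.leaf [4,3,2,0,1])) (.node (.leaf [0,1,3,2,4]) (.leaf [3,4,1,2,0]))) (.node (.node (.leaf [3,1,4,0,2]) (.leaf [4,0,2,1,3])) (.node (.leaf [3,2,1,0,4]) (.leaf [1,4,0,2,3])))) (.node (.node (.node (.leaf [2,1,4,3,0]) (.leaf [0,1,4,2,3])) (.node (.leaf [0,3,2,4,1]) (.leaf [4,3,0,1,2]))) (.node (.node (.leaf [4,2,1,0,3]) (.leaf [1,0,2,4,3])) (.leaf [0,4,3,1,2])))) (.node (.node (.node (.node (.leaf [1,4,3,2,0]) (.leaf [4,0,3,1,2])) (.node (.leaf [4,3,1,2,0]) (.leaf [1,2,4,3,0]))) (.node (.node (.leaf [4,3,2,1,0]) (.leaf [3,4,2,1,0])) (.node (.leaf [2,1,3,0,4]) (.leaf [0,2,1,4,3])))) (.node (.node (.node (.leaf [2,4,3,0,1]) (.leaf [0,4,2,1,3])) (.node (.leaf [4,1,2,0,3]) (.leaf [4,2,3,0,1]))) (.node (.node (.leaf [1,3,4,2,0]) (.leaf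 [2,4,1,0,3])) (.leaf [1,2,3,0,4]))))) (.node (.node (.node (.node (.node (.leaf [1,0,4,3,2]) (.leaf [1,4,3,0,2])) (.node (.leaf [2,4,0,1,3]) (.leaf [4,1,3,2,0]))) (.node (.node (.leaf [2,3,0,1,4]) (.leaf [1,3,2,4,0])) (.node (.leaf [0,2,3,1,4]) (.leaf [1,3,4,0,2])))) (.node (.node (.node (.leaf [4,1,0,2,3]) (.leaf [3,1,4,2,0])) (.node (.leaf [2,0,1,3,4]) (.leaf [4,1,2,3,0]))) (.node (.node (.leaf [0,4,1,3,2]) (.leaf [2,3,1,4,0])) (.leaf [3,0,2,4,1])))) (.node (.node (.node (.node (.leaf [0,4,1,2,3]) (.leaf [3,0,4,2,1])) (.node (.leaf [1,4,2,0,3]) (.leaf [2,1,0,4,3]))) (.node (.node (.leaf [1,0,3,4,2]) (.leaf [4,0,1,3,2])) (.node (.leaf [3,1,2,4,0]) (.leaf [0,3,2,1,4])))) (.node (.node (.node (.leaf [4,0,2,3,1]) (.leaf [1,2,4,0,3])) (.node (.leaf [3,4,2,0,1]) (.leaf [4,0,1,2,3]))) (.node (.node (.leaf [4,1,0,3,2]) (.leaf [2,3,1,0,4])) (.leaf [4,1,3,0,2]))))))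

/-- Data. -/
def cert120Img_1 : BT (List ℕ) :=
  (.node (.node (.node (.node (.node (.node (.leaf [0,2,3,4,1]) (.leaf [0,3,4,2,1])) (.node (.leaf [3,2,4,1,0]) (.leaf [2,4,3,1,0]))) (.node (.node (.leaf [1,2,0,3,4]) (.leaf [2,3,4,1,0])) (.node (.leaf [1,4,2,3,0]) (.leaf [1,2,3,4,0])))) (.node (.node (.node (.leaf [3,0,2,1,4]) (.leaf [4,3,0,2,1])) (.node (.leaf [3,4,1,0,2]) (.leaf [2,0,4,3,1]))) (.node (.node (.leaf [2,3,0,4,1]) (.leaf [1,4,0,3,2])) (.leaf [3,2,0,1,4])))) (.node (.node (.node (.node (.leaf [2,0,1,4,3]) (.leaf [0,3,1,2,4])) (.node (.leaf [0,1,2,4,3]) (.leaf [2,1,0,3,4]))) (.node (.node (.leaf [3,4,0,2,1]) (.leaf [0,4,2,3,1])) (.node (.leaf [0,2,4,1,3]) (.leaf [0,4,3,2,1])))) (.node (.node (.node (.leaf [3,2,1,4,0]) (.leaf [1,3,0,2,4])) (.node (.leaf [0,2,4,3,1]) (.leaf [2,0,3,4,1]))) (.node (.node (.leaf [2,3,4,0,1]) (.leaf [2,4,0,3,1])) (.leaf [0,3,1,4,2]))))) (.node (.node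 (.node (.node (.node (.leaf [0,3,4,1,2]) (.leaf [3,2,4,0,1])) (.node (.leaf [3,4,0,1,2]) (.leaf [0,1,3,4,2]))) (.node (.node (.leaf [4,2,3,1,0]) (.leaf [2,1,4,0,3])) (.node (.leaf [1,0,4,2,3]) (.leaf [1,0,2,3,4])))) (.node (.node (.node (.leaf [1,2,0,4,3]) (.leaf [4,2,0,1,3])) (.node (.leaf [3,0,1,2,4]) (.leaf [3,2,0,4,1]))) (.node (.node (.leaf [4,3,1,0,2]) (.leaf [4,2,1,3,0])) (.leaf [3,1,0,4,2])))) (.node (.node (.node (.node (.leaf [1,3,2,0,4]) (.leaf [1,3,0,4,2])) (.node (.leaf [2,4,1,3,0]) (.leaf [3,1,2,0,4]))) (.node (.node (.leaf [2,1,3,4,0]) (.leaf [0,2,1,3,4])) (.node (.leaf [4,2,0,3,1]) (.leaf [0,1,4,3,2])))) (.node (.node (.node (.leaf [4,0,3,2,1]) (.leaf [2,0,3,1,4])) (.node (.leaf [3,1,0,2,4]) (.leaf [3,0,4,1,2]))) (.node (.node (.leaf [2,0,4,1,3]) (.leaf [1,0,3,2,4])) (.leaf [3,0,1,4,2]))))))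

/-- Data. -/
def cert120Img : BT (List ℕ) :=
  (.node cert120Img_0 cert120Img_1)

/-- The certificate. -/
def cert120 : Cert where
  n := 120
  gens := [
  [0,1,2,6,12,7,8,5,18,4,15,20,13,9,23,17,16,19,3,10,11,22,14,21],
  [0,12,6,8,16,5,2,7,3,9,22,19,1,13,23,15,4,21,18,11,20,17,10,14]]
  elt := cert120Elt
  par := cert120Par
  mul := [cert120MulA, cert120MulB]
  ord := cert120Ord
  pos := cert120Pos

/-- Data. -/
def cert48Elt_0 : BT (List ℕ) :=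
  (.node (.node (.node (.node (.node (.leaf [0,1,2,3,4,5,6,7,8,9,10,11,12,13,14,15,16,17,18,19,20,21,22,23]) (.leaf [0,1,3,2,16,17,18,15,9,13,19,20,8,4,23,22,6,14,12,11,7,10,21,5])) (.leaf [0,1,2,3,12,5,9,10,16,6,7,22,4,18,14,19,8,17,13,15,21,20,11,23])) (.node (.node (.leaf [0,3,2,1,18,14,12,21,9,4,20,10,13,8,17,22,6,23,16,11,15,19,7,5]) (.leaf [0,2,3,1,12,23,8,10,13,16,7,19,4,9,14,21,18,5,6,20,22,11,15,17])) (.leaf [0,2,3,1,13,5,6,21,4,9,20,11,18,8,17,7,12,23,16,10,19,15,22,14]))) (.node (.node (.node (.leaf [0,3,1,2,6,23,16,22,4,8,11,15,9,18,5,7,12,17,13,10,21,20,19,14]) (.leaf [0,2,1,3,12,23,16,7,9,8,10,19,4,13,14,22,6,17,18,11,21,20,15,5])) (.leaf [0,2,1,3,13,5,9,20,8,6,21,11,18,4,17,19,16,14,12,15,7,10,22,23])) (.node (.node (.leaf [0,1,2,3,8,17,18,15,12,13,19,21,16,6,23,10,4,5,9,7,11,22,20,14]) (.leaf [0,3,1,2,12,17,18,10,6,13,7,21,4,8,14,22,9,23,16,11,19,15,20,5])) (.leaf [0,1,2,3,16,17,13,19,4,18,15,20,8,9,23,7,12,5,6,10,22,11,21,14]))))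 (.node (.node (.node (.node (.leaf [0,2,1,3,9,17,18,22,4,13,11,20,6,16,5,10,12,23,8,7,19,15,21,14]) (.leaf [0,1,3,2,6,14,4,11,16,12,22,7,9,13,5,15,8,17,18,19,21,20,10,23])) (.leaf [0,2,1,3,4,23,8,10,6,16,7,15,12,18,14,11,9,17,13,22,20,21,19,5])) (.node (.node (.leaf [0,2,1,3,16,14,4,15,13,12,19,7,8,6,23,20,18,5,9,21,22,11,10,17]) (.leaf [0,2,3,1,18,5,9,20,12,6,21,22,13,16,17,10,4,23,8,7,15,19,11,14])) (.leaf [0,1,2,3,9,14,4,11,18,12,22,10,6,8,5,20,13,23,16,21,19,15,7,17]))) (.node (.node (.node (.leaf [0,3,2,1,6,23,8,11,18,16,22,15,9,4,5,21,13,14,12,20,7,10,19,17]) (.leaf [0,2,1,3,18,5,6,21,16,9,20,22,13,12,17,15,8,14,4,19,10,7,11,23])) (.leaf [0,1,3,2,9,14,12,22,8,4,11,10,6,18,5,19,16,17,13,15,20,21,7,23])) (.node (.node (.leaf [0,3,1,2,8,5,6,15,13,9,19,11,16,4,23,21,18,14,12,20,10,7,22,17]) (.leaf [0,3,2,1,12,17,13,7,8,18,10,21,4,6,14,19,16,5,9,15,22,11,20,23])) (.leaf [0,1,2,3,6,14,12,22,13,4,11,7,9,16,5,21,18,23,8,20,15,19,10,17])))))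

/-- Data. -/
def cert48Elt_1 : BT (List ℕ) :=
  (.node (.node (.node (.node (.node (.leaf [0,1,3,2,4,5,9,10,13,6,7,11,12,8,14,20,18,23,16,21,15,19,22,17]) (.leaf [0,3,2,1,9,23,16,22,13,8,11,19,6,12,5,20,18,14,4,21,10,7,15,17])) (.leaf [0,3,2,1,8,5,9,19,4,6,15,11,16,13,23,10,12,17,18,7,21,20,22,14])) (.node (.node (.leaf [0,1,3,2,8,17,13,19,6,18,15,21,16,12,23,11,9,14,4,22,10,7,20,5]) (.leaf [0,3,1,2,13,14,12,21,16,4,20,7,18,6,17,19,8,5,9,15,11,22,10,23])) (.leaf [0,3,1,2,4,17,13,7,9,18,10,20,12,16,14,11,6,23,8,22,15,19,21,5]))) (.node (.node (.node (.leaf [0,1,2,3,13,23,8,21,9,16,20,19,18,12,17,11,6,14,4,22,7,10,15,5]) (.leaf [0,3,2,1,13,14,4,20,6,12,21,7,18,16,17,11,9,23,8,22,19,15,10,5])) (.leaf [0,3,2,1,4,17,18,10,16,13,7,20,12,9,14,15,8,5,6,19,11,22,21,23])) (.node (.node (.leaf [0,2,3,1,16,14,12,19,6,4,15,7,8,13,23,22,9,17,18,11,20,21,10,5]) (.leaf [0,3,1,2,16,5,9,19,18,6,15,22,8,12,23,20,13,14,4,21,7,10,11,17]))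 (.leaf [0,3,1,2,9,23,8,11,12,16,22,19,6,13,5,10,4,17,18,7,20,21,15,14])))) (.node (.node (.node (.node (.leaf [0,2,3,1,9,17,13,11,16,18,22,20,6,4,5,19,8,14,12,15,10,7,21,23]) (.leaf [0,1,3,2,18,23,8,21,4,16,20,15,13,6,17,10,12,5,9,7,22,11,19,14])) (.leaf [0,1,3,2,12,5,6,7,18,9,10,22,4,16,14,21,13,23,8,20,19,15,11,17])) (.node (.node (.leaf [0,3,1,2,18,14,4,20,8,12,21,10,13,9,17,15,16,5,6,19,22,11,7,23]) (.leaf [0,2,3,1,8,14,4,15,9,12,19,10,16,18,23,11,6,17,13,22,21,20,7,5])) (.leaf [0,2,3,1,6,17,18,22,8,13,11,21,9,12,5,15,16,14,4,19,7,10,20,23]))) (.node (.node (.node (.leaf [0,1,3,2,13,23,16,20,12,8,21,19,18,9,17,7,4,5,6,10,11,22,15,14]) (.leaf [0,2,1,3,8,14,12,19,18,4,15,10,16,9,23,21,13,5,6,20,11,22,7,17])) (.leaf [0,2,1,3,6,17,13,11,12,18,22,21,9,8,5,7,4,23,16,10,15,19,20,14])) (.node (.node (.leaf [0,2,3,1,4,23,16,7,18,8,10,15,12,6,14,20,13,5,9,21,11,22,19,17]) (.leaf [0,3,2,1,16,5,6,15,12,9,19,22,8,18,23,7,4,17,13,10,20,21,11,14]))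 (.leaf [0,1,2,3,18,23,16,20,6,8,21,15,13,4,17,22,9,14,12,11,10,7,19,5])))))

/-- Data. -/
def cert48Elt : BT (List ℕ) :=
  (.node cert48Elt_0 cert48Elt_1)

/-- Data. -/
def cert48Par_0 : BT (ℕ × ℕ) :=
  (.node (.node (.node (.node (.node (.node (.leaf (0, 0)) (.leaf (1, 25))) (.leaf (1, 11))) (.node (.node (.leaf (0, 5)) (.leaf (1, 33))) (.leaf (1, 17)))) (.node (.node (.node (.leaf (1, 2)) (.leaf (1, 29))) (.leaf (1, 14))) (.node (.node (.leaf (1, 7)) (.leaf (1, 37))) (.leaf (1, 21))))) (.node (.node (.node (.node (.leaf (1, 1)) (.leaf (1, 27))) (.leaf (1, 13))) (.node (.node (.leaf (1, 6)) (.leaf (1, 35))) (.leaf (1, 19)))) (.node (.node (.node (.leaf (1, 3)) (.leaf (1, 31))) (.leaf (1, 16))) (.node (.node (.leaf (1, 9)) (.leaf (1, 41))) (.leaf (1, 23)))))) (.node (.node (.node (.node (.node (.leaf (1, 0)) (.leaf (0, 26))) (.leaf (1, 12))) (.node (.node (.leaf (1, 5)) (.leaf (1, 34))) (.leaf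 (1, 18)))) (.node (.node (.node (.leaf (0, 3)) (.leaf (1, 30))) (.leaf (1, 15))) (.node (.node (.leaf (1, 8)) (.leaf (0, 40))) (.leaf (0, 22))))) (.node (.node (.node (.node (.leaf (0, 2)) (.leaf (1, 28))) (.leaf (0, 14))) (.node (.node (.leaf (0, 7)) (.leaf (0, 36))) (.leaf (1, 20)))) (.node (.node (.node (.leaf (1, 4)) (.leaf (1, 32))) (.leaf (0, 17))) (.node (.leaf (1, 10)) (.leaf (1, 24)))))))

/-- Data. -/
def cert48Par : BT (ℕ × ℕ) :=
  cert48Par_0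

/-- Data. -/
def cert48MulA_0 : BT (ℕ) :=
  (.node (.node (.node (.node (.node (.node (.leaf 1) (.leaf 31)) (.leaf 19)) (.node (.node (.leaf 13) (.leaf 46)) (.leaf 17))) (.node (.node (.node (.leaf 2) (.leaf 44)) (.leaf 14)) (.node (.node (.leaf 7) (.leaf 36)) (.leaf 35)))) (.node (.node (.node (.node (.leaf 4) (.leaf 26)) (.leaf 25)) (.node (.node (.leaf 11) (.leaf 47)) (.leaf 34))) (.node (.node (.node (.leaf 3) (.leaf 45)) (.leaf 30)) (.node (.node (.leaf 20) (.leaf 40)) (.leaf 22))))) (.node (.node (.node (.node (.node (.leaf 0) (.leaf 27)) (.leaf 24)) (.node (.node (.leaf 5) (.leaf 39)) (.leaf 18))) (.node (.node (.node (.leaf 9) (.leaf 43)) (.leaf 15)) (.node (.node (.leaf 8) (.leaf 38)) (.leaf 23)))) (.node (.node (.node (.node (.leaf 6) (.leaf 28)) (.leaf 16)) (.node (.node (.leaf 10) (.leaf 37)) (.leaf 33))) (.node (.node (.node (.leaf 12) (.leaf 41)) (.leaf 29)) (.node (.node (.leaf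 21) (.leaf 42)) (.leaf 32))))))

/-- Data. -/
def cert48MulA : BT (ℕ) :=
  cert48MulA_0

/-- Data. -/
def cert48MulB_0 : BT (ℕ) :=
  (.node (.node (.node (.node (.node (.node (.leaf 2) (.leaf 40)) (.leaf 23)) (.node (.node (.leaf 14) (.leaf 34)) (.leaf 32))) (.node (.node (.node (.leaf 8) (.leaf 30)) (.leaf 28)) (.node (.node (.leaf 18) (.leaf 6)) (.leaf 36)))) (.node (.node (.node (.node (.leaf 5) (.leaf 42)) (.leaf 26)) (.node (.node (.leaf 16) (.leaf 9)) (.leaf 20))) (.node (.node (.node (.leaf 11) (.leaf 12)) (.leaf 24)) (.node (.node (.leaf 21) (.leaf 4)) (.leaf 38))))) (.node (.node (.node (.node (.node (.leaf 3) (.leaf 41)) (.leaf 25)) (.node (.node (.leaf 15) (.leaf 47)) (.leaf 33))) (.node (.node (.node (.leaf 10) (.leaf 45)) (.leaf 29)) (.node (.node (.leaf 19) (.leaf 46)) (.leaf 37)))) (.node (.node (.node (.node (.leaf 7) (.leaf 43)) (.leaf 27)) (.node (.node (.leaf 17) (.leaf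 1)) (.leaf 35))) (.node (.node (.node (.leaf 13) (.leaf 0)) (.leaf 31)) (.node (.node (.leaf 22) (.leaf 44)) (.leaf 39))))))

/-- Data. -/
def cert48MulB : BT (ℕ) :=
  cert48MulB_0

/-- Data. -/
def cert48Ord_0 : BT (ℕ) :=
  (.node (.node (.node (.node (.node (.node (.leaf 0) (.leaf 25)) (.leaf 18)) (.node (.node (.leaf 1) (.leaf 21)) (.leaf 15))) (.node (.node (.node (.leaf 16) (.leaf 44)) (.leaf 36)) (.node (.node (.leaf 19) (.leaf 46)) (.leaf 40)))) (.node (.node (.node (.node (.leaf 12) (.leaf 14)) (.leaf 39)) (.node (.node (.leaf 9) (.leaf 17)) (.leaf 43))) (.node (.node (.node (.leaf 28) (.leaf 45)) (.leaf 10)) (.node (.node (.leaf 32) (.leaf 47)) (.leaf 13))))) (.node (.node (.node (.node (.node (.leaf 30) (.leaf 4)) (.leaf 23)) (.node (.node (.leaf 34) (.leaf 6)) (.leaf 27))) (.node (.node (.node (.leaf 5) (.leaf 41)) (.leaf 20)) (.node (.node (.leaf 7) (.leaf 37)) (.leaf 24)))) (.node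 (.node (.node (.node (.leaf 26) (.leaf 29)) (.leaf 2)) (.node (.node (.leaf 22) (.leaf 33)) (.leaf 3))) (.node (.node (.node (.leaf 31) (.leaf 11)) (.leaf 38)) (.node (.node (.leaf 35) (.leaf 8)) (.leaf 42))))))

/-- Data. -/
def cert48Ord : BT (ℕ) :=
  cert48Ord_0

/-- Data. -/
def cert48Pos_0 : BT (ℕ) :=
  (.node (.node (.node (.node (.node (.node (.leaf 0) (.leaf 14)) (.leaf 4)) (.node (.node (.leaf 47) (.leaf 28)) (.leaf 29))) (.node (.node (.node (.leaf 33) (.leaf 20)) (.leaf 21)) (.node (.node (.leaf 2) (.leaf 36)) (.leaf 6)))) (.node (.node (.node (.node (.leaf 19) (.leaf 9)) (.leaf 16)) (.node (.node (.leaf 22) (.leaf 31)) (.leaf 3))) (.node (.node (.node (.leaf 41) (.leaf 23)) (.leaf 11)) (.node (.node (.leaf 34) (.leaf 44)) (.leaf 1))))) (.node (.node (.node (.node (.node (.leaf 8) (.leaf 43)) (.leaf 42)) (.node (.node (.leaf 10) (.leaf 37)) (.leaf 32))) (.node (.node (.node (.leaf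 5) (.leaf 45)) (.leaf 40)) (.node (.node (.leaf 30) (.leaf 38)) (.leaf 35)))) (.node (.node (.node (.node (.leaf 27) (.leaf 15)) (.leaf 12)) (.node (.node (.leaf 39) (.leaf 26)) (.leaf 25))) (.node (.node (.node (.leaf 13) (.leaf 18)) (.leaf 17)) (.node (.node (.leaf 24) (.leaf 46)) (.leaf 7))))))

/-- Data. -/
def cert48Pos : BT (ℕ) :=
  cert48Pos_0

/-- Data. -/
def cert48Img_0 : BT (List ℕ) :=
  (.node (.node (.node (.node (.node (.node (.leaf [1,0,0,1]) (.leaf [1,1,2,1])) (.leaf [2,0,0,2])) (.node (.node (.leaf [0,1,1,1]) (.leaf [1,2,1,0])) (.leaf [0,1,2,2]))) (.node (.node (.node (.leaf [2,1,0,2]) (.leaf [2,1,0,1])) (.leaf [1,0,2,2])) (.node (.node (.leaf [2,2,2,1]) (.leaf [0,1,2,1])) (.leaf [1,1,1,2])))) (.node (.node (.node (.node (.leaf [0,2,2,1]) (.leaf [2,0,0,1])) (.leaf [1,2,0,2])) (.node (.node (.leaf [1,1,1,0]) (.leaf [0,2,1,1])) (.leaf [0,1,2,0]))) (.node (.node (.node (.leaf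 [1,2,2,0]) (.leaf [2,0,1,1])) (.leaf [1,0,0,2])) (.node (.node (.leaf [2,2,1,0]) (.leaf [1,0,1,2])) (.leaf [0,2,1,0]))))) (.node (.node (.node (.node (.node (.leaf [0,1,1,0]) (.leaf [2,1,1,0])) (.leaf [2,2,0,1])) (.node (.node (.leaf [2,2,1,2]) (.leaf [2,0,2,2])) (.leaf [0,2,1,2]))) (.node (.node (.node (.leaf [1,2,2,2]) (.leaf [0,2,2,2])) (.leaf [2,0,2,1])) (.node (.node (.leaf [1,1,0,1]) (.leaf [1,1,2,0])) (.leaf [1,2,0,1])))) (.node (.node (.node (.node (.leaf [2,0,1,2]) (.leaf [1,2,1,1])) (.leaf [0,2,2,0])) (.node (.node (.leaf [1,0,1,1]) (.leaf [2,2,0,2])) (.leaf [1,0,2,1]))) (.node (.node (.node (.leaf [2,1,2,2]) (.leaf [2,2,2,0])) (.leaf [0,1,1,2])) (.node (.node (.leaf [2,1,2,0]) (.leaf [1,1,0,2])) (.leaf [2,1,1,1]))))))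

/-- Data. -/
def cert48Img : BT (List ℕ) :=
  cert48Img_0

/-- The certificate. -/
def cert48 : Cert where
  n := 48
  gens := [
  [0,1,3,2,4,5,9,10,13,6,7,11,12,8,14,20,18,23,16,21,15,19,22,17],
  [0,2,1,3,9,17,18,22,4,13,11,20,6,16,5,10,12,23,8,7,19,15,21,14]]
  elt := cert48Elt
  par := cert48Par
  mul := [cert48MulA, cert48MulB]
  ord := cert48Ord
  pos := cert48Pos

end CfsgLib.MathieuIso
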