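import Cfsg.Agent.MathieuIso.Cert
import Cfsg.Agent.Mathieu.Small

/-! Certificate data for the stabiliser of a quartet. -/

set_option autoImplicit false

namespace CfsgLib.MathieuIso

/-- Tables generating M12. -/
def seedsQ : List (List ℕ) := [
  [0,18,6,3,2,21,1,5,16,12,7,19,8,9,17,15,13,11,4,22,10,20,14,23],
  [2,13,0,6,4,10,9,19,12,18,17,14,3,16,20,5,1,7,8,15,11,21,23,22],
  [0,1,16,13,12,21,4,17,18,2,11,23,3,6,15,5,8,10,9,14,20,19,22,7],
  [0,1,2,12,4,19,8,10,6,18,7,11,3,16,20,15,13,17,9,5,14,21,23,22],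
  [0,1,2,3,16,17,13,19,4,18,15,20,8,9,23,7,12,5,6,10,22,11,21,14],
  [0,1,2,3,9,14,4,11,18,12,22,10,6,8,5,20,13,23,16,21,19,15,7,17]]

/-- A straight-line program from the seeds of M12. -/
def progQ : List (Bool × ℕ × ℕ × List ℕ) := [
  (false, 3, 1, [0,9,4,13,16,19,1,21,8,3,17,14,18,2,10,5,6,23,12,22,11,20,15,7]),
  (false, 2, 7, [2,18,4,16,1,15,13,21,12,6,7,20,8,0,17,10,9,22,3,23,14,11,5,19]),
  (false, 1, 8, [6,4,2,13,18,15,9,20,8,1,5,10,16,0,11,7,12,14,3,23,17,19,21,22]),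
  (false, 3, 9, [4,12,16,6,9,5,2,20,18,1,21,11,8,0,23,17,3,15,13,7,10,14,19,22]),
  (false, 3, 10, [12,3,8,4,2,21,16,20,9,1,19,23,18,0,7,10,13,5,6,17,11,15,14,22]),
  (false, 1, 11, [8,3,16,2,6,20,13,10,12,18,22,23,4,0,5,7,9,21,1,11,19,15,17,14]),
  (false, 6, 12, [18,3,13,2,4,19,8,22,6,16,7,17,9,0,14,11,12,15,1,10,21,20,23,5]),
  (false, 5, 5, [0,1,2,3,12,5,9,10,16,6,7,22,4,18,14,19,8,17,13,15,21,20,11,23]),
  (false, 4, 14, [0,1,2,12,3,19,18,7,13,8,10,23,4,9,20,5,6,17,16,15,21,14,11,22]),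
  (false, 6, 5, [0,1,2,3,13,23,8,21,9,16,20,19,18,12,17,11,6,14,4,22,7,10,15,5])]

/-- The triples making a hexad with the standard triple. -/
def partnersQ : List ℕ := [336,584,4120,8960,12352,65800,70144,73744,262672,266496,270344,327744]

/-- The quartets through the standard triple. -/
def quartsQ : List (List ℕ) := [[7,336,70144,270344],[7,584,73744,266496],[7,4120,8960,327744],[7,12352,65800,262672]]

/-- Tables mapping the first quartet to each of the four. -/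
def mapsQ : List (List ℕ) := [
  [0,1,2,3,4,5,6,7,8,9,10,11,12,13,14,15,16,17,18,19,20,21,22,23],
  [0,1,2,3,16,17,13,19,4,18,15,20,8,9,23,7,12,5,6,10,22,11,21,14],
  [0,1,2,3,13,23,8,21,9,16,20,19,18,12,17,11,6,14,4,22,7,10,15,5],
  [0,1,2,3,9,14,4,11,18,12,22,10,6,8,5,20,13,23,16,21,19,15,7,17]]

/-- Elements moving the point 0 to each point of the dodecad. -/
def transQ : List ℕ := [0,3,14,7,19,10,20,18,9,27,4,1]

/-- Data. -/
def quartetElt_0 : BT (List ℕ) :=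
  (.node (.node (.node (.node (.node (.leaf [0,1,2,3,4,5,6,7,8,9,10,11,12,13,14,15,16,17,18,19,20,21,22,23]) (.leaf [8,6,4,18,12,15,16,5,9,0,10,19,1,13,20,17,2,22,3,11,21,14,23,7])) (.node (.leaf [9,16,12,6,1,19,0,10,2,18,15,11,3,4,14,22,13,23,8,17,21,20,5,7]) (.leaf [16,9,12,2,3,19,18,7,13,4,11,23,8,1,20,17,6,5,0,22,14,21,10,15]))) (.node (.node (.leaf [6,4,8,16,0,5,1,23,2,13,19,17,18,12,14,10,3,7,9,22,20,21,15,11]) (.leaf [6,4,8,9,3,10,18,7,13,2,19,17,1,12,14,5,0,23,16,22,21,20,11,15])) (.leaf [9,16,12,13,0,19,1,23,2,4,15,7,8,18,21,17,6,10,3,22,14,20,5,11]))) (.node (.node (.node (.leaf [12,9,16,6,2,7,1,22,0,3,17,15,13,4,14,5,18,19,8,11,21,20,10,23]) (.leaf [16,9,12,8,2,22,0,7,1,13,11,15,3,4,14,19,18,5,6,17,21,20,23,10])) (.node (.leaf [9,16,12,2,18,19,3,23,13,8,10,7,4,0,20,22,6,15,1,17,14,21,11,5]) (.leaf [1,0,2,9,3,15,13,11,18,8,22,17,6,12,20,5,4,23,16,19,21,14,7,10]))) (.node (.node (.leaf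 [12,9,16,3,0,5,1,22,2,6,19,10,4,13,21,7,8,17,18,11,14,20,15,23]) (.leaf [1,0,2,18,8,15,6,23,4,16,11,10,12,13,14,5,9,22,3,19,20,21,17,7])) (.leaf [16,9,12,18,6,22,4,11,8,2,5,23,0,3,21,19,1,7,13,17,20,14,10,15])))) (.node (.node (.node (.node (.leaf [3,13,18,16,2,7,1,23,0,4,17,19,8,12,21,15,6,5,9,22,20,14,10,11]) (.leaf [1,2,0,13,16,10,12,22,9,6,23,5,4,3,14,7,8,11,18,17,21,20,15,19])) (.node (.leaf [9,16,12,2,4,19,8,10,6,3,23,11,18,1,20,17,13,15,0,22,21,14,7,5]) (.leaf [1,2,0,18,12,7,9,23,16,4,11,19,8,13,14,17,6,22,3,10,21,20,5,15]))) (.node (.node (.leaf [8,6,4,13,0,11,2,5,1,12,22,7,9,18,20,17,16,10,3,15,14,21,23,19]) (.leaf [18,3,13,12,8,19,4,15,6,0,7,5,1,16,21,10,2,22,9,11,14,20,23,17])) (.leaf [13,18,3,12,6,17,8,10,4,1,11,7,2,16,21,23,0,19,9,5,14,20,15,22]))) (.node (.node (.node (.leaf [1,2,0,3,6,17,8,22,4,16,11,19,9,13,14,7,12,23,18,10,20,21,15,5]) (.leaf [12,9,16,1,8,11,6,19,4,3,17,10,18,0,20,5,13,22,2,7,21,14,15,23]))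 (.leaf [9,16,12,18,4,22,6,23,8,0,10,11,2,13,21,17,1,15,3,19,20,14,5,7])) (.node (.node (.leaf [9,16,12,3,1,17,2,15,0,8,10,11,6,13,21,22,4,23,18,19,14,20,7,5]) (.leaf [0,2,1,18,6,22,4,17,8,9,10,19,16,13,14,23,12,7,3,11,20,21,5,15])) (.leaf [0,1,2,13,8,19,4,17,6,16,7,22,9,18,14,5,12,10,3,15,20,21,23,11])))))

/-- Data. -/
def quartetElt_1 : BT (List ℕ) :=
  (.node (.node (.node (.node (.node (.leaf [1,2,0,9,3,10,18,22,13,4,11,5,6,16,20,17,8,23,12,7,21,14,19,15]) (.leaf [3,18,13,4,0,11,2,5,1,9,23,7,12,6,20,10,16,17,8,19,21,14,22,15])) (.node (.leaf [6,8,4,0,18,17,13,19,3,9,23,22,16,1,21,15,12,7,2,11,14,20,5,10]) (.leaf [9,12,16,2,18,5,13,10,3,6,23,22,4,1,20,7,8,15,0,11,14,21,17,19]))) (.node (.node (.leaf [0,2,1,16,6,11,8,10,4,3,17,19,18,12,20,23,13,7,9,22,14,21,15,5]) (.leaf [3,13,18,0,12,7,9,23,16,8,5,19,4,2,14,22,6,17,1,15,20,21,11,10])) (.leaf [18,13,3,8,1,5,0,7,2,9,15,11,12,4,20,23,16,22,6,17,21,14,19,10])))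 (.node (.node (.node (.leaf [2,0,1,9,18,23,13,19,3,8,5,7,4,16,20,22,6,15,12,11,21,14,17,10]) (.leaf [6,4,8,13,12,10,16,7,9,1,23,17,2,3,20,22,0,19,18,5,21,14,15,11])) (.node (.leaf [12,16,9,6,13,23,18,22,3,0,17,11,2,4,14,10,1,19,8,15,20,21,5,7]) (.leaf [3,18,13,12,0,19,1,23,2,8,5,7,4,16,21,10,6,17,9,11,20,14,15,22]))) (.node (.node (.leaf [2,0,1,3,8,23,4,15,6,12,19,10,16,13,14,22,9,5,18,11,20,21,7,17]) (.leaf [1,2,0,6,3,7,13,11,18,12,22,5,9,8,21,17,16,23,4,10,20,14,15,19])) (.leaf [3,18,13,9,1,10,2,5,0,4,17,22,6,12,21,11,8,23,16,19,20,14,7,15])))) (.node (.node (.node (.node (.leaf [6,4,8,13,2,10,1,23,0,16,7,15,12,18,20,5,9,19,3,22,14,21,17,11]) (.leaf [0,2,1,8,9,22,16,7,12,3,17,15,13,4,21,23,18,10,6,11,14,20,19,5])) (.node (.leaf [6,4,8,16,18,5,13,19,3,1,23,15,0,9,14,22,2,7,12,10,21,20,17,11]) (.leaf [1,0,2,8,12,5,9,23,16,13,11,17,18,4,21,19,3,22,6,15,14,20,7,10]))) (.node (.node (.leaf [9,16,12,13,8,19,4,15,6,1,23,5,0,3,21,22,2,10,18,17,20,14,7,11])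 (.leaf [12,16,9,4,3,15,13,19,18,1,22,5,0,8,14,23,2,17,6,10,20,21,7,11])) (.leaf [18,3,13,16,6,11,8,22,4,2,15,23,0,9,21,19,1,7,12,10,14,20,17,5]))) (.node (.node (.node (.leaf [4,6,8,18,9,22,16,11,12,0,17,23,2,3,20,10,1,15,13,5,21,14,19,7]) (.leaf [2,0,1,9,4,23,8,5,6,13,19,17,18,12,20,11,3,15,16,22,14,21,7,10])) (.leaf [16,9,12,6,18,19,3,5,13,1,11,15,0,4,14,22,2,7,8,17,20,21,10,23])) (.node (.node (.leaf [12,16,9,18,8,15,6,19,4,0,17,5,1,3,21,10,2,22,13,23,20,14,11,7]) (.leaf [18,13,3,4,2,17,1,22,0,16,7,19,9,6,20,5,12,15,8,23,21,14,10,11])) (.leaf [16,9,12,3,8,17,6,7,4,1,11,10,2,13,21,22,0,5,18,19,20,14,15,23])))))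

/-- Data. -/
def quartetElt_2 : BT (List ℕ) :=
  (.node quartetElt_0 quartetElt_1)

/-- Data. -/
def quartetElt_3 : BT (List ℕ) :=
  (.node (.node (.node (.node (.node (.leaf [16,12,9,2,3,15,13,11,18,6,7,17,8,0,20,23,4,5,1,10,14,21,22,19]) (.leaf [12,16,9,1,8,23,4,17,6,13,19,5,18,2,20,10,3,22,0,15,21,14,7,11])) (.node (.leaf [9,16,12,0,8,17,6,23,4,18,15,5,13,2,20,22,3,10,1,19,21,14,11,7]) (.leaf [2,1,0,8,3,10,18,15,13,12,19,23,16,6,21,17,9,5,4,7,20,14,11,22]))) (.node (.node (.leaf [3,18,13,6,9,19,16,5,12,0,17,15,1,4,20,10,2,23,8,11,14,21,22,7]) (.leaf [8,4,6,18,1,7,2,5,0,9,10,11,12,13,20,23,16,22,3,19,14,21,17,15])) (.leaf [9,12,16,6,3,7,13,10,18,2,15,17,1,4,14,5,0,23,8,11,20,21,22,19]))) (.node (.node (.node (.leaf [4,6,8,16,13,5,18,15,3,0,17,19,1,12,14,10,2,11,9,22,21,20,23,7]) (.leaf [16,9,12,13,1,19,0,7,2,8,5,23,4,3,21,22,6,11,18,17,14,20,15,10])) (.node (.leaf [18,13,3,4,9,17,16,7,12,1,22,10,2,8,20,23,0,15,6,5,14,21,19,11])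 (.leaf [0,2,1,9,13,23,18,7,3,4,17,19,8,12,20,11,6,10,16,22,21,14,5,15]))) (.node (.node (.leaf [4,8,6,1,16,23,12,17,9,18,15,5,13,2,21,7,3,11,0,19,20,14,10,22]) (.leaf [18,13,3,12,1,17,2,15,0,6,7,11,8,16,21,23,4,22,9,5,20,14,10,19])) (.leaf [4,8,6,2,9,19,16,11,12,3,17,10,18,0,21,23,13,15,1,7,20,14,22,5])))) (.node (.node (.node (.node (.leaf [8,4,6,13,9,19,16,5,12,1,22,15,0,18,20,23,2,10,3,7,21,14,17,11]) (.leaf [4,6,8,12,3,22,13,11,18,2,15,23,0,9,14,5,1,17,16,10,21,20,7,19])) (.node (.leaf [16,12,9,0,6,10,4,11,8,3,5,19,18,2,20,23,13,7,1,15,21,14,22,17]) (.leaf [0,2,1,6,16,23,12,17,9,13,10,5,18,8,21,11,3,7,4,22,14,20,15,19]))) (.node (.node (.leaf [13,3,18,0,9,7,12,19,16,4,11,23,8,1,14,15,6,10,2,22,20,21,5,17]) (.leaf [18,13,3,6,16,23,12,22,9,2,15,11,0,4,20,5,1,7,8,17,14,21,10,19])) (.leaf [8,6,4,0,13,17,18,22,3,16,5,19,9,2,21,11,12,10,1,15,14,20,23,7]))) (.node (.node (.node (.leaf [13,18,3,12,2,17,1,11,0,8,10,15,6,9,21,5,4,19,16,23,20,14,7,22])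 (.leaf [1,2,0,12,8,17,6,23,4,13,11,5,18,16,20,10,3,22,9,7,14,21,15,19])) (.leaf [6,4,8,9,1,10,2,19,0,18,7,11,3,16,14,22,13,23,12,5,20,21,17,15])) (.node (.node (.leaf [0,1,2,18,6,15,8,10,4,12,17,23,16,3,14,19,9,7,13,5,20,21,11,22]) (.leaf [18,3,13,2,9,19,16,7,12,8,22,23,4,1,14,10,6,15,0,11,20,21,17,5])) (.leaf [16,12,9,13,1,10,2,5,0,6,7,22,4,18,21,23,8,11,3,15,14,20,17,19])))))

/-- Data. -/
def quartetElt_4 : BT (List ℕ) :=
  (.node (.node (.node (.node (.node (.leaf [16,12,9,8,2,10,1,11,0,18,7,19,3,6,14,15,13,5,4,23,21,20,17,22]) (.leaf [18,3,13,8,1,10,2,15,0,16,7,23,12,6,20,11,9,22,4,19,21,14,17,5])) (.node (.leaf [8,4,6,1,18,23,13,10,3,16,5,15,12,2,21,7,9,22,0,19,14,20,17,11]) (.leaf [8,4,6,16,2,7,1,22,0,13,10,15,3,9,14,19,18,5,12,23,20,21,17,11]))) (.node (.node (.leaf [4,8,6,3,0,23,2,15,1,16,11,10,12,13,20,7,9,17,18,19,14,21,22,5]) (.leaf [13,3,18,8,9,22,16,11,12,2,19,23,0,6,20,15,1,10,4,7,14,21,17,5]))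 (.leaf [8,6,4,18,1,15,0,10,2,16,5,23,12,3,20,11,9,22,13,17,14,21,19,7]))) (.node (.node (.node (.leaf [9,16,12,8,0,22,2,15,1,3,23,7,13,6,14,17,18,10,4,19,21,20,11,5]) (.leaf [0,1,2,9,8,15,6,7,4,3,17,22,13,12,20,5,18,10,16,19,14,21,11,23])) (.node (.leaf [12,9,16,8,18,5,13,19,3,0,17,15,1,4,14,7,2,22,6,11,20,21,23,10]) (.leaf [12,16,9,0,4,10,6,19,8,18,22,11,3,1,20,15,13,17,2,23,21,14,5,7]))) (.node (.node (.leaf [13,18,3,6,12,23,16,11,9,0,10,22,2,8,20,17,1,19,4,5,14,21,15,7]) (.leaf [1,2,0,9,6,10,4,11,8,18,22,19,3,12,20,7,13,23,16,17,14,21,5,15])) (.leaf [9,12,16,13,0,11,2,15,1,6,23,17,8,3,21,7,4,10,18,5,14,20,22,19])))) (.node (.node (.node (.node (.leaf [2,0,1,16,3,11,18,15,13,6,19,17,8,12,20,23,4,5,9,22,21,14,10,7]) (.leaf [0,1,2,18,16,15,12,17,9,8,10,11,6,13,14,5,4,7,3,19,21,20,23,22])) (.node (.leaf [0,1,2,8,9,5,12,17,16,18,7,23,13,6,21,15,3,10,4,19,14,20,11,22]) (.leaf [1,0,2,16,13,5,18,22,3,6,23,10,4,9,20,19,8,11,12,15,21,14,17,7])))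 (.node (.node (.leaf [8,6,4,1,12,11,9,10,16,3,5,19,18,2,21,17,13,22,0,15,20,14,7,23]) (.leaf [4,6,8,0,12,10,16,11,9,18,15,19,3,2,21,22,13,17,1,5,20,14,23,7])) (.leaf [2,1,0,3,8,17,6,19,4,9,15,22,16,18,14,10,12,5,13,7,20,21,11,23]))) (.node (.node (.node (.leaf [4,8,6,18,2,7,1,11,0,12,17,5,9,3,20,19,16,15,13,23,14,21,10,22]) (.leaf [0,2,1,3,12,23,16,7,9,8,10,19,4,13,14,22,6,17,18,11,21,20,15,5])) (.leaf [13,3,18,6,12,7,9,10,16,1,11,17,2,4,20,22,0,19,8,15,14,21,5,23])) (.node (.node (.leaf [16,12,9,0,18,10,3,5,13,4,11,22,6,1,20,15,8,7,2,23,14,21,19,17]) (.leaf [1,0,2,12,18,19,3,23,13,4,11,7,8,16,20,15,6,22,9,5,21,14,10,17])) (.leaf [9,12,16,8,0,5,1,23,2,18,15,17,13,4,14,7,3,10,6,11,21,20,19,22])))))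

/-- Data. -/
def quartetElt_5 : BT (List ℕ) :=
  (.node quartetElt_3 quartetElt_4)

/-- Data. -/
def quartetElt_6 : BT (List ℕ) :=
  (.node quartetElt_2 quartetElt_5)

/-- Data. -/
def quartetElt_7 : BT (List ℕ) :=
  (.node (.node (.node (.node (.node (.leaf [0,1,2,12,3,19,18,7,13,8,10,23,4,9,20,5,6,17,16,15,21,14,11,22]) (.leaf [0,1,2,16,6,5,4,17,8,13,10,23,18,9,20,19,3,7,12,15,14,21,22,11])) (.node (.leaf [8,6,4,3,16,17,9,10,12,1,22,7,2,18,20,11,0,5,13,15,21,14,19,23]) (.leaf [9,12,16,13,8,11,6,23,4,2,15,22,0,18,21,5,1,10,3,7,20,14,17,19]))) (.node (.node (.leaf [13,18,3,0,8,17,6,19,4,16,11,22,9,1,14,5,12,10,2,23,21,20,15,7]) (.leaf [13,18,3,2,12,5,9,10,16,4,11,22,6,1,14,17,8,19,0,23,20,21,7,15])) (.leaf [2,0,1,16,8,11,6,19,4,18,15,10,3,9,20,22,13,5,12,23,14,21,17,7]))) (.node (.node (.node (.leaf [16,12,9,18,0,15,1,11,2,8,5,17,6,3,21,10,4,7,13,23,14,20,19,22]) (.leaf [12,16,9,4,0,15,1,22,2,13,19,7,3,6,14,10,18,17,8,23,21,20,5,11]))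 (.node (.leaf [18,3,13,1,8,11,6,7,4,9,15,5,12,2,14,10,16,22,0,19,21,20,17,23]) (.leaf [16,9,12,13,4,19,8,5,6,0,7,15,1,18,21,17,2,11,3,22,20,14,23,10]))) (.node (.node (.leaf [6,8,4,12,13,17,18,7,3,1,23,10,2,9,14,11,0,19,16,15,21,20,5,22]) (.leaf [6,4,8,1,3,22,13,19,18,16,7,17,9,0,21,5,12,23,2,10,14,20,15,11])) (.leaf [8,6,4,2,3,15,13,10,18,12,22,23,16,1,21,17,9,5,0,11,14,20,7,19])))) (.node (.node (.node (.node (.leaf [9,16,12,0,13,17,18,15,3,6,23,11,8,1,20,19,4,10,2,22,14,21,5,7]) (.leaf [1,0,2,4,13,15,3,23,18,12,22,10,16,8,21,19,9,11,6,5,20,14,7,17])) (.node (.leaf [12,9,16,2,13,5,18,22,3,4,17,10,6,0,20,11,8,19,1,7,14,21,23,15]) (.leaf [3,18,13,16,2,11,0,17,1,6,23,15,8,9,21,19,4,5,12,10,20,14,22,7]))) (.node (.node (.leaf [3,13,18,16,8,7,4,17,6,1,23,10,2,9,21,22,0,5,12,15,14,20,19,11]) (.leaf [0,2,1,9,8,23,4,17,6,18,7,5,13,16,20,22,3,10,12,11,14,21,19,15])) (.leaf [3,18,13,2,16,19,9,23,12,4,17,7,8,0,14,11,6,5,1,10,20,21,22,15])))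 (.node (.node (.node (.leaf [6,4,8,12,13,22,3,23,18,0,7,11,2,16,14,10,1,19,9,5,21,20,15,17]) (.leaf [3,18,13,6,1,19,0,17,2,16,5,22,9,8,20,11,12,23,4,10,21,14,15,7])) (.leaf [4,6,8,12,0,22,2,15,1,13,11,7,3,16,14,10,18,17,9,5,20,21,23,19])) (.node (.node (.leaf [18,3,13,6,0,19,1,22,2,9,15,17,16,4,20,10,12,7,8,11,21,14,5,23]) (.leaf [13,3,18,16,1,7,2,19,0,8,10,23,4,9,21,22,6,11,12,15,20,14,17,5])) (.leaf [6,8,4,2,13,15,3,23,18,16,7,10,12,0,21,11,9,19,1,17,14,20,22,5])))))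

/-- Data. -/
def quartetElt_8 : BT (List ℕ) :=
  (.node (.node (.node (.node (.node (.leaf [6,4,8,2,12,5,9,23,16,18,7,17,13,0,21,22,3,19,1,10,20,14,11,15]) (.leaf [13,18,3,4,1,17,2,19,0,9,10,22,16,8,20,23,12,11,6,5,21,14,7,15])) (.node (.leaf [3,18,13,1,6,11,8,5,4,12,17,7,9,0,14,19,16,23,2,10,21,20,15,22]) (.leaf [2,1,0,4,9,17,16,5,12,13,19,23,18,6,21,10,3,15,8,7,14,20,22,11]))) (.node (.node (.leaf [13,18,3,16,1,5,0,10,2,6,19,22,4,12,21,23,8,11,9,17,20,14,15,7]) (.leaf [13,3,18,4,1,15,0,10,2,12,19,23,16,6,20,22,9,11,8,7,21,14,5,17])) (.leaf [6,8,4,18,0,15,1,23,2,12,19,10,16,13,20,17,9,7,3,11,14,21,5,22]))) (.node (.node (.node (.leaf [3,13,18,8,16,22,9,23,12,0,17,11,2,4,20,7,1,5,6,15,14,21,19,10]) (.leaf [8,4,6,2,3,19,18,22,13,9,10,17,16,0,21,23,12,5,1,7,14,20,11,15])) (.node (.leaf [9,16,12,3,6,17,8,10,4,2,15,7,1,18,21,19,0,23,13,22,20,14,11,5]) (.leaf [1,2,0,16,4,7,8,22,6,3,23,15,13,9,20,17,18,11,12,10,14,21,19,5])))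 (.node (.node (.leaf [8,6,4,13,9,11,12,22,16,2,5,23,0,3,20,15,1,10,18,17,21,14,7,19]) (.leaf [16,9,12,2,8,19,4,11,6,18,7,10,3,0,20,22,13,5,1,17,21,14,23,15])) (.leaf [8,4,6,12,1,19,0,10,2,3,5,11,18,16,14,23,13,22,9,7,20,21,15,17])))) (.node (.node (.node (.node (.leaf [16,12,9,3,8,23,4,11,6,0,7,22,2,18,21,10,1,5,13,15,20,14,19,17]) (.leaf [13,3,18,0,8,7,4,11,6,12,19,5,9,2,14,22,16,10,1,15,21,20,23,17])) (.node (.leaf [6,4,8,12,2,22,0,7,1,3,23,15,13,9,14,5,18,19,16,10,20,21,11,17]) (.leaf [3,18,13,0,4,10,6,23,8,16,5,15,12,2,14,11,9,17,1,19,21,20,22,7]))) (.node (.node (.leaf [8,4,6,9,0,23,2,5,1,18,22,17,13,12,14,7,3,10,16,19,20,21,11,15]) (.leaf [6,4,8,2,13,5,18,7,3,9,23,11,12,1,21,10,16,19,0,22,14,20,17,15])) (.leaf [4,6,8,2,9,5,12,17,16,13,11,23,18,1,21,10,3,15,0,22,20,14,7,19]))) (.node (.node (.node (.leaf [2,0,1,4,9,11,12,19,16,3,5,10,18,8,21,23,13,15,6,22,14,20,7,17]) (.leaf [2,1,0,12,13,17,18,15,3,8,5,11,6,16,20,10,4,19,9,7,21,14,23,22]))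 (.leaf [3,18,13,8,16,10,12,17,9,1,23,7,2,6,20,11,0,5,4,19,14,21,15,22])) (.node (.node (.leaf [2,0,1,18,9,22,16,5,12,6,19,10,4,13,14,23,8,15,3,11,21,20,17,7]) (.leaf [4,6,8,3,0,5,1,11,2,9,15,7,12,18,20,10,16,17,13,22,14,21,19,23])) (.leaf [3,18,13,12,4,19,8,5,6,1,23,15,0,9,21,11,2,17,16,10,14,20,7,22])))))

/-- Data. -/
def quartetElt_9 : BT (List ℕ) :=
  (.node quartetElt_7 quartetElt_8)

/-- Data. -/
def quartetElt_10 : BT (List ℕ) :=
  (.node (.node (.node (.node (.node (.leaf [0,1,2,4,12,15,16,7,9,13,10,22,3,8,21,19,18,17,6,5,14,20,23,11]) (.leaf [8,6,4,16,3,11,18,22,13,0,10,23,2,9,14,17,1,5,12,15,21,20,19,7])) (.node (.leaf [12,9,16,8,1,5,0,17,2,13,19,23,18,6,14,11,3,22,4,7,21,20,15,10]) (.leaf [9,12,16,1,3,11,18,15,13,8,10,17,6,0,20,5,4,23,2,7,14,21,19,22]))) (.node (.node (.leaf [8,4,6,18,12,7,9,10,16,2,5,17,1,3,20,19,0,22,13,23,21,14,11,15]) (.leaf [18,13,3,6,0,23,2,15,1,12,22,10,16,8,20,17,9,7,4,5,21,14,11,19]))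 (.leaf [1,0,2,9,6,15,8,22,4,13,11,7,3,16,20,19,18,23,12,5,14,21,17,10]))) (.node (.node (.node (.leaf [6,4,8,0,16,10,12,19,9,3,23,11,18,1,21,5,13,7,2,22,20,14,15,17]) (.leaf [4,6,8,13,16,10,12,17,9,2,15,7,1,18,20,5,0,11,3,22,21,14,23,19])) (.node (.leaf [4,6,8,3,12,5,9,15,16,1,11,19,0,13,20,22,2,17,18,10,21,14,7,23]) (.leaf [12,16,9,6,2,23,0,17,1,18,22,5,13,8,14,15,3,19,4,10,21,20,11,7]))) (.node (.node (.leaf [0,1,2,16,18,5,13,10,3,4,17,22,6,12,20,15,8,7,9,19,21,14,23,11]) (.leaf [18,13,3,8,12,5,9,15,16,0,7,19,1,6,20,17,2,22,4,23,14,21,11,10])) (.leaf [6,8,4,16,0,11,2,19,1,3,23,10,18,9,14,17,13,7,12,15,20,21,22,5])))) (.node (.node (.node (.node (.leaf [1,2,0,6,9,7,12,22,16,13,11,15,3,4,21,10,18,23,8,17,14,20,5,19]) (.leaf [12,16,9,13,6,10,4,17,8,1,22,7,2,18,21,23,0,19,3,15,20,14,5,11])) (.node (.leaf [4,6,8,13,1,10,2,15,0,12,17,23,16,3,20,22,9,11,18,5,14,21,7,19]) (.leaf [0,2,1,8,13,22,3,17,18,16,7,19,9,6,21,11,12,10,4,23,20,14,15,5])))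 (.node (.node (.leaf [3,13,18,2,8,15,6,23,4,12,17,10,16,0,14,22,9,5,1,7,21,20,11,19]) (.leaf [1,0,2,3,6,5,4,11,8,12,22,7,9,18,14,19,16,23,13,15,20,21,10,17])) (.leaf [9,16,12,6,3,19,18,15,13,0,10,5,1,8,14,17,2,23,4,22,20,21,11,7]))) (.node (.node (.node (.leaf [16,12,9,1,13,23,18,7,3,8,5,19,4,2,20,10,6,11,0,15,14,21,17,22]) (.leaf [16,9,12,0,6,17,8,5,4,13,11,23,18,1,20,19,3,7,2,22,21,14,15,10])) (.leaf [1,2,0,8,18,10,3,23,13,16,11,15,12,4,21,7,9,22,6,17,20,14,19,5])) (.node (.node (.leaf [3,13,18,4,0,15,1,23,2,16,5,10,12,8,20,7,9,17,6,22,21,14,19,11]) (.leaf [1,0,2,16,4,5,6,23,8,18,22,17,13,12,20,15,3,11,9,19,14,21,10,7])) (.leaf [6,8,4,16,18,11,3,23,13,2,19,22,0,12,14,15,1,7,9,17,21,20,10,5])))))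

/-- Data. -/
def quartetElt_11 : BT (List ℕ) :=
  (.node (.node (.node (.node (.node (.leaf [2,0,1,18,4,22,6,19,8,16,5,17,9,3,14,11,12,15,13,23,20,21,10,7]) (.leaf [9,12,16,3,6,5,4,15,8,0,10,19,1,13,21,7,2,23,18,11,20,14,22,17])) (.node (.leaf [0,2,1,18,16,22,9,10,12,4,17,5,6,3,14,11,8,7,13,23,21,20,19,15]) (.leaf [2,1,0,6,13,7,3,5,18,9,15,11,12,4,21,10,16,19,8,17,20,14,22,23]))) (.node (.node (.leaf [3,13,18,1,6,22,4,17,8,16,5,19,9,2,14,7,12,23,0,15,21,20,10,11]) (.leaf [6,8,4,13,12,11,9,23,16,0,7,22,2,18,20,17,1,19,3,15,21,14,5,10])) (.leaf [6,4,8,3,1,5,0,7,2,12,19,11,9,13,20,22,16,23,18,10,14,21,15,17]))) (.node (.node (.node (.leaf [8,4,6,0,13,7,3,5,18,12,22,11,9,1,21,19,16,10,2,23,14,20,15,17]) (.leaf [2,1,0,13,12,10,16,5,9,4,15,22,6,18,14,17,8,19,3,7,21,20,23,11])) (.node (.leaf [13,18,3,9,8,23,4,11,6,2,19,22,0,12,21,5,1,10,16,17,14,20,7,15]) (.leaf [13,3,18,6,2,7,1,11,0,9,10,5,12,8,20,15,16,19,4,22,21,14,17,23])))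 (.node (.node (.leaf [9,16,12,1,6,22,4,15,8,13,10,7,3,0,20,19,18,23,2,17,21,14,5,11]) (.leaf [2,1,0,18,4,7,8,5,6,12,19,11,9,13,14,17,16,15,3,10,20,21,23,22])) (.leaf [18,3,13,4,2,11,0,7,1,12,22,5,9,8,20,19,16,15,6,10,21,14,23,17])))) (.node (.node (.node (.node (.leaf [4,8,6,0,12,7,9,15,16,13,11,22,3,1,21,19,18,17,2,23,20,14,5,10]) (.leaf [18,13,3,9,4,23,8,22,6,0,7,11,2,16,21,17,1,15,12,5,14,20,19,10])) (.node (.leaf [8,6,4,3,2,17,1,22,0,9,10,19,16,13,20,15,12,5,18,11,14,21,7,23]) (.leaf [9,12,16,2,4,5,6,23,8,13,10,17,18,0,20,11,3,15,1,7,21,14,22,19]))) (.node (.node (.leaf [9,16,12,4,2,17,1,23,0,13,10,5,18,8,14,19,3,15,6,22,21,20,7,11]) (.leaf [6,8,4,1,9,11,12,19,16,18,7,10,3,0,21,15,13,23,2,17,20,14,5,22])) (.leaf [13,3,18,1,16,22,9,10,12,6,19,5,4,2,14,7,8,11,0,15,20,21,17,23]))) (.node (.node (.node (.leaf [12,9,16,18,8,7,4,17,6,2,19,10,1,13,21,5,0,22,3,11,20,14,23,15]) (.leaf [16,9,12,1,4,22,6,7,8,3,5,15,13,2,20,17,18,11,0,19,21,14,10,23]))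 (.leaf [9,12,16,1,6,11,8,10,4,18,15,19,3,2,20,7,13,23,0,5,21,14,17,22])) (.node (.node (.leaf [0,2,1,6,18,23,13,10,3,12,17,15,16,4,21,22,9,7,8,11,20,14,5,19]) (.leaf [18,3,13,9,4,10,6,7,8,1,22,17,2,12,21,11,0,15,16,19,14,20,5,23])) (.leaf [8,6,4,12,18,17,13,10,3,2,5,7,1,16,14,15,0,22,9,11,21,20,23,19])))))

/-- Data. -/
def quartetElt_12 : BT (List ℕ) :=
  (.node quartetElt_10 quartetElt_11)

/-- Data. -/
def quartetElt_13 : BT (List ℕ) :=
  (.node quartetElt_9 quartetElt_12)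

/-- Data. -/
def quartetElt_14 : BT (List ℕ) :=
  (.node quartetElt_6 quartetElt_13)

/-- Data. -/
def quartetElt_15 : BT (List ℕ) :=
  (.node (.node (.node (.node (.node (.leaf [18,3,13,2,4,19,8,22,6,16,7,17,9,0,14,11,12,15,1,10,21,20,23,5]) (.leaf [18,13,3,0,6,17,8,22,4,9,15,19,16,2,14,23,12,7,1,5,21,20,11,10])) (.node (.leaf [16,12,9,4,1,15,0,7,2,3,5,22,13,8,14,23,18,11,6,10,21,20,19,17]) (.leaf [3,18,13,0,12,10,16,5,9,6,23,22,4,1,14,19,8,17,2,11,20,21,15,7]))) (.node (.node (.leaf [6,8,4,18,16,15,12,19,9,1,23,5,0,3,20,11,2,7,13,17,21,14,10,22]) (.leaf [6,8,4,13,2,11,0,7,1,9,23,5,12,3,20,15,16,19,18,17,14,21,22,10])) (.leaf [13,18,3,1,16,23,12,19,9,8,10,7,4,0,14,5,6,11,2,17,20,21,15,22]))) (.node (.node (.node (.leaf [3,13,18,6,9,7,12,17,16,2,5,10,1,8,20,15,0,23,4,22,14,21,11,19]) (.leaf [1,0,2,8,18,5,13,11,3,9,23,7,12,6,21,15,16,22,4,19,20,14,17,10])) (.node (.leaf [8,4,6,3,16,23,12,22,9,0,10,11,2,13,20,7,1,5,18,19,21,14,15,17])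 (.leaf [1,0,2,6,9,19,16,11,12,18,22,10,3,8,21,15,13,23,4,5,14,20,17,7]))) (.node (.node (.leaf [6,4,8,1,9,22,16,7,12,13,19,15,3,2,21,10,18,23,0,5,20,14,17,11]) (.leaf [13,3,18,2,12,15,16,11,9,8,10,17,6,0,14,22,4,19,1,7,20,21,23,5])) (.leaf [16,12,9,13,4,10,6,7,8,2,5,17,1,3,21,15,0,11,18,23,20,14,22,19])))) (.node (.node (.node (.node (.leaf [1,2,0,8,12,10,16,11,9,3,23,19,18,6,21,17,13,22,4,7,14,20,15,5]) (.leaf [3,18,13,9,6,10,4,17,8,2,5,7,1,16,21,19,0,23,12,11,14,20,22,15])) (.node (.leaf [4,8,6,12,3,19,18,15,13,1,11,5,0,16,14,23,2,17,9,7,21,20,10,22]) (.leaf [16,9,12,18,0,22,2,5,1,4,11,10,6,13,21,17,8,7,3,19,14,20,23,15]))) (.node (.node (.leaf [4,6,8,1,16,22,9,15,12,3,17,7,13,0,21,5,18,11,2,10,20,14,19,23]) (.leaf [18,13,3,2,9,5,12,22,16,6,7,10,4,0,14,23,8,15,1,17,20,21,11,19])) (.leaf [4,8,6,13,1,19,0,17,2,9,15,22,16,18,20,23,12,11,3,7,14,21,5,10]))) (.node (.node (.node (.leaf [12,9,16,2,6,5,4,17,8,18,22,23,13,1,20,7,3,19,0,11,21,14,10,15])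 (.leaf [13,18,3,0,9,17,16,11,12,6,19,15,8,2,14,23,4,10,1,5,20,21,22,7])) (.leaf [8,6,4,1,18,11,3,5,13,9,10,7,12,0,21,15,16,22,2,17,14,20,19,23])) (.node (.node (.leaf [8,4,6,12,18,19,3,5,13,0,10,15,1,9,14,7,2,22,16,23,21,20,11,17]) (.leaf [9,12,16,0,13,7,3,23,18,4,15,19,8,2,20,11,6,10,1,5,14,21,22,17])) (.leaf [6,4,8,3,9,5,12,19,16,0,7,15,1,18,20,10,2,23,13,22,21,14,11,17])))))

/-- Data. -/
def quartetElt_16 : BT (List ℕ) :=
  (.node (.node (.node (.node (.node (.leaf [12,9,16,13,2,11,0,17,1,8,22,15,6,18,21,5,4,19,3,7,14,20,23,10]) (.leaf [6,8,4,9,3,15,13,19,18,0,7,5,1,16,14,17,2,23,12,11,21,20,22,10])) (.node (.leaf [4,8,6,3,12,23,16,11,9,2,15,22,0,18,20,19,1,17,13,7,21,14,10,5]) (.leaf [13,3,18,9,0,15,1,11,2,6,19,17,8,12,21,7,4,10,16,22,20,14,5,23]))) (.node (.node (.leaf [9,12,16,8,13,5,18,15,3,1,23,19,0,6,14,11,2,10,4,7,20,21,17,22]) (.leaf [2,1,0,16,3,7,13,19,18,4,15,23,8,9,20,17,6,5,12,10,21,14,22,11]))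 (.leaf [12,16,9,8,18,10,3,17,13,2,19,7,1,6,14,15,0,22,4,23,20,21,11,5]))) (.node (.node (.node (.leaf [12,9,16,4,0,11,2,19,1,18,22,10,3,8,14,7,13,17,6,5,21,20,23,15]) (.leaf [6,8,4,1,3,11,18,7,13,12,19,5,9,2,21,17,16,23,0,15,14,20,10,22])) (.node (.leaf [18,3,13,12,1,19,0,7,2,4,15,23,8,9,21,11,6,22,16,10,20,14,5,17]) (.leaf [9,12,16,18,2,7,1,23,0,8,10,19,4,13,21,5,6,15,3,11,14,20,17,22]))) (.node (.node (.leaf [16,12,9,6,0,23,2,5,1,13,11,17,18,4,14,10,3,7,8,15,21,20,22,19]) (.leaf [0,2,1,3,4,23,8,10,6,16,7,15,12,18,14,11,9,17,13,22,20,21,19,5])) (.leaf [2,0,1,13,12,11,9,15,16,8,5,17,6,3,14,22,4,19,18,23,21,20,7,10])))) (.node (.node (.node (.node (.leaf [1,2,0,4,16,17,9,23,12,18,22,5,13,8,21,7,3,11,6,10,14,20,19,15]) (.leaf [9,12,16,18,4,7,8,10,6,1,23,17,2,3,21,11,0,15,13,5,20,14,19,22])) (.node (.leaf [13,3,18,8,0,22,2,19,1,16,11,17,9,4,20,7,12,10,6,15,21,14,23,5]) (.leaf [9,12,16,4,2,11,0,10,1,3,23,19,18,6,14,5,13,15,8,7,21,20,22,17])))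 (.node (.node (.leaf [4,8,6,2,18,19,3,17,13,16,11,22,9,1,21,7,12,15,0,23,14,20,10,5]) (.leaf [8,4,6,13,0,19,1,22,2,16,5,17,9,3,20,7,12,10,18,23,14,21,15,11])) (.leaf [18,13,3,0,16,17,9,15,12,8,22,11,6,1,14,5,4,7,2,23,20,21,19,10]))) (.node (.node (.node (.leaf [13,18,3,9,0,23,2,19,1,4,11,7,8,16,21,17,6,10,12,5,20,14,22,15]) (.leaf [13,3,18,2,6,15,8,10,4,16,11,23,12,1,14,7,9,19,0,22,21,20,17,5])) (.leaf [4,8,6,16,1,7,2,15,0,3,17,22,13,12,14,23,18,11,9,19,20,21,10,5])) (.node (.node (.leaf [13,18,3,8,0,5,1,11,2,12,19,7,9,6,20,17,16,10,4,23,21,14,15,22]) (.leaf [1,0,2,13,16,19,9,23,12,8,22,7,4,18,14,5,6,11,3,15,21,20,17,10])) (.leaf [0,1,2,13,9,19,16,7,12,4,17,23,8,3,14,15,6,10,18,5,21,20,22,11])))))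

/-- Data. -/
def quartetElt_17 : BT (List ℕ) :=
  (.node quartetElt_15 quartetElt_16)

/-- Data. -/
def quartetElt_18 : BT (List ℕ) :=
  (.node (.node (.node (.node (.node (.leaf [18,3,13,9,2,10,1,22,0,6,7,5,4,16,21,19,8,15,12,11,20,14,17,23]) (.leaf [16,12,9,1,4,23,8,5,6,18,7,17,13,0,20,15,3,11,2,10,21,14,19,22])) (.node (.leaf [4,8,6,9,18,23,13,11,3,0,17,22,2,12,14,7,1,15,16,19,21,20,5,10]) (.leaf [12,16,9,18,1,15,0,17,2,6,19,11,8,13,21,23,4,22,3,10,14,20,5,7]))) (.node (.node (.leaf [2,0,1,6,13,23,18,15,3,16,5,10,12,8,21,11,9,19,4,22,20,14,17,7]) (.leaf [18,3,13,0,16,10,12,22,9,4,15,5,6,2,14,11,8,7,1,19,20,21,23,17])) (.leaf [12,9,16,18,1,7,2,19,0,4,17,23,8,3,21,11,6,22,13,5,14,20,10,15]))) (.node (.node (.node (.leaf [3,13,18,8,2,22,0,17,1,9,23,19,16,6,20,15,12,5,4,7,21,14,11,10]) (.leaf [9,12,16,6,1,7,2,15,0,13,10,22,3,8,14,11,18,23,4,5,21,20,17,19])) (.node (.leaf [0,1,2,8,13,5,18,7,3,12,17,11,9,4,21,19,16,10,6,15,20,14,23,22])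 (.leaf [0,2,1,16,18,11,3,17,13,8,10,15,6,9,20,22,4,7,12,23,21,14,19,5]))) (.node (.node (.leaf [3,18,13,16,8,11,6,23,4,0,17,22,2,12,21,10,1,5,9,19,14,20,15,7]) (.leaf [12,16,9,3,0,23,2,19,1,8,22,7,4,18,21,10,6,17,13,15,14,20,11,5])) (.leaf [6,4,8,0,18,10,3,23,13,12,19,15,16,2,21,22,9,7,1,5,14,20,11,17])))) (.node (.node (.node (.node (.leaf [3,13,18,12,0,22,2,5,1,6,23,10,4,9,21,7,8,17,16,15,20,14,11,19]) (.leaf [2,1,0,6,12,7,9,15,16,3,5,22,13,8,21,17,18,19,4,10,14,20,11,23])) (.node (.leaf [8,6,4,9,13,15,3,5,18,1,22,19,0,12,14,11,2,10,16,17,21,20,7,23]) (.leaf [1,2,0,3,9,17,16,11,12,8,22,15,6,18,14,10,4,23,13,7,21,20,19,5]))) (.node (.node (.leaf [12,9,16,3,4,5,6,19,8,1,22,15,0,18,21,11,2,17,13,7,20,14,10,23]) (.leaf [3,18,13,4,12,11,9,23,16,2,5,22,0,8,20,19,1,17,6,10,14,21,7,15])) (.leaf [4,6,8,16,1,5,0,17,2,18,15,23,13,9,14,22,3,11,12,10,20,21,19,7]))) (.node (.node (.node (.leaf [2,0,1,6,12,23,16,5,9,18,15,17,13,4,21,22,3,19,8,11,14,20,10,7])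 (.leaf [1,0,2,18,12,15,16,11,9,6,23,17,8,3,14,19,4,22,13,5,21,20,10,7])) (.leaf [13,3,18,4,16,15,12,19,9,0,10,5,1,8,20,7,2,11,6,22,14,21,23,17])) (.node (.node (.leaf [4,6,8,9,18,10,3,17,13,1,11,7,2,16,14,22,0,15,12,5,21,20,19,23]) (.leaf [0,1,2,12,4,19,8,10,6,18,7,11,3,16,20,15,13,17,9,5,14,21,23,22])) (.leaf [13,3,18,12,6,22,4,11,8,0,10,23,2,9,21,7,1,19,16,15,14,20,5,17])))))

/-- Data. -/
def quartetElt_19 : BT (List ℕ) :=
  (.node (.node (.node (.node (.node (.leaf [18,3,13,4,9,11,12,22,16,0,7,23,2,6,20,10,1,15,8,19,14,21,5,17]) (.leaf [0,2,1,4,12,11,9,10,16,18,7,19,3,6,21,22,13,17,8,23,14,20,5,15])) (.node (.leaf [18,3,13,16,0,11,2,15,1,8,22,17,6,12,21,10,4,7,9,19,20,14,23,5]) (.leaf [18,13,3,9,2,23,0,7,1,8,22,19,4,12,21,5,6,15,16,17,20,14,11,10]))) (.node (.node (.leaf [12,9,16,13,6,11,8,22,4,0,17,23,2,3,21,7,1,19,18,5,20,14,15,10]) (.leaf [1,2,0,4,13,17,18,22,3,9,23,19,16,6,21,10,12,11,8,7,20,14,5,15]))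 (.leaf [12,9,16,4,3,11,18,22,13,2,19,23,0,6,14,5,1,17,8,7,20,21,10,15]))) (.node (.node (.node (.leaf [4,8,6,18,9,7,12,17,16,1,11,10,2,13,20,23,0,15,3,19,21,14,5,22]) (.leaf [4,6,8,0,3,10,18,15,13,16,11,23,12,1,21,5,9,17,2,22,14,20,19,7])) (.node (.leaf [6,8,4,0,16,17,9,23,12,13,19,5,18,2,21,11,3,7,1,15,20,14,22,10]) (.leaf [3,13,18,1,9,22,16,5,12,4,17,10,6,0,14,15,8,23,2,7,20,21,19,11]))) (.node (.node (.leaf [2,0,1,13,6,11,8,5,4,9,15,7,12,18,14,23,16,19,3,22,20,21,17,10]) (.leaf [2,1,0,16,8,7,4,15,6,13,19,22,3,12,20,10,18,5,9,17,14,21,23,11])) (.leaf [8,4,6,9,13,23,18,22,3,2,5,11,0,16,14,19,1,10,12,7,21,20,17,15])))) (.node (.node (.node (.node (.leaf [9,16,12,18,2,22,0,10,1,6,23,5,4,3,21,19,8,15,13,17,14,20,11,7]) (.leaf [0,1,2,3,12,5,9,10,16,6,7,22,4,18,14,19,8,17,13,15,21,20,11,23])) (.node (.leaf [16,12,9,4,13,15,3,5,18,0,7,19,1,6,14,10,2,11,8,23,20,21,22,17]) (.leaf [0,2,1,13,9,11,12,17,16,6,7,15,8,18,14,23,4,10,3,22,21,20,5,19])))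 (.node (.node (.leaf [0,1,2,9,13,15,3,17,18,6,7,11,8,16,20,19,4,10,12,5,21,14,22,23]) (.leaf [3,13,18,9,6,15,8,5,4,0,17,19,1,12,21,7,2,23,16,22,14,20,11,10])) (.leaf [12,16,9,1,18,23,13,19,3,4,17,7,8,0,20,15,6,22,2,10,14,21,5,11]))) (.node (.node (.node (.leaf [2,0,1,8,16,22,9,15,12,13,19,7,3,6,21,11,18,5,4,23,14,20,17,10]) (.leaf [1,0,2,3,9,5,12,22,16,4,11,10,6,13,14,15,8,23,18,19,21,20,7,17])) (.leaf [2,1,0,13,6,10,4,15,8,16,5,23,12,3,14,7,9,19,18,17,20,21,22,11])) (.node (.node (.leaf [18,13,3,12,8,17,6,7,4,2,15,10,1,9,21,5,0,22,16,23,14,20,11,19]) (.leaf [8,4,6,0,9,7,12,22,16,3,5,15,13,2,21,23,18,10,1,19,20,14,11,17])) (.leaf [16,12,9,2,8,15,6,7,4,13,11,22,3,1,20,10,18,5,0,23,21,14,17,19])))))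

/-- Data. -/
def quartetElt_20 : BT (List ℕ) :=
  (.node quartetElt_18 quartetElt_19)

/-- Data. -/
def quartetElt_21 : BT (List ℕ) :=
  (.node quartetElt_17 quartetElt_20)

/-- Data. -/
def quartetElt_22 : BT (List ℕ) :=
  (.node (.node (.node (.node (.node (.leaf [1,2,0,13,4,10,6,23,8,12,22,15,16,18,14,17,9,11,3,7,20,21,5,19]) (.leaf [2,1,0,3,16,17,9,15,12,6,19,11,8,13,14,7,4,5,18,10,21,20,22,23])) (.node (.leaf [4,6,8,2,18,5,13,11,3,12,17,7,9,0,21,22,16,15,1,10,14,20,23,19]) (.leaf [4,8,6,1,13,23,18,15,3,12,17,10,16,0,21,19,9,11,2,7,14,20,5,22]))) (.node (.node (.leaf [4,8,6,12,0,19,1,11,2,18,15,10,3,9,14,7,13,17,16,23,20,21,5,22]) (.leaf [3,18,13,8,2,10,1,23,0,12,17,15,16,4,20,19,9,5,6,11,21,14,7,22])) (.leaf [0,2,1,12,4,22,6,7,8,13,10,15,3,9,20,11,18,17,16,23,14,21,5,19]))) (.node (.node (.node (.leaf [8,6,4,0,9,17,16,5,12,18,22,23,13,1,21,15,3,10,2,11,20,14,19,7]) (.leaf [1,0,2,6,3,19,18,22,13,16,11,17,9,4,21,5,12,23,8,15,20,14,10,7]))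 (.node (.leaf [8,6,4,9,0,15,1,22,2,3,5,7,13,16,14,17,18,10,12,11,20,21,19,23]) (.leaf [0,2,1,12,3,22,13,10,18,6,7,5,4,16,20,23,8,17,9,11,21,14,15,19]))) (.node (.node (.leaf [13,18,3,6,2,23,0,10,1,16,11,15,12,4,20,5,9,19,8,17,21,14,22,7]) (.leaf [6,8,4,12,2,17,1,23,0,18,7,5,13,16,14,15,3,19,9,11,20,21,10,22])) (.leaf [4,6,8,9,2,10,1,11,0,3,17,19,18,12,14,5,13,15,16,22,20,21,7,23])))) (.node (.node (.node (.node (.leaf [4,8,6,9,2,23,0,17,1,13,11,5,18,16,14,19,3,15,12,7,20,21,22,10]) (.leaf [12,16,9,8,1,10,2,19,0,3,17,11,18,4,14,23,13,22,6,15,21,20,7,5])) (.node (.leaf [3,13,18,9,1,15,0,17,2,8,5,11,6,16,21,22,4,23,12,7,20,14,19,10]) (.leaf [13,3,18,12,2,22,0,10,1,4,11,5,6,16,21,15,8,19,9,7,20,14,23,17]))) (.node (.node (.leaf [6,4,8,18,0,22,2,19,1,9,23,17,16,3,20,10,12,7,13,5,14,21,11,15]) (.leaf [9,12,16,4,18,11,3,23,13,0,10,22,2,8,14,7,1,15,6,5,20,21,19,17])) (.leaf [16,12,9,18,6,15,8,5,4,1,11,19,0,13,21,23,2,7,3,10,20,14,17,22])))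 (.node (.node (.node (.leaf [9,16,12,1,3,22,13,10,18,4,15,5,6,2,20,17,8,23,0,19,14,21,7,11]) (.leaf [13,3,18,1,4,22,6,19,8,9,10,17,16,0,14,15,12,11,2,7,21,20,5,23])) (.leaf [8,6,4,12,1,17,2,5,0,13,10,23,18,9,14,11,3,22,16,15,20,21,7,19])) (.node (.node (.leaf [18,13,3,16,6,5,4,15,8,1,22,19,0,12,21,23,2,7,9,17,14,20,10,11]) (.leaf [18,3,13,1,12,11,9,15,16,6,7,17,8,0,14,19,4,22,2,10,20,21,5,23])) (.leaf [18,3,13,8,12,10,16,7,9,2,15,17,1,4,20,19,0,22,6,11,14,21,23,5])))))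

/-- Data. -/
def quartetElt_23 : BT (List ℕ) :=
  (.node (.node (.node (.node (.node (.leaf [1,2,0,16,13,7,3,23,18,8,22,19,4,12,20,10,6,11,9,17,21,14,15,5]) (.leaf [8,4,6,16,3,7,13,10,18,1,22,17,2,12,14,23,0,5,9,19,21,20,15,11])) (.node (.leaf [2,0,1,12,6,22,4,15,8,3,5,7,13,16,20,23,18,19,9,11,14,21,10,17]) (.leaf [12,16,9,3,4,23,8,22,6,2,19,11,0,13,21,15,1,17,18,10,20,14,7,5]))) (.node (.node (.leaf [9,16,12,4,18,17,13,10,3,1,23,7,2,6,14,22,0,15,8,19,20,21,5,11]) (.leaf [16,9,12,0,18,17,13,11,3,8,5,15,6,2,20,22,4,7,1,19,14,21,23,10])) (.leaf [16,12,9,8,3,10,18,7,13,1,11,17,2,4,14,23,0,5,6,15,20,21,19,22]))) (.node (.node (.node (.leaf [1,2,0,18,8,7,4,11,6,9,23,5,12,3,14,10,16,22,13,17,20,21,19,15]) (.leaf [18,13,3,2,4,5,6,7,8,12,22,11,9,1,14,17,16,15,0,23,21,20,10,19])) (.node (.leaf [13,18,3,2,6,5,4,11,8,9,10,7,12,0,14,23,16,19,1,17,21,20,22,15]) (.leaf [2,1,0,18,9,7,12,19,16,8,5,23,4,3,14,10,6,15,13,17,21,20,11,22])))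 (.node (.node (.leaf [4,6,8,1,13,22,3,17,18,9,15,19,16,2,21,10,12,11,0,5,14,20,7,23]) (.leaf [2,0,1,8,3,22,13,19,18,9,15,17,16,4,21,23,12,5,6,11,20,14,7,10])) (.leaf [18,3,13,6,16,19,9,15,12,1,22,5,0,8,20,11,2,7,4,10,14,21,17,23])))) (.node (.node (.node (.node (.leaf [13,18,3,1,4,23,8,10,6,12,19,15,16,2,14,17,9,11,0,5,21,20,7,22]) (.leaf [2,1,0,9,18,10,3,5,13,6,19,22,4,12,20,7,8,15,16,17,21,14,11,23])) (.node (.leaf [6,8,4,3,9,17,16,7,12,2,19,10,1,13,20,15,0,23,18,11,21,14,22,5]) (.leaf [18,13,3,1,8,23,4,15,6,16,7,10,12,0,14,5,9,22,2,17,21,20,19,11]))) (.node (.node (.leaf [16,12,9,3,2,23,0,7,1,4,11,19,8,13,21,15,6,5,18,10,14,20,22,17]) (.leaf [6,8,4,9,1,15,0,7,2,13,19,22,3,12,14,11,18,23,16,17,20,21,5,10])) (.leaf [3,13,18,12,4,22,6,23,8,2,5,11,0,16,21,15,1,17,9,7,14,20,10,19]))) (.node (.node (.node (.leaf [9,16,12,8,13,22,3,23,18,2,15,11,0,4,14,19,1,10,6,17,20,21,7,5]) (.leaf [9,12,16,3,1,5,0,10,2,4,15,22,6,18,21,11,8,23,13,7,14,20,19,17]))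 (.leaf [2,0,1,4,18,11,3,5,13,12,19,7,9,6,21,22,16,15,8,23,20,14,10,17])) (.node (.node (.leaf [13,3,18,16,4,7,8,10,6,2,19,17,1,12,21,15,0,11,9,22,14,20,23,5]) (.leaf [12,16,9,0,3,10,18,22,13,6,19,5,4,2,20,23,8,17,1,15,14,21,11,7])) (.leaf [2,1,0,4,18,17,13,19,3,16,5,22,9,8,21,7,12,15,6,10,20,14,23,11])))))

/-- Data. -/
def quartetElt_24 : BT (List ℕ) :=
  (.node quartetElt_22 quartetElt_23)

/-- Data. -/
def quartetElt_25 : BT (List ℕ) :=
  (.node (.node (.node (.node (.node (.leaf [3,13,18,0,4,7,8,5,6,9,23,11,12,1,14,15,16,17,2,22,21,20,19,10]) (.leaf [6,8,4,3,1,17,2,19,0,16,7,22,9,18,20,11,12,23,13,15,14,21,10,5])) (.node (.leaf [6,4,8,18,16,22,9,23,12,2,19,11,0,13,20,5,1,7,3,10,21,14,17,15]) (.leaf [12,16,9,2,13,15,3,17,18,8,22,11,6,1,20,10,4,19,0,23,14,21,7,5]))) (.node (.node (.leaf [18,3,13,0,6,10,4,15,8,12,22,23,16,1,14,19,9,7,2,11,21,20,5,17]) (.leaf [4,6,8,18,2,22,0,17,1,16,11,19,9,13,20,5,12,15,3,10,14,21,23,7]))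 (.leaf [16,9,12,4,13,17,18,7,3,2,5,10,1,8,14,19,0,11,6,22,20,21,23,15]))) (.node (.node (.node (.leaf [13,3,18,9,8,15,6,19,4,1,11,5,0,16,21,22,2,10,12,7,14,20,17,23]) (.leaf [18,13,3,16,0,5,1,22,2,4,15,10,6,9,21,17,8,7,12,23,20,14,19,11])) (.node (.leaf [2,1,0,12,6,17,8,5,4,18,15,23,13,9,20,7,3,19,16,10,14,21,11,22]) (.leaf [16,9,12,3,2,17,1,11,0,6,7,15,8,18,21,19,4,5,13,22,14,20,10,23]))) (.node (.node (.leaf [13,18,3,4,16,17,9,10,12,2,19,7,1,6,20,5,0,11,8,23,14,21,22,15]) (.leaf [0,1,2,4,3,15,13,10,18,16,7,23,12,6,21,5,9,17,8,19,20,14,22,11])) (.leaf [4,8,6,0,3,7,13,11,18,9,15,5,12,2,21,23,16,17,1,19,14,20,22,10])))) (.node (.node (.node (.node (.leaf [12,9,16,6,13,7,3,17,18,1,22,10,2,8,14,11,0,19,4,5,20,21,15,23]) (.leaf [2,0,1,3,16,23,12,19,9,4,15,7,8,18,14,11,6,5,13,22,21,20,10,17])) (.node (.leaf [3,13,18,2,16,15,12,17,9,6,23,11,8,1,14,7,4,5,0,22,20,21,10,19]) (.leaf [16,9,12,4,1,17,2,5,0,18,7,23,13,6,14,22,3,11,8,19,21,20,10,15])))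 (.node (.node (.leaf [1,2,0,12,18,17,13,11,3,6,23,15,8,9,20,7,4,22,16,10,21,14,5,19]) (.leaf [2,1,0,9,4,10,6,19,8,3,5,11,18,16,20,17,13,15,12,7,14,21,22,23])) (.leaf [8,4,6,1,12,23,16,5,9,13,10,17,18,0,21,19,3,22,2,7,20,14,15,11]))) (.node (.node (.node (.leaf [8,6,4,16,2,11,0,10,1,18,22,19,3,12,14,15,13,5,9,17,20,21,23,7]) (.leaf [3,18,13,2,8,19,4,17,6,9,23,22,16,1,14,10,12,5,0,11,21,20,7,15])) (.leaf [1,0,2,12,8,19,4,11,6,3,23,10,18,9,20,5,13,22,16,15,14,21,7,17])) (.node (.node (.leaf [2,1,0,8,16,10,12,19,9,18,15,11,3,4,21,7,13,5,6,17,14,20,23,22]) (.leaf [16,9,12,8,3,22,13,11,18,0,7,23,2,6,14,17,1,5,4,19,20,21,15,10])) (.leaf [1,0,2,4,16,15,12,22,9,3,23,7,13,6,21,5,18,11,8,19,14,20,10,17])))))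

/-- Data. -/
def quartetElt_26 : BT (List ℕ) :=
  (.node (.node (.node (.node (.node (.leaf [12,9,16,0,3,7,13,19,18,8,22,23,4,1,20,5,6,17,2,11,14,21,15,10]) (.leaf [3,13,18,6,1,7,2,5,0,12,17,11,9,4,20,22,16,23,8,15,21,14,10,19])) (.node (.leaf [9,12,16,0,8,7,4,15,6,3,23,22,13,1,20,5,18,10,2,11,21,14,19,17]) (.leaf [12,16,9,13,2,10,1,22,0,4,17,5,6,3,21,15,8,19,18,23,14,20,7,11]))) (.node (.node (.leaf [16,12,9,6,18,23,13,11,3,2,5,22,0,8,14,15,1,7,4,10,20,21,17,19]) (.leaf [8,4,6,2,16,19,9,10,12,18,22,11,3,1,21,7,13,5,0,23,20,14,17,15])) (.leaf [6,8,4,2,12,15,16,7,9,3,23,22,13,1,21,17,18,19,0,11,20,14,10,5]))) (.node (.node (.node (.leaf [3,13,18,4,12,15,16,5,9,1,23,19,0,6,20,22,2,17,8,7,14,21,10,11]) (.leaf [12,16,9,2,6,15,8,22,4,3,17,7,13,0,20,23,18,19,1,10,21,14,11,5])) (.node (.leaf [3,18,13,1,9,11,12,17,16,8,5,15,6,2,14,10,4,23,0,19,20,21,7,22]) (.leaf [16,9,12,1,13,22,3,5,18,6,7,10,4,0,20,19,8,11,2,17,14,21,15,23])))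 (.node (.node (.leaf [4,8,6,16,13,7,3,17,18,2,15,10,1,9,14,19,0,11,12,23,21,20,22,5]) (.leaf [0,2,1,13,8,11,6,7,4,12,17,5,9,3,14,22,16,10,18,23,20,21,15,19])) (.leaf [8,6,4,2,16,15,12,22,9,13,10,7,3,0,21,11,18,5,1,17,20,14,23,19])))) (.node (.node (.node (.node (.leaf [2,0,1,12,13,22,3,5,18,4,15,10,6,9,20,11,8,19,16,23,21,14,7,17]) (.leaf [0,2,1,4,3,11,18,7,13,9,10,5,12,8,21,23,16,17,6,22,20,14,19,15])) (.node (.leaf [0,1,2,6,16,19,9,10,12,3,17,11,18,4,21,5,13,7,8,15,14,20,22,23]) (.leaf [8,4,6,3,2,23,0,10,1,12,22,15,16,18,20,19,9,5,13,7,14,21,11,17]))) (.node (.node (.leaf [13,18,3,8,9,5,12,19,16,1,11,15,0,4,20,23,2,10,6,17,14,21,7,22]) (.leaf [13,18,3,16,4,5,6,19,8,0,10,15,1,9,21,17,2,11,12,23,14,20,22,7])) (.leaf [18,13,3,1,12,23,16,7,9,4,15,19,8,2,14,17,6,22,0,5,20,21,10,11]))) (.node (.node (.node (.leaf [12,9,16,1,18,11,3,17,13,6,19,15,8,2,20,7,4,22,0,5,14,21,10,23]) (.leaf [12,9,16,0,4,7,8,22,6,13,19,15,3,2,20,11,18,17,1,5,21,14,23,10]))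 (.leaf [0,1,2,6,18,19,3,17,13,9,10,22,16,8,21,15,12,7,4,5,20,14,11,23])) (.node (.node (.leaf [16,9,12,6,0,19,1,11,2,3,5,10,18,8,14,17,13,7,4,22,21,20,15,23]) (.leaf [1,0,2,13,4,19,8,22,6,9,23,17,16,3,14,15,12,11,18,5,20,21,7,10])) (.leaf [4,8,6,13,16,19,9,15,12,0,17,5,1,3,20,7,2,11,18,23,21,14,22,10])))))

/-- Data. -/
def quartetElt_27 : BT (List ℕ) :=
  (.node quartetElt_25 quartetElt_26)

/-- Data. -/
def quartetElt_28 : BT (List ℕ) :=
  (.node quartetElt_24 quartetElt_27)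

/-- Data. -/
def quartetElt_29 : BT (List ℕ) :=
  (.node quartetElt_21 quartetElt_28)

/-- Data. -/
def quartetElt_30 : BT (List ℕ) :=
  (.node quartetElt_14 quartetElt_29)

/-- Data. -/
def quartetElt : BT (List ℕ) :=
  quartetElt_30

/-- Data. -/
def quartetPar_0 : BT (ℕ × ℕ) :=
  (.node (.node (.node (.node (.node (.node (.leaf (0, 0)) (.leaf (1, 173))) (.node (.leaf (0, 75)) (.leaf (1, 301)))) (.node (.node (.leaf (0, 35)) (.leaf (0, 226))) (.leaf (0, 122)))) (.node (.node (.node (.leaf (0, 17)) (.leaf (1, 198))) (.node (.leaf (0, 97)) (.leaf (0, 358)))) (.node (.node (.leaf (1, 54)) (.leaf (0, 259))) (.leaf (0, 144))))) (.node (.node (.node (.node (.leaf (1, 8)) (.leaf (0, 183))) (.node (.leaf (1, 85)) (.leaf (1, 326)))) (.node (.node (.leaf (0, 45)) (.leaf (1, 242))) (.leaf (0, 131)))) (.node (.node (.node (.leaf (0, 26)) (.leaf (1, 212))) (.leaf (1, 110))) (.node (.node (.leaf (0, 64))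 (.leaf (1, 282))) (.leaf (1, 157)))))) (.node (.node (.node (.node (.node (.leaf (0, 4)) (.leaf (0, 179))) (.node (.leaf (0, 81)) (.leaf (0, 314)))) (.node (.node (.leaf (1, 39)) (.leaf (0, 232))) (.leaf (0, 127)))) (.node (.node (.node (.leaf (1, 21)) (.leaf (0, 204))) (.node (.leaf (0, 102)) (.leaf (0, 379)))) (.node (.node (.leaf (0, 59)) (.leaf (1, 269))) (.leaf (0, 151))))) (.node (.node (.node (.node (.leaf (0, 13)) (.leaf (1, 188))) (.node (.leaf (1, 90)) (.leaf (0, 344)))) (.node (.node (.leaf (1, 49)) (.leaf (1, 252))) (.leaf (1, 136)))) (.node (.node (.node (.leaf (0, 31)) (.leaf (0, 220))) (.leaf (0, 117))) (.node (.node (.leaf (0, 69)) (.leaf (1, 289))) (.leaf (1, 165)))))))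

/-- Data. -/
def quartetPar_1 : BT (ℕ × ℕ) :=
  (.node (.node (.node (.node (.node (.node (.leaf (0, 2)) (.leaf (0, 176))) (.node (.leaf (1, 77)) (.leaf (1, 306)))) (.node (.node (.leaf (0, 37)) (.leaf (1, 229))) (.leaf (0, 124)))) (.node (.node (.node (.leaf (1, 19)) (.leaf (0, 201))) (.node (.leaf (0, 99)) (.leaf (1, 368)))) (.node (.node (.leaf (1, 56)) (.leaf (1, 264))) (.leaf (1, 148))))) (.node (.node (.node (.node (.leaf (0, 11)) (.leaf (0, 186))) (.node (.leaf (1, 88)) (.leaf (1, 333)))) (.node (.node (.leaf (1, 47)) (.leaf (0, 247))) (.leaf (0, 133)))) (.node (.node (.node (.leaf (1, 28)) (.leaf (0, 217))) (.leaf (1, 113))) (.node (.node (.leaf (0, 67)) (.leaf (1, 285))) (.leaf (1, 161)))))) (.node (.node (.node (.node (.node (.leaf (0, 6)) (.leaf (0, 181))) (.node (.leaf (1, 83)) (.leaf (1, 321)))) (.node (.node (.leaf (1, 42)) (.leaf (0, 238))) (.leaf (0, 129)))) (.node (.node (.node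 (.leaf (1, 23)) (.leaf (0, 209))) (.node (.leaf (0, 106)) (.leaf (1, 387)))) (.node (.node (.leaf (1, 61)) (.leaf (0, 273))) (.leaf (0, 154))))) (.node (.node (.node (.node (.leaf (0, 15)) (.leaf (0, 193))) (.node (.leaf (0, 94)) (.leaf (0, 353)))) (.node (.node (.leaf (0, 52)) (.leaf (1, 255))) (.leaf (1, 138)))) (.node (.node (.node (.leaf (0, 33)) (.leaf (0, 223))) (.leaf (1, 119))) (.node (.node (.leaf (0, 72)) (.leaf (0, 296))) (.leaf (0, 170)))))))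

/-- Data. -/
def quartetPar_2 : BT (ℕ × ℕ) :=
  (.node quartetPar_0 quartetPar_1)

/-- Data. -/
def quartetPar_3 : BT (ℕ × ℕ) :=
  (.node (.node (.node (.node (.node (.node (.leaf (0, 1)) (.leaf (0, 175))) (.node (.leaf (0, 76)) (.leaf (1, 304)))) (.node (.node (.leaf (0, 36)) (.leaf (1, 227))) (.leaf (0, 123)))) (.node (.node (.node (.leaf (1, 18)) (.leaf (0, 200))) (.node (.leaf (0, 98)) (.leaf (1, 361)))) (.node (.node (.leaf (1, 55)) (.leaf (0, 262))) (.leaf (0, 145))))) (.node (.node (.node (.node (.leaf (1, 9)) (.leaf (0, 184))) (.node (.leaf (0, 87)) (.leaf (0, 329)))) (.node (.node (.leaf (0, 46)) (.leaf (1, 245))) (.leaf (0, 132)))) (.node (.node (.node (.leaf (1, 27)) (.leaf (1, 215))) (.leaf (1, 112))) (.node (.node (.leaf (1, 65)) (.leaf (0, 284))) (.leaf (0, 159)))))) (.node (.node (.node (.node (.node (.leaf (0, 5)) (.leaf (0, 180))) (.node (.leaf (0, 82)) (.leaf (0, 318)))) (.node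 (.node (.leaf (0, 41)) (.leaf (0, 236))) (.leaf (0, 128)))) (.node (.node (.node (.leaf (1, 22)) (.leaf (1, 207))) (.node (.leaf (0, 104)) (.leaf (0, 385)))) (.node (.node (.leaf (0, 60)) (.leaf (0, 271))) (.leaf (1, 152))))) (.node (.node (.node (.node (.leaf (0, 14)) (.leaf (1, 189))) (.node (.leaf (0, 92)) (.leaf (1, 350)))) (.node (.node (.leaf (0, 51)) (.leaf (0, 254))) (.leaf (1, 137)))) (.node (.node (.node (.leaf (0, 32)) (.leaf (0, 221))) (.leaf (0, 118))) (.node (.node (.leaf (1, 70)) (.leaf (0, 292))) (.leaf (1, 167)))))))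

/-- Data. -/
def quartetPar_4 : BT (ℕ × ℕ) :=
  (.node (.node (.node (.node (.node (.node (.leaf (0, 3)) (.leaf (0, 177))) (.node (.leaf (1, 79)) (.leaf (1, 311)))) (.node (.node (.leaf (1, 38)) (.leaf (0, 231))) (.leaf (1, 125)))) (.node (.node (.node (.leaf (1, 20)) (.leaf (1, 202))) (.node (.leaf (0, 101)) (.leaf (1, 376)))) (.node (.node (.leaf (0, 58)) (.leaf (0, 266))) (.leaf (0, 150))))) (.node (.node (.node (.node (.leaf (0, 12)) (.leaf (1, 187))) (.node (.leaf (1, 89)) (.leaf (0, 339)))) (.node (.node (.leaf (1, 48)) (.leaf (0, 250))) (.leaf (0, 135)))) (.node (.node (.node (.leaf (1, 29)) (.leaf (1, 218))) (.leaf (0, 115))) (.node (.node (.leaf (0, 68)) (.leaf (1, 286))) (.leaf (0, 164)))))) (.node (.node (.node (.node (.node (.leaf (1, 7)) (.leaf (0, 182))) (.node (.leaf (1, 84)) (.leaf (1, 323)))) (.node (.node (.leaf (0, 44)) (.leaf (0, 241))) (.leaf (0, 130)))) (.node (.node (.node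 (.leaf (0, 25)) (.leaf (1, 210))) (.node (.leaf (1, 107)) (.leaf (1, 411)))) (.node (.node (.leaf (1, 62)) (.leaf (1, 280))) (.leaf (0, 155))))) (.node (.node (.node (.node (.leaf (0, 16)) (.leaf (1, 195))) (.node (.leaf (0, 95)) (.leaf (0, 354)))) (.node (.node (.leaf (0, 53)) (.leaf (1, 256))) (.leaf (0, 142)))) (.node (.node (.node (.leaf (0, 34)) (.leaf (0, 225))) (.leaf (0, 121))) (.node (.node (.leaf (0, 73)) (.leaf (0, 299))) (.leaf (1, 172)))))))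

/-- Data. -/
def quartetPar_5 : BT (ℕ × ℕ) :=
  (.node quartetPar_3 quartetPar_4)

/-- Data. -/
def quartetPar_6 : BT (ℕ × ℕ) :=
  (.node quartetPar_2 quartetPar_5)

/-- Data. -/
def quartetPar_7 : BT (ℕ × ℕ) :=
  (.node (.node (.node (.node (.node (.node (.leaf (1, 0)) (.leaf (0, 174))) (.node (.leaf (1, 75)) (.leaf (0, 303)))) (.node (.node (.leaf (1, 35)) (.leaf (1, 226))) (.leaf (1, 122)))) (.node (.node (.node (.leaf (0, 18)) (.leaf (0, 199))) (.node (.leaf (1, 97)) (.leaf (1, 358)))) (.node (.node (.leaf (0, 55)) (.leaf (1, 261))) (.leaf (1, 144))))) (.node (.node (.node (.node (.leaf (0, 9)) (.leaf (1, 183))) (.node (.leaf (1, 86)) (.leaf (1, 327)))) (.node (.node (.leaf (1, 45)) (.leaf (0, 245))) (.leaf (1, 131)))) (.node (.node (.node (.leaf (1, 26)) (.leaf (1, 213))) (.leaf (0, 111))) (.node (.node (.leaf (1, 64)) (.leaf (0, 283))) (.leaf (0, 158)))))) (.node (.node (.node (.node (.node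 (.leaf (1, 4)) (.leaf (1, 179))) (.node (.leaf (1, 81)) (.leaf (1, 314)))) (.node (.node (.leaf (0, 40)) (.leaf (1, 234))) (.leaf (1, 127)))) (.node (.node (.node (.leaf (0, 22)) (.leaf (0, 206))) (.node (.leaf (1, 103)) (.leaf (0, 382)))) (.node (.node (.leaf (1, 59)) (.leaf (0, 270))) (.leaf (0, 152))))) (.node (.node (.node (.node (.leaf (1, 13)) (.leaf (0, 189))) (.node (.leaf (1, 91)) (.leaf (1, 348)))) (.node (.node (.leaf (0, 50)) (.leaf (1, 253))) (.leaf (0, 137)))) (.node (.node (.node (.leaf (1, 31)) (.leaf (1, 220))) (.leaf (1, 117))) (.node (.node (.leaf (1, 69)) (.leaf (1, 290))) (.leaf (1, 166)))))))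

/-- Data. -/
def quartetPar_8 : BT (ℕ × ℕ) :=
  (.node (.node (.node (.node (.node (.node (.leaf (1, 2)) (.leaf (1, 176))) (.node (.leaf (0, 79)) (.leaf (1, 307)))) (.node (.node (.leaf (0, 38)) (.leaf (1, 230))) (.leaf (0, 125)))) (.node (.node (.node (.leaf (0, 20)) (.leaf (1, 201))) (.node (.leaf (0, 100)) (.leaf (0, 375)))) (.node (.node (.leaf (0, 57)) (.leaf (1, 265))) (.leaf (0, 149))))) (.node (.node (.node (.node (.leaf (1, 11)) (.leaf (1, 186))) (.node (.leaf (0, 89)) (.leaf (1, 338)))) (.node (.node (.leaf (0, 48)) (.leaf (1, 247))) (.leaf (0, 134)))) (.node (.node (.node (.leaf (0, 29)) (.leaf (1, 217))) (.leaf (0, 114))) (.node (.node (.leaf (1, 67)) (.leaf (0, 286))) (.leaf (0, 163)))))) (.node (.node (.node (.node (.node (.leaf (0, 7)) (.leaf (1, 181))) (.node (.leaf (0, 84)) (.leaf (0, 323)))) (.node (.node (.leaf (0, 43)) (.leaf (0, 239))) (.leaf (1, 129)))) (.node (.node (.node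 (.leaf (0, 24)) (.leaf (0, 210))) (.node (.leaf (1, 106)) (.leaf (0, 388)))) (.node (.node (.leaf (0, 62)) (.leaf (1, 277))) (.leaf (1, 154))))) (.node (.node (.node (.node (.leaf (1, 15)) (.leaf (0, 195))) (.node (.leaf (1, 94)) (.leaf (1, 353)))) (.node (.node (.leaf (1, 52)) (.leaf (0, 256))) (.leaf (1, 140)))) (.node (.node (.node (.leaf (1, 33)) (.leaf (1, 223))) (.leaf (0, 120))) (.node (.node (.leaf (1, 72)) (.leaf (1, 296))) (.leaf (1, 170)))))))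

/-- Data. -/
def quartetPar_9 : BT (ℕ × ℕ) :=
  (.node quartetPar_7 quartetPar_8)

/-- Data. -/
def quartetPar_10 : BT (ℕ × ℕ) :=
  (.node (.node (.node (.node (.node (.node (.leaf (1, 1)) (.leaf (1, 175))) (.node (.leaf (0, 77)) (.leaf (0, 306)))) (.node (.node (.leaf (1, 36)) (.leaf (0, 229))) (.leaf (1, 123)))) (.node (.node (.node (.leaf (0, 19)) (.leaf (1, 200))) (.node (.leaf (1, 98)) (.leaf (1, 367)))) (.node (.node (.leaf (0, 56)) (.leaf (1, 263))) (.leaf (1, 146))))) (.node (.node (.node (.node (.leaf (0, 10)) (.leaf (0, 185))) (.node (.leaf (0, 88)) (.leaf (0, 332)))) (.node (.node (.leaf (1, 46)) (.leaf (1, 246))) (.leaf (1, 132)))) (.node (.node (.node (.leaf (0, 28)) (.leaf (0, 216))) (.leaf (0, 113))) (.node (.node (.leaf (0, 66)) (.leaf (0, 285))) (.leaf (0, 160)))))) (.node (.node (.node (.node (.node (.leaf (1, 5)) (.leaf (1, 180))) (.node (.leaf (0, 83)) (.leaf (0, 320)))) (.node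 (.node (.leaf (1, 41)) (.leaf (1, 237))) (.leaf (1, 128)))) (.node (.node (.node (.leaf (0, 23)) (.leaf (0, 208))) (.node (.leaf (0, 105)) (.leaf (1, 385)))) (.node (.node (.leaf (0, 61)) (.leaf (1, 272))) (.leaf (1, 153))))) (.node (.node (.node (.node (.leaf (1, 14)) (.leaf (1, 191))) (.node (.leaf (1, 93)) (.leaf (1, 352)))) (.node (.node (.leaf (1, 51)) (.leaf (0, 255))) (.leaf (0, 138)))) (.node (.node (.node (.leaf (1, 32)) (.leaf (0, 222))) (.leaf (0, 119))) (.node (.node (.leaf (1, 71)) (.leaf (0, 295))) (.leaf (0, 168)))))))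

/-- Data. -/
def quartetPar_11 : BT (ℕ × ℕ) :=
  (.node (.node (.node (.node (.node (.node (.leaf (1, 3)) (.leaf (1, 178))) (.node (.leaf (0, 80)) (.leaf (1, 313)))) (.node (.node (.leaf (0, 39)) (.leaf (1, 231))) (.leaf (0, 126)))) (.node (.node (.node (.leaf (0, 21)) (.leaf (1, 203))) (.node (.leaf (1, 101)) (.leaf (1, 378)))) (.node (.node (.leaf (1, 58)) (.leaf (0, 268))) (.leaf (1, 150))))) (.node (.node (.node (.node (.leaf (1, 12)) (.leaf (0, 188))) (.node (.leaf (0, 90)) (.leaf (0, 340)))) (.node (.node (.leaf (0, 49)) (.leaf (1, 250))) (.leaf (1, 135)))) (.node (.node (.node (.leaf (0, 30)) (.leaf (0, 219))) (.leaf (1, 115))) (.node (.node (.leaf (1, 68)) (.leaf (0, 287))) (.leaf (1, 164)))))) (.node (.node (.node (.node (.node (.leaf (0, 8)) (.leaf (1, 182))) (.node (.leaf (0, 85)) (.leaf (0, 325)))) (.node (.node (.leaf (1, 44)) (.leaf (1, 241))) (.leaf (1, 130)))) (.node (.node (.node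 (.leaf (1, 25)) (.leaf (0, 211))) (.leaf (1, 108))) (.node (.node (.leaf (0, 63)) (.leaf (0, 282))) (.leaf (1, 156))))) (.node (.node (.node (.node (.leaf (1, 16)) (.leaf (0, 196))) (.node (.leaf (0, 96)) (.leaf (0, 356)))) (.node (.node (.leaf (0, 54)) (.leaf (0, 257))) (.leaf (0, 143)))) (.node (.node (.node (.leaf (1, 34)) (.leaf (1, 225))) (.leaf (1, 121))) (.node (.node (.leaf (1, 74)) (.leaf (1, 299))) (.leaf (0, 173)))))))

/-- Data. -/
def quartetPar_12 : BT (ℕ × ℕ) :=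
  (.node quartetPar_10 quartetPar_11)

/-- Data. -/
def quartetPar_13 : BT (ℕ × ℕ) :=
  (.node quartetPar_9 quartetPar_12)

/-- Data. -/
def quartetPar_14 : BT (ℕ × ℕ) :=
  (.node quartetPar_6 quartetPar_13)

/-- Data. -/
def quartetPar : BT (ℕ × ℕ) :=
  quartetPar_14

/-- Data. -/
def quartetMulA_0 : BT (ℕ) :=
  (.node (.node (.node (.node (.node (.node (.node (.leaf 1) (.leaf 350)) (.node (.leaf 203) (.leaf 399))) (.node (.node (.leaf 113) (.leaf 396)) (.leaf 124))) (.node (.node (.node (.leaf 59) (.leaf 168)) (.node (.leaf 244) (.leaf 402))) (.node (.node (.leaf 160) (.leaf 138)) (.leaf 260)))) (.node (.node (.node (.node (.leaf 31) (.leaf 328)) (.node (.leaf 225) (.leaf 429))) (.node (.node (.leaf 136) (.leaf 364)) (.leaf 300))) (.node (.node (.node (.leaf 86) (.leaf 170)) (.leaf 261)) (.node (.node (.leaf 4) (.leaf 411)) (.leaf 71))))) (.node (.node (.node (.node (.node (.leaf 16) (.leaf 251))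 (.node (.leaf 204) (.leaf 292))) (.node (.node (.leaf 125) (.leaf 122)) (.leaf 291))) (.node (.node (.node (.leaf 74) (.leaf 381)) (.node (.leaf 252) (.leaf 283))) (.node (.node (.leaf 171) (.leaf 37)) (.leaf 329)))) (.node (.node (.node (.node (.leaf 46) (.leaf 340)) (.node (.leaf 234) (.leaf 68))) (.node (.node (.leaf 148) (.leaf 409)) (.leaf 308))) (.node (.node (.node (.leaf 100) (.leaf 351)) (.leaf 275)) (.node (.node (.leaf 190) (.leaf 274)) (.leaf 303)))))) (.node (.node (.node (.node (.node (.node (.leaf 9) (.leaf 270)) (.node (.leaf 211) (.leaf 430))) (.node (.node (.leaf 119) (.leaf 354)) (.leaf 288))) (.node (.node (.node (.leaf 67) (.leaf 379)) (.node (.leaf 247) (.leaf 295))) (.node (.node (.leaf 166) (.leaf 416)) (.leaf 294)))) (.node (.node (.node (.node (.leaf 38) (.leaf 19)) (.node (.leaf 62) (.leaf 358))) (.node (.node (.leaf 142) (.leaf 408)) (.leaf 202))) (.node (.node (.node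 (.leaf 93) (.leaf 349)) (.leaf 267)) (.node (.node (.leaf 162) (.leaf 272)) (.leaf 15))))) (.node (.node (.node (.node (.node (.leaf 23) (.leaf 360)) (.node (.leaf 206) (.leaf 50))) (.node (.node (.leaf 131) (.leaf 404)) (.leaf 297))) (.node (.node (.node (.leaf 79) (.leaf 216)) (.node (.leaf 128) (.leaf 281))) (.node (.node (.leaf 156) (.leaf 82)) (.leaf 331)))) (.node (.node (.node (.node (.leaf 52) (.leaf 371)) (.node (.leaf 235) (.leaf 424))) (.node (.node (.leaf 155) (.leaf 45)) (.leaf 313))) (.node (.node (.node (.leaf 107) (.leaf 337)) (.leaf 280)) (.node (.node (.leaf 197) (.leaf 232)) (.leaf 184)))))))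

/-- Data. -/
def quartetMulA_1 : BT (ℕ) :=
  (.node (.node (.node (.node (.node (.node (.node (.leaf 5) (.leaf 336)) (.node (.leaf 207) (.leaf 310))) (.node (.node (.leaf 116) (.leaf 249)) (.leaf 208))) (.node (.node (.node (.leaf 63) (.leaf 339)) (.node (.leaf 48) (.leaf 428))) (.node (.node (.leaf 163) (.leaf 415)) (.leaf 321)))) (.node (.node (.node (.node (.leaf 34) (.leaf 264)) (.node (.leaf 192) (.leaf 314))) (.node (.node (.leaf 139) (.leaf 115)) (.leaf 302))) (.node (.node (.node (.leaf 90) (.leaf 388)) (.leaf 133)) (.node (.node (.leaf 182) (.leaf 419)) (.leaf 80))))) (.node (.node (.node (.node (.node (.leaf 20) (.leaf 359)) (.node (.leaf 220) (.leaf 181))) (.node (.node (.leaf 2) (.leaf 287)) (.leaf 177))) (.node (.node (.node (.leaf 53) (.leaf 24)) (.node (.leaf 253) (.leaf 219))) (.node (.node (.leaf 173) (.leaf 278)) (.leaf 320)))) (.node (.node (.node (.node (.leaf 49) (.leaf 368))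 (.node (.leaf 237) (.leaf 366))) (.node (.node (.leaf 152) (.leaf 345)) (.leaf 255))) (.node (.node (.node (.leaf 103) (.leaf 393)) (.leaf 277)) (.node (.node (.leaf 193) (.leaf 89)) (.leaf 343)))))) (.node (.node (.node (.node (.node (.node (.leaf 13) (.leaf 355)) (.node (.leaf 214) (.leaf 423))) (.node (.node (.leaf 97) (.leaf 289)) (.leaf 101))) (.node (.node (.node (.leaf 70) (.leaf 30)) (.node (.leaf 228) (.leaf 73))) (.node (.node (.leaf 169) (.leaf 417)) (.leaf 254)))) (.node (.node (.node (.node (.leaf 42) (.leaf 143)) (.node (.leaf 231) (.leaf 326))) (.node (.node (.leaf 109) (.leaf 311)) (.leaf 12))) (.node (.node (.node (.leaf 96) (.leaf 120)) (.leaf 271)) (.node (.node (.leaf 187) (.leaf 250)) (.leaf 179))))) (.node (.node (.node (.node (.node (.leaf 27) (.leaf 362)) (.node (.leaf 223) (.leaf 153))) (.node (.node (.leaf 104) (.leaf 35)) (.leaf 298))) (.node (.node (.node (.leaf 83)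 (.leaf 84)) (.node (.leaf 258) (.leaf 406))) (.node (.node (.leaf 26) (.leaf 307)) (.leaf 333)))) (.node (.node (.node (.node (.leaf 56) (.leaf 374)) (.node (.leaf 242) (.leaf 418))) (.node (.node (.leaf 157) (.leaf 130)) (.leaf 316))) (.node (.node (.node (.leaf 110) (.leaf 395)) (.leaf 248)) (.node (.node (.leaf 200) (.leaf 426)) (.leaf 347)))))))

/-- Data. -/
def quartetMulA_2 : BT (ℕ) :=
  (.node quartetMulA_0 quartetMulA_1)

/-- Data. -/
def quartetMulA_3 : BT (ℕ) :=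
  (.node (.node (.node (.node (.node (.node (.node (.leaf 3) (.leaf 352)) (.node (.leaf 205) (.leaf 427))) (.node (.node (.leaf 92) (.leaf 212)) (.leaf 285))) (.node (.node (.node (.leaf 61) (.leaf 306)) (.node (.leaf 10) (.leaf 186))) (.node (.node (.leaf 161) (.leaf 413)) (.leaf 319)))) (.node (.node (.node (.node (.leaf 33) (.leaf 365)) (.node (.leaf 227) (.leaf 221))) (.node (.node (.leaf 137) (.leaf 377)) (.leaf 301))) (.node (.node (.node (.leaf 88) (.leaf 284)) (.leaf 263)) (.node (.node (.leaf 180) (.leaf 401)) (.leaf 335))))) (.node (.node (.node (.node (.node (.leaf 18) (.leaf 55)) (.node (.leaf 218) (.leaf 421))) (.node (.node (.leaf 127) (.leaf 403)) (.leaf 293))) (.node (.node (.node (.leaf 75) (.leaf 158)) (.node (.leaf 8) (.leaf 431))) (.node (.node (.leaf 172) (.leaf 299)) (.leaf 305)))) (.node (.node (.node (.node (.leaf 47) (.leaf 318)) (.node (.leaf 126) (.leaf 199))) (.node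 (.node (.leaf 150) (.leaf 229)) (.leaf 309))) (.node (.node (.node (.leaf 102) (.leaf 367)) (.leaf 276)) (.node (.node (.leaf 191) (.leaf 385)) (.leaf 325)))))) (.node (.node (.node (.node (.node (.node (.leaf 11) (.leaf 85)) (.node (.leaf 213) (.leaf 390))) (.node (.node (.leaf 121) (.leaf 400)) (.leaf 51))) (.node (.node (.node (.leaf 69) (.leaf 375)) (.node (.leaf 114) (.leaf 356))) (.node (.node (.leaf 167) (.leaf 392)) (.leaf 324)))) (.node (.node (.node (.node (.leaf 40) (.leaf 332)) (.node (.leaf 230) (.leaf 151))) (.node (.node (.leaf 144) (.leaf 394)) (.leaf 145))) (.node (.node (.node (.leaf 95) (.leaf 175)) (.leaf 269)) (.node (.node (.leaf 185) (.leaf 382)) (.leaf 338))))) (.node (.node (.node (.node (.node (.leaf 25) (.leaf 164)) (.node (.leaf 87) (.leaf 412))) (.node (.node (.leaf 132) (.leaf 118)) (.leaf 94))) (.node (.node (.node (.leaf 81) (.leaf 60)) (.node (.leaf 256) (.leaf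 279))) (.node (.node (.leaf 66) (.leaf 245)) (.leaf 64)))) (.node (.node (.node (.node (.leaf 54) (.leaf 372)) (.node (.leaf 41) (.leaf 217))) (.node (.node (.leaf 141) (.leaf 194)) (.leaf 315))) (.node (.node (.node (.leaf 108) (.leaf 210)) (.leaf 282)) (.node (.node (.leaf 198) (.leaf 135)) (.leaf 77)))))))

/-- Data. -/
def quartetMulA_4 : BT (ℕ) :=
  (.node (.node (.node (.node (.node (.node (.node (.leaf 7) (.leaf 353)) (.node (.leaf 209) (.leaf 378))) (.node (.node (.leaf 117) (.leaf 398)) (.leaf 286))) (.node (.node (.node (.leaf 65) (.leaf 323)) (.node (.leaf 246) (.leaf 397))) (.node (.node (.leaf 165) (.leaf 149)) (.leaf 111)))) (.node (.node (.node (.node (.leaf 36) (.leaf 196)) (.node (.leaf 28) (.leaf 420))) (.node (.node (.leaf 140) (.leaf 407)) (.leaf 304))) (.node (.node (.node (.leaf 91) (.leaf 361)) (.leaf 265)) (.node (.node (.leaf 183) (.leaf 405)) (.leaf 22))))) (.node (.node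 (.node (.node (.node (.leaf 21) (.leaf 154)) (.node (.leaf 174) (.leaf 414))) (.node (.node (.leaf 129) (.leaf 389)) (.leaf 32))) (.node (.node (.node (.leaf 78) (.leaf 383)) (.node (.leaf 240) (.leaf 222))) (.node (.node (.leaf 76) (.leaf 99)) (.leaf 17)))) (.node (.node (.node (.node (.leaf 0) (.leaf 370)) (.node (.leaf 239) (.leaf 342))) (.node (.node (.leaf 146) (.leaf 262)) (.leaf 312))) (.node (.node (.node (.leaf 105) (.leaf 384)) (.leaf 266)) (.node (.node (.leaf 195) (.leaf 425)) (.leaf 330)))))) (.node (.node (.node (.node (.node (.node (.leaf 14) (.leaf 226)) (.node (.leaf 215) (.leaf 236))) (.node (.node (.leaf 43) (.leaf 387)) (.leaf 290))) (.node (.node (.node (.leaf 72) (.leaf 380)) (.node (.leaf 39) (.leaf 391))) (.node (.node (.leaf 6) (.leaf 238)) (.leaf 327)))) (.node (.node (.node (.node (.leaf 44) (.leaf 322)) (.node (.leaf 233) (.leaf 344))) (.node (.node (.leaf 147) (.leaf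 123)) (.leaf 241))) (.node (.node (.node (.leaf 98) (.leaf 189)) (.leaf 273)) (.node (.node (.leaf 188) (.leaf 422)) (.leaf 341))))) (.node (.node (.node (.node (.node (.leaf 29) (.leaf 363)) (.node (.leaf 224) (.leaf 369))) (.node (.node (.leaf 134) (.leaf 296)) (.leaf 106))) (.node (.node (.node (.leaf 58) (.leaf 386)) (.node (.leaf 259) (.leaf 357))) (.node (.node (.leaf 178) (.leaf 257)) (.leaf 334)))) (.node (.node (.node (.node (.leaf 57) (.leaf 376)) (.node (.leaf 243) (.leaf 346))) (.node (.node (.leaf 159) (.leaf 373)) (.leaf 317))) (.node (.node (.node (.leaf 112) (.leaf 176)) (.leaf 268)) (.node (.node (.leaf 201) (.leaf 410)) (.leaf 348)))))))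

/-- Data. -/
def quartetMulA_5 : BT (ℕ) :=
  (.node quartetMulA_3 quartetMulA_4)

/-- Data. -/
def quartetMulA_6 : BT (ℕ) :=
  (.node quartetMulA_2 quartetMulA_5)

/-- Data. -/
def quartetMulA : BT (ℕ) :=
  quartetMulA_6

/-- Data. -/
def quartetMulB_0 : BT (ℕ) :=
  (.node (.node (.node (.node (.node (.node (.node (.leaf 2) (.leaf 351)) (.node (.leaf 204) (.leaf 207))) (.node (.node (.leaf 114) (.leaf 243)) (.leaf 163))) (.node (.node (.node (.leaf 60) (.leaf 321)) (.node (.leaf 239) (.leaf 408))) (.node (.node (.leaf 67) (.leaf 412)) (.leaf 246)))) (.node (.node (.node (.node (.leaf 32) (.leaf 364)) (.node (.leaf 226) (.leaf 426))) (.node (.node (.leaf 57) (.leaf 157)) (.leaf 75))) (.node (.node (.node (.leaf 87) (.leaf 387)) (.leaf 262)) (.node (.node (.leaf 179) (.leaf 421)) (.leaf 93))))) (.node (.node (.node (.node (.node (.leaf 17) (.leaf 357)) (.node (.leaf 217) (.leaf 335))) (.node (.node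 (.leaf 126) (.leaf 319)) (.leaf 292))) (.node (.node (.node (.leaf 61) (.leaf 382)) (.node (.leaf 56) (.leaf 290))) (.node (.node (.leaf 31) (.leaf 400)) (.leaf 275)))) (.node (.node (.node (.node (.leaf 5) (.leaf 367)) (.node (.leaf 235) (.leaf 383))) (.node (.node (.leaf 149) (.leaf 166)) (.leaf 79))) (.node (.node (.node (.leaf 101) (.leaf 363)) (.leaf 65)) (.node (.node (.leaf 36) (.leaf 423)) (.leaf 98)))))) (.node (.node (.node (.node (.node (.node (.leaf 10) (.leaf 107)) (.node (.leaf 212) (.leaf 302))) (.node (.node (.leaf 120) (.leaf 370)) (.leaf 70))) (.node (.node (.node (.leaf 68) (.leaf 347)) (.node (.leaf 248) (.leaf 280))) (.node (.node (.leaf 78) (.leaf 407)) (.leaf 86)))) (.node (.node (.node (.node (.leaf 39) (.leaf 341)) (.node (.leaf 229) (.leaf 368))) (.node (.node (.leaf 143) (.leaf 224)) (.leaf 305))) (.node (.node (.node (.leaf 94) (.leaf 333)) (.leaf 268)) (.node (.node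 (.leaf 102) (.leaf 253)) (.leaf 180))))) (.node (.node (.node (.node (.node (.leaf 24) (.leaf 244)) (.node (.leaf 222) (.leaf 430))) (.node (.node (.leaf 21) (.leaf 386)) (.leaf 74))) (.node (.node (.node (.leaf 80) (.leaf 165)) (.node (.leaf 255) (.leaf 301))) (.node (.node (.leaf 176) (.leaf 182)) (.leaf 90)))) (.node (.node (.node (.node (.leaf 53) (.leaf 258)) (.node (.leaf 240) (.leaf 417))) (.node (.node (.leaf 27) (.leaf 410)) (.leaf 314))) (.node (.node (.node (.leaf 16) (.leaf 195)) (.leaf 281)) (.node (.node (.leaf 38) (.leaf 247)) (.leaf 345)))))))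

/-- Data. -/
def quartetMulB_1 : BT (ℕ) :=
  (.node (.node (.node (.node (.node (.node (.node (.leaf 6) (.leaf 191)) (.node (.leaf 208) (.leaf 237))) (.node (.node (.leaf 18) (.leaf 144)) (.leaf 69))) (.node (.node (.node (.leaf 64) (.leaf 378)) (.node (.leaf 54) (.leaf 265))) (.node (.node (.leaf 164) (.leaf 371)) (.leaf 322)))) (.node (.node (.node (.node (.leaf 35) (.leaf 317)) (.node (.leaf 228) (.leaf 422))) (.node (.node (.leaf 23) (.leaf 406)) (.leaf 303))) (.node (.node (.node (.leaf 13) (.leaf 389)) (.leaf 264)) (.node (.node (.leaf 34) (.leaf 293)) (.leaf 337))))) (.node (.node (.node (.node (.node (.leaf 1) (.leaf 112)) (.node (.leaf 221) (.leaf 220))) (.node (.node (.leaf 128) (.leaf 315)) (.leaf 295))) (.node (.node (.node (.leaf 77) (.leaf 353)) (.node (.leaf 254) (.leaf 360))) (.node (.node (.leaf 174) (.leaf 242)) (.leaf 330)))) (.node (.node (.node (.node (.leaf 50) (.leaf 369))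 (.node (.leaf 238) (.leaf 379))) (.node (.node (.leaf 153) (.leaf 372)) (.leaf 311))) (.node (.node (.node (.leaf 104) (.leaf 394)) (.leaf 278)) (.node (.node (.leaf 194) (.leaf 424)) (.leaf 344)))))) (.node (.node (.node (.node (.node (.node (.leaf 0) (.leaf 108)) (.node (.leaf 209) (.leaf 215))) (.node (.node (.leaf 123) (.leaf 401)) (.leaf 289))) (.node (.node (.node (.leaf 71) (.leaf 273)) (.node (.leaf 250) (.leaf 327))) (.node (.node (.leaf 159) (.leaf 418)) (.leaf 326)))) (.node (.node (.node (.node (.leaf 43) (.leaf 117)) (.node (.leaf 232) (.leaf 413))) (.node (.node (.leaf 146) (.leaf 380)) (.leaf 256))) (.node (.node (.node (.leaf 97) (.leaf 136)) (.leaf 272)) (.node (.node (.leaf 96) (.leaf 291)) (.leaf 340))))) (.node (.node (.node (.node (.node (.leaf 28) (.leaf 113)) (.node (.leaf 72) (.leaf 427))) (.node (.node (.leaf 63) (.leaf 286)) (.leaf 169))) (.node (.node (.node (.leaf 84)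 (.leaf 343)) (.node (.leaf 59) (.leaf 425))) (.node (.node (.leaf 177) (.leaf 329)) (.leaf 91)))) (.node (.node (.node (.node (.leaf 7) (.leaf 375)) (.node (.leaf 52) (.leaf 298))) (.node (.node (.leaf 158) (.leaf 411)) (.leaf 190))) (.node (.node (.node (.leaf 111) (.leaf 297)) (.leaf 140)) (.node (.node (.leaf 142) (.leaf 203)) (.leaf 103)))))))

/-- Data. -/
def quartetMulB_2 : BT (ℕ) :=
  (.node quartetMulB_0 quartetMulB_1)

/-- Data. -/
def quartetMulB_3 : BT (ℕ) :=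
  (.node (.node (.node (.node (.node (.node (.node (.leaf 4) (.leaf 331)) (.node (.leaf 206) (.leaf 428))) (.node (.node (.leaf 115) (.leaf 397)) (.leaf 110))) (.node (.node (.node (.leaf 62) (.leaf 377)) (.node (.leaf 245) (.leaf 352))) (.node (.node (.leaf 162) (.leaf 414)) (.leaf 320)))) (.node (.node (.node (.node (.leaf 3) (.leaf 201)) (.node (.leaf 47) (.leaf 230))) (.node (.node (.leaf 138) (.leaf 362)) (.leaf 147))) (.node (.node (.node (.leaf 89) (.leaf 132)) (.leaf 193)) (.node (.node (.leaf 181) (.leaf 381)) (.leaf 336))))) (.node (.node (.node (.node (.node (.leaf 19) (.leaf 358)) (.node (.leaf 219) (.leaf 252))) (.node (.node (.leaf 20) (.leaf 277)) (.leaf 294))) (.node (.node (.node (.leaf 76) (.leaf 223)) (.node (.leaf 129) (.leaf 396))) (.node (.node (.leaf 83) (.leaf 419)) (.leaf 312)))) (.node (.node (.node (.node (.leaf 48) (.leaf 267)) (.node (.leaf 236) (.leaf 415))) (.node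 (.node (.leaf 151) (.leaf 393)) (.leaf 310))) (.node (.node (.node (.leaf 44) (.leaf 392)) (.leaf 271)) (.node (.node (.leaf 192) (.leaf 198)) (.leaf 300)))))) (.node (.node (.node (.node (.node (.node (.leaf 12) (.leaf 354)) (.node (.leaf 42) (.leaf 213))) (.node (.node (.leaf 122) (.leaf 148)) (.leaf 185))) (.node (.node (.node (.leaf 9) (.leaf 324)) (.node (.leaf 249) (.leaf 404))) (.node (.node (.leaf 168) (.leaf 178)) (.leaf 325)))) (.node (.node (.node (.node (.leaf 41) (.leaf 366)) (.node (.leaf 95) (.leaf 308))) (.node (.node (.leaf 145) (.leaf 395)) (.leaf 306))) (.node (.node (.node (.leaf 14) (.leaf 374)) (.leaf 270)) (.node (.node (.leaf 186) (.leaf 359)) (.leaf 339))))) (.node (.node (.node (.node (.node (.leaf 26) (.leaf 361)) (.node (.leaf 105) (.leaf 288))) (.node (.node (.leaf 133) (.leaf 405)) (.leaf 137))) (.node (.node (.node (.leaf 82) (.leaf 385)) (.node (.leaf 257) (.leaf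 304))) (.node (.node (.leaf 40) (.leaf 398)) (.leaf 332)))) (.node (.node (.node (.node (.leaf 55) (.leaf 373)) (.node (.leaf 241) (.leaf 338))) (.node (.node (.leaf 156) (.leaf 172)) (.leaf 81))) (.node (.node (.node (.leaf 109) (.leaf 183)) (.leaf 283)) (.node (.node (.leaf 199) (.leaf 282)) (.leaf 346)))))))

/-- Data. -/
def quartetMulB_4 : BT (ℕ) :=
  (.node (.node (.node (.node (.node (.node (.node (.leaf 8) (.leaf 167)) (.node (.leaf 210) (.leaf 429))) (.node (.node (.leaf 118) (.leaf 399)) (.leaf 287))) (.node (.node (.node (.leaf 66) (.leaf 309)) (.node (.leaf 121) (.leaf 269))) (.node (.node (.leaf 29) (.leaf 376)) (.leaf 323)))) (.node (.node (.node (.node (.leaf 37) (.leaf 150)) (.node (.leaf 134) (.leaf 409))) (.node (.node (.leaf 141) (.leaf 161)) (.leaf 152))) (.node (.node (.node (.leaf 92) (.leaf 390)) (.leaf 266)) (.node (.node (.leaf 184) (.leaf 261)) (.leaf 225))))) (.node (.node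 (.node (.node (.node (.leaf 22) (.leaf 188)) (.node (.leaf 187) (.leaf 276))) (.node (.node (.leaf 130) (.leaf 173)) (.leaf 296))) (.node (.node (.node (.leaf 11) (.leaf 384)) (.node (.leaf 160) (.leaf 365))) (.node (.node (.leaf 175) (.leaf 233)) (.leaf 211)))) (.node (.node (.node (.node (.leaf 51) (.leaf 119)) (.node (.leaf 125) (.leaf 431))) (.node (.node (.leaf 154) (.leaf 200)) (.leaf 205))) (.node (.node (.node (.leaf 106) (.leaf 234)) (.leaf 279)) (.node (.node (.leaf 196) (.leaf 348)) (.leaf 259)))))) (.node (.node (.node (.node (.node (.node (.leaf 15) (.leaf 356)) (.node (.leaf 216) (.leaf 218))) (.node (.node (.leaf 124) (.leaf 402)) (.leaf 155))) (.node (.node (.node (.leaf 73) (.leaf 127)) (.node (.leaf 251) (.leaf 355))) (.node (.node (.leaf 170) (.leaf 285)) (.leaf 328)))) (.node (.node (.node (.node (.leaf 45) (.leaf 139)) (.node (.leaf 49) (.leaf 263))) (.node (.node (.leaf 25)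 (.leaf 388)) (.leaf 307))) (.node (.node (.node (.leaf 99) (.leaf 391)) (.leaf 274)) (.node (.node (.leaf 189) (.leaf 334)) (.leaf 342))))) (.node (.node (.node (.node (.node (.leaf 30) (.leaf 197)) (.node (.leaf 46) (.leaf 227))) (.node (.node (.leaf 135) (.leaf 313)) (.leaf 299))) (.node (.node (.node (.leaf 85) (.leaf 131)) (.node (.leaf 260) (.leaf 350))) (.node (.node (.leaf 33) (.leaf 420)) (.leaf 171)))) (.node (.node (.node (.node (.leaf 58) (.leaf 316)) (.node (.leaf 116) (.leaf 403))) (.node (.node (.leaf 88) (.leaf 214)) (.leaf 318))) (.node (.node (.node (.leaf 100) (.leaf 231)) (.leaf 284)) (.node (.node (.leaf 202) (.leaf 416)) (.leaf 349)))))))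

/-- Data. -/
def quartetMulB_5 : BT (ℕ) :=
  (.node quartetMulB_3 quartetMulB_4)

/-- Data. -/
def quartetMulB_6 : BT (ℕ) :=
  (.node quartetMulB_2 quartetMulB_5)

/-- Data. -/
def quartetMulB : BT (ℕ) :=
  quartetMulB_6

/-- Data. -/
def quartetOrd_0 : BT (ℕ) :=
  (.node (.node (.node (.node (.node (.node (.node (.leaf 0) (.leaf 414)) (.node (.leaf 138) (.leaf 91))) (.node (.node (.leaf 308) (.leaf 399)) (.leaf 24))) (.node (.node (.node (.leaf 72) (.leaf 15)) (.node (.leaf 327) (.leaf 411))) (.node (.node (.leaf 388) (.leaf 121)) (.leaf 90)))) (.node (.node (.node (.node (.leaf 116) (.leaf 51)) (.node (.leaf 301) (.leaf 1))) (.node (.node (.leaf 312) (.leaf 393)) (.leaf 355))) (.node (.node (.node (.leaf 383) (.leaf 197)) (.leaf 185)) (.node (.node (.leaf 86) (.leaf 407)) (.leaf 158))))) (.node (.node (.node (.node (.node (.leaf 300) (.leaf 252)) (.node (.leaf 323) (.leaf 244))) (.node (.node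 (.leaf 104) (.leaf 313)) (.leaf 297))) (.node (.node (.node (.leaf 291) (.leaf 41)) (.node (.leaf 76) (.leaf 200))) (.node (.node (.leaf 329) (.leaf 310)) (.leaf 324)))) (.node (.node (.node (.node (.leaf 280) (.leaf 128)) (.node (.leaf 227) (.leaf 5))) (.node (.node (.leaf 14) (.leaf 27)) (.leaf 381))) (.node (.node (.node (.leaf 333) (.leaf 357)) (.leaf 10)) (.node (.node (.leaf 147) (.leaf 401)) (.leaf 55)))))) (.node (.node (.node (.node (.node (.node (.leaf 159) (.leaf 409)) (.node (.leaf 264) (.leaf 105))) (.node (.node (.leaf 426) (.leaf 282)) (.leaf 83))) (.node (.node (.node (.leaf 342) (.leaf 49)) (.node (.leaf 387) (.leaf 376))) (.node (.node (.leaf 167) (.leaf 52)) (.leaf 345)))) (.node (.node (.node (.node (.leaf 287) (.leaf 112)) (.node (.leaf 218) (.leaf 114))) (.node (.node (.leaf 109) (.leaf 370)) (.leaf 230))) (.node (.node (.node (.leaf 352) (.leaf 260)) (.leaf 38)) (.node (.node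 (.leaf 271) (.leaf 288)) (.leaf 179))))) (.node (.node (.node (.node (.node (.leaf 240) (.leaf 425)) (.node (.leaf 424) (.leaf 71))) (.node (.node (.leaf 53) (.leaf 430)) (.leaf 263))) (.node (.node (.node (.leaf 416) (.leaf 134)) (.node (.leaf 67) (.leaf 356))) (.node (.node (.leaf 7) (.leaf 384)) (.leaf 92)))) (.node (.node (.node (.node (.leaf 419) (.leaf 192)) (.node (.leaf 150) (.leaf 141))) (.node (.node (.leaf 394) (.leaf 266)) (.leaf 298))) (.node (.node (.node (.leaf 17) (.leaf 422)) (.leaf 180)) (.node (.node (.leaf 16) (.leaf 261)) (.leaf 143)))))))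

/-- Data. -/
def quartetOrd_1 : BT (ℕ) :=
  (.node (.node (.node (.node (.node (.node (.node (.leaf 359) (.leaf 315)) (.node (.leaf 311) (.leaf 129))) (.node (.node (.leaf 3) (.leaf 389)) (.leaf 64))) (.node (.node (.node (.leaf 368) (.leaf 304)) (.node (.leaf 231) (.leaf 299))) (.node (.node (.leaf 343) (.leaf 57)) (.leaf 234)))) (.node (.node (.node (.node (.leaf 361) (.leaf 144)) (.node (.leaf 107) (.leaf 238))) (.node (.node (.leaf 139) (.leaf 403)) (.leaf 321))) (.node (.node (.node (.leaf 374) (.leaf 379)) (.leaf 60)) (.node (.node (.leaf 118) (.leaf 127)) (.leaf 163))))) (.node (.node (.node (.node (.node (.leaf 2) (.leaf 236)) (.node (.leaf 232) (.leaf 34))) (.node (.node (.leaf 58) (.leaf 330)) (.leaf 207))) (.node (.node (.node (.leaf 408) (.leaf 32)) (.node (.leaf 19) (.leaf 397))) (.node (.node (.leaf 366) (.leaf 318)) (.leaf 35)))) (.node (.node (.node (.node (.leaf 338) (.leaf 44))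 (.node (.leaf 178) (.leaf 169))) (.node (.node (.leaf 220) (.leaf 171)) (.leaf 215))) (.node (.node (.node (.leaf 360) (.leaf 290)) (.leaf 206)) (.node (.node (.leaf 21) (.leaf 148)) (.leaf 204)))))) (.node (.node (.node (.node (.node (.node (.leaf 156) (.leaf 293)) (.node (.leaf 306) (.leaf 12))) (.node (.node (.leaf 43) (.leaf 307)) (.leaf 173))) (.node (.node (.node (.leaf 274) (.leaf 96)) (.node (.leaf 228) (.leaf 326))) (.node (.node (.leaf 189) (.leaf 74)) (.leaf 396)))) (.node (.node (.node (.node (.leaf 404) (.leaf 94)) (.node (.leaf 378) (.leaf 268))) (.node (.node (.leaf 28) (.leaf 66)) (.leaf 202))) (.node (.node (.node (.leaf 48) (.leaf 303)) (.leaf 354)) (.node (.node (.leaf 37) (.leaf 292)) (.leaf 80))))) (.node (.node (.node (.node (.node (.leaf 258) (.leaf 132)) (.node (.leaf 402) (.leaf 162))) (.node (.node (.leaf 363) (.leaf 153)) (.leaf 347))) (.node (.node (.node (.leaf 183)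 (.leaf 9)) (.node (.leaf 209) (.leaf 295))) (.node (.node (.leaf 78) (.leaf 423)) (.leaf 226)))) (.node (.node (.node (.node (.leaf 367) (.leaf 29)) (.node (.leaf 213) (.leaf 257))) (.node (.node (.leaf 277) (.leaf 99)) (.leaf 415))) (.node (.node (.node (.leaf 8) (.leaf 275)) (.leaf 154)) (.node (.node (.leaf 410) (.leaf 4)) (.leaf 390)))))))

/-- Data. -/
def quartetOrd_2 : BT (ℕ) :=
  (.node quartetOrd_0 quartetOrd_1)

/-- Data. -/
def quartetOrd_3 : BT (ℕ) :=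
  (.node (.node (.node (.node (.node (.node (.node (.leaf 285) (.leaf 392)) (.node (.leaf 175) (.leaf 26))) (.node (.node (.leaf 87) (.leaf 278)) (.leaf 296))) (.node (.node (.node (.leaf 421) (.leaf 319)) (.node (.leaf 56) (.leaf 223))) (.node (.node (.leaf 119) (.leaf 95)) (.leaf 237)))) (.node (.node (.node (.node (.leaf 284) (.leaf 110)) (.node (.leaf 348) (.leaf 372))) (.node (.node (.leaf 40) (.leaf 39)) (.leaf 98))) (.node (.node (.node (.leaf 377) (.leaf 62)) (.leaf 111)) (.node (.node (.leaf 151) (.leaf 199)) (.leaf 130))))) (.node (.node (.node (.node (.node (.leaf 93) (.leaf 73)) (.node (.leaf 186) (.leaf 225))) (.node (.node (.leaf 279) (.leaf 353)) (.leaf 350))) (.node (.node (.node (.leaf 417) (.leaf 205)) (.node (.leaf 137) (.leaf 358))) (.node (.node (.leaf 365) (.leaf 331)) (.leaf 70)))) (.node (.node (.node (.node (.leaf 406) (.leaf 214)) (.node (.leaf 117) (.leaf 382))) (.node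 (.node (.leaf 122) (.leaf 193)) (.leaf 46))) (.node (.node (.node (.leaf 25) (.leaf 395)) (.leaf 346)) (.node (.node (.leaf 349) (.leaf 224)) (.leaf 262)))))) (.node (.node (.node (.node (.node (.node (.leaf 191) (.leaf 339)) (.node (.leaf 341) (.leaf 79))) (.node (.node (.leaf 11) (.leaf 84)) (.leaf 135))) (.node (.node (.node (.leaf 317) (.leaf 146)) (.node (.leaf 100) (.leaf 164))) (.node (.node (.leaf 314) (.leaf 208)) (.leaf 20)))) (.node (.node (.node (.node (.leaf 269) (.leaf 170)) (.node (.leaf 131) (.leaf 235))) (.node (.node (.leaf 233) (.leaf 123)) (.leaf 246))) (.node (.node (.node (.leaf 309) (.leaf 221)) (.leaf 229)) (.node (.node (.leaf 33) (.leaf 375)) (.leaf 254))))) (.node (.node (.node (.node (.node (.leaf 249) (.leaf 281)) (.node (.leaf 250) (.leaf 325))) (.node (.node (.leaf 69) (.leaf 188)) (.leaf 155))) (.node (.node (.node (.leaf 198) (.leaf 172)) (.node (.leaf 145) (.leaf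 125))) (.node (.node (.leaf 328) (.leaf 362)) (.leaf 177)))) (.node (.node (.node (.node (.leaf 195) (.leaf 88)) (.node (.leaf 294) (.leaf 216))) (.node (.node (.leaf 251) (.leaf 103)) (.leaf 335))) (.node (.node (.node (.leaf 182) (.leaf 168)) (.leaf 320)) (.node (.node (.leaf 82) (.leaf 54)) (.leaf 369)))))))

/-- Data. -/
def quartetOrd_4 : BT (ℕ) :=
  (.node (.node (.node (.node (.node (.node (.node (.leaf 6) (.leaf 270)) (.node (.leaf 210) (.leaf 157))) (.node (.node (.leaf 272) (.leaf 120)) (.leaf 152))) (.node (.node (.node (.leaf 142) (.leaf 63)) (.node (.leaf 30) (.leaf 337))) (.node (.node (.leaf 283) (.leaf 174)) (.leaf 113)))) (.node (.node (.node (.node (.leaf 316) (.leaf 160)) (.node (.leaf 81) (.leaf 13))) (.node (.node (.leaf 31) (.leaf 245)) (.leaf 334))) (.node (.node (.node (.leaf 412) (.leaf 428)) (.leaf 45)) (.node (.node (.leaf 47) (.leaf 184)) (.leaf 149))))) (.node (.node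 (.node (.node (.node (.leaf 373) (.leaf 386)) (.node (.leaf 273) (.leaf 211))) (.node (.node (.leaf 187) (.leaf 181)) (.leaf 242))) (.node (.node (.node (.leaf 289) (.leaf 23)) (.node (.leaf 133) (.leaf 286))) (.node (.node (.leaf 427) (.leaf 431)) (.leaf 212)))) (.node (.node (.node (.node (.leaf 420) (.leaf 59)) (.node (.leaf 276) (.leaf 336))) (.node (.node (.leaf 259) (.leaf 322)) (.leaf 140))) (.node (.node (.node (.leaf 22) (.leaf 344)) (.leaf 241)) (.node (.node (.leaf 219) (.leaf 124)) (.leaf 256)))))) (.node (.node (.node (.node (.node (.node (.leaf 165) (.leaf 196)) (.node (.leaf 68) (.leaf 203))) (.node (.node (.leaf 400) (.leaf 222)) (.leaf 136))) (.node (.node (.node (.leaf 247) (.leaf 85)) (.node (.leaf 89) (.leaf 340))) (.node (.node (.leaf 302) (.leaf 351)) (.leaf 267)))) (.node (.node (.node (.node (.leaf 126) (.leaf 75)) (.node (.leaf 166) (.leaf 243))) (.node (.node (.leaf 194)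 (.leaf 305)) (.leaf 65))) (.node (.node (.node (.leaf 405) (.leaf 391)) (.leaf 97)) (.node (.node (.leaf 42) (.leaf 418)) (.leaf 106))))) (.node (.node (.node (.node (.node (.leaf 102) (.leaf 18)) (.node (.leaf 101) (.leaf 371))) (.node (.node (.leaf 61) (.leaf 332)) (.leaf 265))) (.node (.node (.node (.leaf 380) (.leaf 77)) (.node (.leaf 255) (.leaf 115))) (.node (.node (.leaf 429) (.leaf 248)) (.leaf 239)))) (.node (.node (.node (.node (.leaf 413) (.leaf 176)) (.node (.leaf 36) (.leaf 217))) (.node (.node (.leaf 398) (.leaf 108)) (.leaf 161))) (.node (.node (.node (.leaf 364) (.leaf 201)) (.leaf 50)) (.node (.node (.leaf 385) (.leaf 253)) (.leaf 190)))))))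

/-- Data. -/
def quartetOrd_5 : BT (ℕ) :=
  (.node quartetOrd_3 quartetOrd_4)

/-- Data. -/
def quartetOrd_6 : BT (ℕ) :=
  (.node quartetOrd_2 quartetOrd_5)

/-- Data. -/
def quartetOrd : BT (ℕ) :=
  quartetOrd_6

/-- Data. -/
def quartetPos_0 : BT (ℕ) :=
  (.node (.node (.node (.node (.node (.node (.node (.leaf 0) (.leaf 251)) (.node (.leaf 280) (.leaf 364))) (.node (.node (.leaf 194) (.leaf 189)) (.leaf 284))) (.node (.node (.node (.leaf 298) (.leaf 372)) (.node (.leaf 275) (.leaf 44))) (.node (.node (.leaf 294) (.leaf 52)) (.leaf 377)))) (.node (.node (.node (.node (.leaf 124) (.leaf 67)) (.node (.leaf 274) (.leaf 71))) (.node (.node (.leaf 246) (.leaf 411)) (.leaf 357))) (.node (.node (.node (.leaf 54) (.leaf 290)) (.leaf 287)) (.node (.node (.leaf 276) (.leaf 34)) (.leaf 12))))) (.node (.node (.node (.node (.node (.leaf 62) (.leaf 132)) (.node (.leaf 199) (.leaf 257))) (.node (.node (.leaf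 32) (.leaf 109)) (.leaf 424))) (.node (.node (.node (.leaf 81) (.leaf 193)) (.node (.leaf 317) (.leaf 140))) (.node (.node (.leaf 72) (.leaf 58)) (.leaf 138)))) (.node (.node (.node (.node (.leaf 192) (.leaf 24)) (.node (.leaf 195) (.leaf 42))) (.node (.node (.leaf 285) (.leaf 315)) (.leaf 413))) (.node (.node (.node (.leaf 161) (.leaf 80)) (.leaf 371)) (.node (.node (.leaf 323) (.leaf 420)) (.leaf 367)))))) (.node (.node (.node (.node (.node (.node (.leaf 382) (.leaf 308)) (.node (.leaf 270) (.leaf 96))) (.node (.node (.leaf 135) (.leaf 232)) (.leaf 263))) (.node (.node (.node (.leaf 159) (.leaf 374)) (.node (.leaf 421) (.leaf 27))) (.node (.node (.leaf 165) (.leaf 428)) (.leaf 166)))) (.node (.node (.node (.node (.leaf 229) (.leaf 155)) (.node (.leaf 378) (.leaf 22))) (.node (.node (.leaf 325) (.leaf 423)) (.leaf 235))) (.node (.node (.node (.leaf 356) (.leaf 64)) (.leaf 188)) (.node (.node (.leaf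 16) (.leaf 401)) (.leaf 392))))) (.node (.node (.node (.node (.node (.leaf 390) (.leaf 406)) (.node (.leaf 219) (.leaf 230))) (.node (.node (.leaf 168) (.leaf 335)) (.leaf 250))) (.node (.node (.node (.leaf 282) (.leaf 8)) (.node (.leaf 301) (.leaf 307))) (.node (.node (.leaf 351) (.leaf 63)) (.leaf 266)))) (.node (.node (.node (.node (.leaf 86) (.leaf 17)) (.node (.leaf 6) (.leaf 51))) (.node (.node (.leaf 236) (.leaf 145)) (.leaf 90))) (.node (.node (.node (.leaf 178) (.leaf 19)) (.leaf 333)) (.node (.node (.leaf 379) (.leaf 47)) (.leaf 264)))))))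

/-- Data. -/
def quartetPos_1 : BT (ℕ) :=
  (.node (.node (.node (.node (.node (.node (.node (.leaf 10) (.leaf 14)) (.node (.leaf 241) (.leaf 267))) (.node (.node (.leaf 342) (.leaf 347)) (.leaf 87))) (.node (.node (.node (.leaf 394) (.leaf 314)) (.node (.leaf 398) (.leaf 375))) (.node (.node (.leaf 209) (.leaf 182)) (.leaf 238)))) (.node (.node (.node (.node (.leaf 271) (.leaf 38)) (.node (.leaf 293) (.leaf 142))) (.node (.node (.leaf 125) (.leaf 26)) (.leaf 131))) (.node (.node (.node (.leaf 191) (.leaf 134)) (.leaf 154)) (.node (.node (.leaf 404) (.leaf 340)) (.leaf 203))))) (.node (.node (.node (.node (.node (.leaf 184) (.leaf 348)) (.node (.leaf 128) (.leaf 92))) (.node (.node (.leaf 358) (.leaf 330)) (.leaf 214))) (.node (.node (.node (.leaf 119) (.leaf 220)) (.node (.leaf 277) (.leaf 68))) (.node (.node (.leaf 247) (.leaf 365)) (.leaf 226)))) (.node (.node (.node (.node (.leaf 385) (.leaf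 324)) (.node (.leaf 190) (.leaf 126))) (.node (.node (.leaf 224) (.leaf 185)) (.leaf 148))) (.node (.node (.node (.leaf 74) (.leaf 101)) (.leaf 137)) (.node (.node (.leaf 89) (.leaf 150)) (.leaf 141)))))) (.node (.node (.node (.node (.node (.node (.leaf 3) (.leaf 249)) (.node (.leaf 300) (.leaf 254))) (.node (.node (.leaf 233) (.leaf 422)) (.leaf 45))) (.node (.node (.node (.leaf 180) (.leaf 157)) (.node (.leaf 151) (.leaf 316))) (.node (.node (.leaf 15) (.leaf 425)) (.leaf 212)))) (.node (.node (.node (.node (.leaf 59) (.leaf 321)) (.node (.leaf 156) (.leaf 25))) (.node (.node (.leaf 112) (.leaf 36)) (.leaf 281))) (.node (.node (.node (.leaf 381) (.leaf 360)) (.leaf 61)) (.node (.node (.leaf 114) (.leaf 50)) (.leaf 213))))) (.node (.node (.node (.node (.node (.leaf 88) (.leaf 259)) (.node (.leaf 35) (.leaf 95))) (.node (.node (.leaf 110) (.leaf 211)) (.leaf 186))) (.node (.node (.node (.leaf 217)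 (.leaf 103)) (.node (.leaf 355) (.leaf 332))) (.node (.node (.leaf 273) (.leaf 106)) (.leaf 402)))) (.node (.node (.node (.node (.leaf 163) (.leaf 427)) (.node (.leaf 240) (.leaf 256))) (.node (.node (.leaf 278) (.leaf 201)) (.leaf 327))) (.node (.node (.node (.leaf 305) (.leaf 362)) (.leaf 255)) (.node (.node (.leaf 23) (.leaf 409)) (.leaf 245)))))))

/-- Data. -/
def quartetPos_2 : BT (ℕ) :=
  (.node quartetPos_0 quartetPos_1)

/-- Data. -/
def quartetPos_3 : BT (ℕ) :=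
  (.node (.node (.node (.node (.node (.node (.node (.leaf 400) (.leaf 414)) (.node (.leaf 386) (.leaf 127))) (.node (.node (.leaf 215) (.leaf 210)) (.leaf 345))) (.node (.node (.node (.leaf 117) (.leaf 43)) (.node (.leaf 223) (.leaf 41))) (.node (.node (.leaf 183) (.leaf 329)) (.leaf 393)))) (.node (.node (.node (.node (.leaf 60) (.leaf 139)) (.node (.leaf 173) (.leaf 376))) (.node (.node (.leaf 147) (.leaf 419)) (.leaf 174))) (.node (.node (.node (.leaf 292) (.leaf 343)) (.leaf 237)) (.node (.node (.leaf 227) (.leaf 253)) (.leaf 187))))) (.node (.node (.node (.node (.node (.leaf 302) (.leaf 207)) (.node (.leaf 169) (.leaf 336))) (.node (.node (.leaf 265) (.leaf 104)) (.leaf 319))) (.node (.node (.node (.leaf 296) (.leaf 200)) (.node (.leaf 410) (.leaf 268))) (.node (.node (.leaf 388) (.leaf 18)) (.leaf 85)))) (.node (.node (.node (.node (.leaf 57) (.leaf 269)) (.node (.leaf 334) (.leaf 260)))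 (.node (.node (.leaf 167) (.leaf 228)) (.leaf 415))) (.node (.node (.node (.leaf 354) (.leaf 328)) (.leaf 176)) (.node (.node (.leaf 352) (.leaf 49)) (.leaf 13)))))) (.node (.node (.node (.node (.node (.node (.leaf 408) (.leaf 380)) (.node (.leaf 171) (.leaf 322))) (.node (.node (.leaf 77) (.leaf 397)) (.leaf 304))) (.node (.node (.node (.leaf 118) (.leaf 262)) (.node (.leaf 7) (.leaf 33))) (.node (.node (.leaf 143) (.leaf 312)) (.leaf 181)))) (.node (.node (.node (.node (.leaf 122) (.leaf 94)) (.node (.leaf 243) (.leaf 55))) (.node (.node (.leaf 295) (.leaf 133)) (.leaf 158))) (.node (.node (.node (.leaf 76) (.leaf 53)) (.leaf 331)) (.node (.node (.leaf 153) (.leaf 11)) (.leaf 339))))) (.node (.node (.node (.node (.node (.leaf 403) (.leaf 21)) (.node (.leaf 412) (.leaf 426))) (.node (.node (.leaf 303) (.leaf 56)) (.leaf 297))) (.node (.node (.node (.leaf 179) (.leaf 144)) (.node (.leaf 198) (.leaf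 111))) (.node (.node (.leaf 84) (.leaf 105)) (.leaf 225)))) (.node (.node (.node (.node (.leaf 286) (.leaf 1)) (.node (.leaf 387) (.leaf 31))) (.node (.node (.leaf 9) (.leaf 121)) (.leaf 309))) (.node (.node (.node (.leaf 79) (.leaf 37)) (.leaf 102)) (.node (.node (.leaf 429) (.leaf 216)) (.leaf 383)))))))

/-- Data. -/
def quartetPos_4 : BT (ℕ) :=
  (.node (.node (.node (.node (.node (.node (.node (.leaf 66) (.leaf 91)) (.node (.leaf 149) (.leaf 164))) (.node (.node (.leaf 172) (.leaf 136)) (.leaf 29))) (.node (.node (.node (.leaf 234) (.leaf 40)) (.node (.leaf 242) (.leaf 28))) (.node (.node (.leaf 350) (.leaf 208)) (.leaf 152)))) (.node (.node (.node (.node (.leaf 170) (.leaf 318)) (.node (.leaf 120) (.leaf 338))) (.node (.node (.leaf 196) (.leaf 261)) (.leaf 395))) (.node (.node (.node (.leaf 272) (.leaf 326)) (.leaf 244)) (.node (.node (.leaf 431) (.leaf 399)) (.leaf 407))))) (.node (.node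 (.node (.node (.node (.leaf 69) (.leaf 231)) (.node (.leaf 82) (.leaf 313))) (.node (.node (.leaf 279) (.leaf 361)) (.leaf 391))) (.node (.node (.node (.leaf 70) (.leaf 418)) (.node (.leaf 346) (.leaf 107))) (.node (.node (.leaf 146) (.leaf 78)) (.leaf 405)))) (.node (.node (.node (.node (.leaf 344) (.leaf 99)) (.node (.leaf 205) (.leaf 416))) (.node (.node (.leaf 384) (.leaf 206)) (.leaf 123))) (.node (.node (.node (.leaf 283) (.leaf 258)) (.leaf 75)) (.node (.node (.leaf 341) (.leaf 306)) (.leaf 93)))))) (.node (.node (.node (.node (.node (.node (.leaf 108) (.leaf 204)) (.node (.leaf 197) (.leaf 311))) (.node (.node (.leaf 396) (.leaf 160)) (.leaf 369))) (.node (.node (.node (.leaf 337) (.leaf 430)) (.node (.leaf 100) (.leaf 366))) (.node (.node (.leaf 349) (.leaf 2)) (.leaf 162)))) (.node (.node (.node (.node (.leaf 299) (.leaf 73)) (.node (.leaf 113) (.leaf 368))) (.node (.node (.leaf 65) (.leaf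 98)) (.leaf 218))) (.node (.node (.node (.leaf 248) (.leaf 130)) (.leaf 46)) (.node (.node (.leaf 97) (.leaf 373)) (.leaf 39))))) (.node (.node (.node (.node (.node (.leaf 288) (.leaf 116)) (.node (.leaf 252) (.leaf 320))) (.node (.node (.leaf 389) (.leaf 221)) (.leaf 202))) (.node (.node (.node (.leaf 115) (.leaf 310)) (.node (.leaf 129) (.leaf 363))) (.node (.node (.leaf 177) (.leaf 30)) (.leaf 239)))) (.node (.node (.node (.node (.leaf 83) (.leaf 20)) (.node (.leaf 4) (.leaf 222))) (.node (.node (.leaf 353) (.leaf 359)) (.leaf 417))) (.node (.node (.node (.leaf 291) (.leaf 289)) (.leaf 5)) (.node (.node (.leaf 370) (.leaf 48)) (.leaf 175)))))))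

/-- Data. -/
def quartetPos_5 : BT (ℕ) :=
  (.node quartetPos_3 quartetPos_4)

/-- Data. -/
def quartetPos_6 : BT (ℕ) :=
  (.node quartetPos_2 quartetPos_5)

/-- Data. -/
def quartetPos : BT (ℕ) :=
  quartetPos_6

/-- Data. -/
def quartetImg_0 : BT (List ℕ) :=
  (.node (.node (.node (.node (.node (.node (.leaf [1,0,0,1]) (.leaf [2,1,0,2])) (.node (.leaf [1,1,2,1]) (.leaf [0,2,2,2]))) (.node (.node (.leaf [1,1,1,2]) (.leaf [2,1,2,2])) (.leaf [1,1,0,1]))) (.node (.node (.node (.leaf [1,1,2,1]) (.leaf [2,2,1,2])) (.node (.leaf [0,1,1,1]) (.leaf [2,0,2,2]))) (.node (.node (.leaf [1,1,0,1]) (.leaf [2,0,0,2])) (.leaf [1,2,0,2])))) (.node (.node (.node (.node (.leaf [1,1,1,0]) (.leaf [2,0,0,1])) (.node (.leaf [0,1,2,1]) (.leaf [2,0,0,1]))) (.node (.node (.leaf [1,1,0,2]) (.leaf [2,1,2,0])) (.leaf [2,1,2,0]))) (.node (.node (.node (.leaf [1,0,0,1]) (.leaf [0,1,2,1])) (.leaf [2,1,0,1])) (.node (.node (.leaf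 [1,1,0,1]) (.leaf [2,0,0,2])) (.leaf [1,0,0,1]))))) (.node (.node (.node (.node (.node (.leaf [1,0,1,1]) (.leaf [2,2,1,0])) (.node (.leaf [0,2,1,1]) (.leaf [0,2,2,2]))) (.node (.node (.leaf [1,0,1,2]) (.leaf [0,1,2,0])) (.leaf [2,2,1,0]))) (.node (.node (.node (.leaf [1,0,1,1]) (.leaf [2,1,0,2])) (.node (.leaf [1,2,2,2]) (.leaf [2,2,2,0]))) (.node (.node (.leaf [1,0,0,1]) (.leaf [2,0,1,1])) (.leaf [2,2,2,0])))) (.node (.node (.node (.node (.leaf [1,1,0,2]) (.leaf [2,0,1,2])) (.node (.leaf [2,1,2,2]) (.leaf [2,0,1,2]))) (.node (.node (.leaf [2,1,0,1]) (.leaf [1,2,2,2])) (.leaf [2,1,2,0]))) (.node (.node (.node (.leaf [1,2,0,1]) (.leaf [2,0,2,1])) (.leaf [1,2,2,2])) (.node (.node (.leaf [1,2,0,2]) (.leaf [2,2,1,0])) (.leaf [1,2,0,2]))))))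

/-- Data. -/
def quartetImg_1 : BT (List ℕ) :=
  (.node (.node (.node (.node (.node (.node (.leaf [0,1,1,1]) (.leaf [0,2,1,2])) (.node (.leaf [0,1,2,1]) (.leaf [1,0,2,2]))) (.node (.node (.leaf [1,2,2,0]) (.leaf [2,2,0,1])) (.leaf [1,2,2,2]))) (.node (.node (.node (.leaf [1,2,1,1]) (.leaf [2,2,0,2])) (.node (.leaf [1,2,2,0]) (.leaf [2,0,2,2]))) (.node (.node (.leaf [0,1,1,2]) (.leaf [2,2,2,0])) (.leaf [0,1,1,2])))) (.node (.node (.node (.node (.leaf [1,2,0,1]) (.leaf [1,2,1,1])) (.node (.leaf [0,1,2,1]) (.leaf [2,0,1,2]))) (.node (.node (.leaf [0,2,1,0]) (.leaf [1,2,2,0])) (.leaf [0,1,2,2]))) (.node (.node (.node (.leaf [1,1,1,0]) (.leaf [2,0,2,1])) (.leaf [1,1,1,2])) (.node (.node (.leaf [1,0,0,1]) (.leaf [0,1,2,0])) (.leaf [1,1,0,1]))))) (.node (.node (.node (.node (.node (.leaf [1,1,2,1]) (.leaf [1,1,2,0])) (.node (.leaf [0,2,1,1]) (.leaf [2,2,2,1]))) (.node (.node (.leaf [1,1,0,2]) (.leaf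 [1,2,2,0])) (.leaf [1,1,0,2]))) (.node (.node (.node (.leaf [1,1,2,1]) (.leaf [2,0,2,1])) (.node (.leaf [2,1,1,1]) (.leaf [0,2,1,2]))) (.node (.node (.leaf [2,1,1,0]) (.leaf [2,0,2,1])) (.leaf [2,2,0,2])))) (.node (.node (.node (.node (.leaf [1,0,1,1]) (.leaf [2,0,0,1])) (.node (.leaf [1,0,2,1]) (.leaf [2,0,2,2]))) (.node (.node (.leaf [0,1,1,2]) (.leaf [0,2,2,1])) (.leaf [2,0,0,2]))) (.node (.node (.node (.leaf [1,1,0,2]) (.leaf [1,0,0,2])) (.leaf [1,2,2,0])) (.node (.node (.leaf [0,1,1,1]) (.leaf [2,0,2,2])) (.leaf [2,2,1,2]))))))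

/-- Data. -/
def quartetImg_2 : BT (List ℕ) :=
  (.node quartetImg_0 quartetImg_1)

/-- Data. -/
def quartetImg_3 : BT (List ℕ) :=
  (.node (.node (.node (.node (.node (.node (.leaf [1,0,1,1]) (.leaf [2,0,2,1])) (.node (.leaf [2,1,0,2]) (.leaf [1,2,0,2]))) (.node (.node (.leaf [0,1,1,0]) (.leaf [0,1,2,0])) (.leaf [2,0,2,1]))) (.node (.node (.node (.leaf [1,1,0,1]) (.leaf [2,2,1,2])) (.node (.leaf [0,1,1,0]) (.leaf [1,2,0,2]))) (.node (.node (.leaf [1,2,1,1]) (.leaf [0,1,2,2])) (.leaf [0,1,2,2])))) (.node (.node (.node (.node (.leaf [0,1,1,1]) (.leaf [1,0,2,2])) (.node (.leaf [0,1,1,1]) (.leaf [2,2,2,0]))) (.node (.node (.leaf [2,1,2,0]) (.leaf [1,0,1,2])) (.leaf [0,2,1,0]))) (.node (.node (.node (.leaf [2,1,2,2]) (.leaf [2,2,1,0])) (.leaf [2,2,2,1])) (.node (.node (.leaf [1,1,2,0]) (.leaf [2,2,2,0])) (.leaf [0,2,1,1]))))) (.node (.node (.node (.node (.node (.leaf [0,1,1,2]) (.leaf [1,1,2,0]))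 (.node (.leaf [0,2,2,0]) (.leaf [2,0,1,2]))) (.node (.node (.leaf [1,1,1,0]) (.leaf [2,2,1,0])) (.leaf [2,2,0,1]))) (.node (.node (.node (.leaf [2,1,1,0]) (.leaf [0,2,1,1])) (.node (.leaf [2,1,0,1]) (.leaf [2,0,2,1]))) (.node (.node (.leaf [2,1,0,2]) (.leaf [0,2,1,2])) (.leaf [2,2,2,1])))) (.node (.node (.node (.node (.leaf [2,1,0,1]) (.leaf [0,2,2,0])) (.node (.leaf [1,1,1,2]) (.leaf [0,2,2,0]))) (.node (.node (.leaf [2,2,2,1]) (.leaf [0,1,2,2])) (.leaf [0,2,2,1]))) (.node (.node (.node (.leaf [1,0,2,1]) (.leaf [2,0,2,2])) (.leaf [1,2,2,0])) (.node (.node (.leaf [2,0,0,1]) (.leaf [2,2,0,1])) (.leaf [1,2,1,0]))))))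

/-- Data. -/
def quartetImg_4 : BT (List ℕ) :=
  (.node (.node (.node (.node (.node (.node (.leaf [1,0,2,1]) (.leaf [2,1,2,2])) (.node (.leaf [1,1,2,1]) (.leaf [0,2,2,2]))) (.node (.node (.leaf [1,2,0,1]) (.leaf [2,2,1,0])) (.leaf [1,0,1,2]))) (.node (.node (.node (.leaf [0,1,1,2]) (.leaf [1,2,0,1])) (.node (.leaf [1,2,0,1]) (.leaf [2,2,1,2]))) (.node (.node (.leaf [1,0,1,1]) (.leaf [1,2,2,0])) (.leaf [2,2,2,1])))) (.node (.node (.node (.node (.leaf [1,0,2,1]) (.leaf [1,2,0,2])) (.node (.leaf [2,2,0,1]) (.leaf [1,0,2,2]))) (.node (.node (.leaf [0,1,1,0]) (.leaf [2,0,0,2])) (.leaf [2,1,1,1]))) (.node (.node (.node (.leaf [0,1,1,1]) (.leaf [0,2,1,2])) (.leaf [2,0,1,1])) (.node (.node (.leaf [1,1,2,0]) (.leaf [1,0,1,2])) (.leaf [1,2,1,1]))))) (.node (.node (.node (.node (.node (.leaf [1,0,0,1]) (.leaf [1,2,0,2])) (.node (.leaf [1,0,0,2]) (.leaf [1,0,2,2]))) (.node (.node (.leaf [0,1,1,0]) (.leaf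 [1,2,0,1])) (.leaf [1,1,0,2]))) (.node (.node (.node (.leaf [0,2,1,1]) (.leaf [1,0,0,2])) (.node (.leaf [2,1,2,0]) (.leaf [2,2,1,0]))) (.node (.node (.leaf [0,1,2,1]) (.leaf [2,0,0,2])) (.leaf [1,1,2,0])))) (.node (.node (.node (.node (.leaf [0,1,1,2]) (.leaf [1,2,1,0])) (.node (.leaf [1,1,0,2]) (.leaf [0,2,1,2]))) (.node (.node (.leaf [1,1,2,1]) (.leaf [0,2,2,1])) (.leaf [0,2,1,0]))) (.node (.node (.node (.leaf [2,1,0,1]) (.leaf [0,2,1,2])) (.leaf [0,2,1,2])) (.node (.node (.leaf [1,0,2,2]) (.leaf [2,1,2,0])) (.leaf [2,1,2,2]))))))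

/-- Data. -/
def quartetImg_5 : BT (List ℕ) :=
  (.node quartetImg_3 quartetImg_4)

/-- Data. -/
def quartetImg_6 : BT (List ℕ) :=
  (.node quartetImg_2 quartetImg_5)

/-- Data. -/
def quartetImg_7 : BT (List ℕ) :=
  (.node (.node (.node (.node (.node (.node (.leaf [0,1,1,0]) (.leaf [0,2,2,0])) (.node (.leaf [1,1,2,1]) (.leaf [0,2,1,0]))) (.node (.node (.leaf [1,2,0,1]) (.leaf [2,2,0,1])) (.leaf [0,1,2,0]))) (.node (.node (.node (.leaf [2,1,1,0]) (.leaf [1,0,2,2])) (.node (.leaf [1,2,0,1]) (.leaf [2,0,1,2]))) (.node (.node (.leaf [0,1,1,2]) (.leaf [0,2,1,0])) (.leaf [2,1,0,1])))) (.node (.node (.node (.node (.leaf [1,0,2,1]) (.leaf [1,2,1,0])) (.node (.leaf [2,1,2,2]) (.leaf [2,2,0,2]))) (.node (.node (.leaf [0,2,2,1]) (.leaf [0,2,1,0])) (.leaf [1,1,0,2]))) (.node (.node (.node (.leaf [0,1,2,1]) (.leaf [0,1,2,0])) (.leaf [0,1,2,2])) (.node (.node (.leaf [1,2,1,1]) (.leaf [0,2,2,2])) (.leaf [2,1,0,2])))))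 (.node (.node (.node (.node (.node (.leaf [1,1,0,1]) (.leaf [1,2,1,1])) (.node (.leaf [2,1,0,2]) (.leaf [2,2,2,0]))) (.node (.node (.leaf [1,2,2,2]) (.leaf [2,0,2,2])) (.leaf [1,2,2,2]))) (.node (.node (.node (.leaf [1,1,2,1]) (.leaf [0,2,1,1])) (.node (.leaf [1,1,1,0]) (.leaf [2,2,0,2]))) (.node (.node (.leaf [1,1,2,1]) (.leaf [2,0,0,2])) (.leaf [2,0,0,1])))) (.node (.node (.node (.node (.leaf [1,0,2,1]) (.leaf [1,2,0,2])) (.node (.leaf [2,2,1,0]) (.leaf [2,2,1,2]))) (.node (.node (.leaf [0,1,2,2]) (.leaf [2,2,0,1])) (.leaf [0,2,1,0]))) (.node (.node (.node (.leaf [1,1,1,0]) (.leaf [0,2,2,0])) (.leaf [1,1,1,2])) (.node (.node (.leaf [1,1,2,0]) (.leaf [1,0,0,2])) (.leaf [2,0,0,1]))))))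

/-- Data. -/
def quartetImg_8 : BT (List ℕ) :=
  (.node (.node (.node (.node (.node (.node (.leaf [1,1,1,0]) (.leaf [0,1,2,1])) (.node (.leaf [2,1,2,2]) (.leaf [2,2,0,2]))) (.node (.node (.leaf [2,0,1,1]) (.leaf [0,1,2,0])) (.leaf [1,1,0,1]))) (.node (.node (.node (.leaf [1,1,2,0]) (.leaf [2,2,1,2])) (.node (.leaf [2,0,1,1]) (.leaf [2,0,2,2]))) (.node (.node (.leaf [1,2,1,0]) (.leaf [2,2,0,2])) (.leaf [0,1,2,2])))) (.node (.node (.node (.node (.leaf [1,1,1,0]) (.leaf [2,0,1,2])) (.node (.leaf [2,1,2,2]) (.leaf [2,0,0,1]))) (.node (.node (.leaf [2,1,0,1]) (.leaf [1,2,2,0])) (.leaf [2,2,2,1]))) (.node (.node (.node (.leaf [1,0,2,1]) (.leaf [1,0,0,2])) (.leaf [1,2,2,0])) (.node (.node (.leaf [1,2,1,1]) (.leaf [2,0,2,1])) (.leaf [1,2,1,0]))))) (.node (.node (.node (.node (.node (.leaf [2,1,1,0]) (.leaf [2,0,1,2])) (.node (.leaf [1,1,1,0]) (.leaf [2,2,2,0]))) (.node (.node (.leaf [2,1,0,1]) (.leaf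 [2,0,1,1])) (.leaf [2,1,1,1]))) (.node (.node (.node (.leaf [2,1,0,2]) (.leaf [0,2,1,1])) (.node (.leaf [0,2,2,1]) (.leaf [0,1,2,0]))) (.node (.node (.leaf [1,0,0,1]) (.leaf [1,0,1,2])) (.leaf [1,2,1,1])))) (.node (.node (.node (.node (.leaf [1,1,0,1]) (.leaf [2,0,0,1])) (.node (.leaf [2,1,1,1]) (.leaf [1,0,0,2]))) (.node (.node (.leaf [1,0,1,1]) (.leaf [2,1,2,0])) (.leaf [0,2,2,2]))) (.node (.node (.node (.leaf [1,0,2,1]) (.leaf [1,0,0,2])) (.leaf [2,0,0,2])) (.node (.node (.leaf [1,2,1,0]) (.leaf [0,2,2,1])) (.leaf [0,1,2,1]))))))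

/-- Data. -/
def quartetImg_9 : BT (List ℕ) :=
  (.node quartetImg_7 quartetImg_8)

/-- Data. -/
def quartetImg_10 : BT (List ℕ) :=
  (.node (.node (.node (.node (.node (.node (.leaf [1,0,0,1]) (.leaf [1,0,0,2])) (.node (.leaf [0,2,1,1]) (.leaf [0,1,2,2]))) (.node (.node (.leaf [1,1,1,2]) (.leaf [2,2,1,0])) (.leaf [1,0,1,2]))) (.node (.node (.node (.leaf [0,1,1,2]) (.leaf [1,0,2,2])) (.node (.leaf [1,1,1,2]) (.leaf [2,0,2,2]))) (.node (.node (.leaf [1,1,2,0]) (.leaf [2,2,2,1])) (.leaf [2,2,2,1])))) (.node (.node (.node (.node (.leaf [1,1,1,2]) (.leaf [2,2,1,2])) (.node (.leaf [1,1,1,0]) (.leaf [2,2,2,0]))) (.node (.node (.leaf [1,1,0,2]) (.leaf [1,2,2,2])) (.leaf [2,1,0,1]))) (.node (.node (.node (.leaf [0,1,1,1]) (.leaf [0,2,2,0])) (.leaf [1,1,1,2])) (.node (.node (.leaf [1,2,1,0]) (.leaf [0,1,2,0])) (.leaf [2,1,1,0]))))) (.node (.node (.node (.node (.node (.leaf [1,0,1,1]) (.leaf [1,2,1,1]))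 (.node (.leaf [2,0,2,1]) (.leaf [1,2,0,2]))) (.node (.node (.leaf [2,1,1,1]) (.leaf [0,2,2,2])) (.leaf [2,1,1,1]))) (.node (.node (.node (.leaf [1,0,0,1]) (.leaf [0,2,2,0])) (.node (.leaf [0,1,1,0]) (.leaf [1,0,0,2]))) (.node (.node (.leaf [0,2,1,1]) (.leaf [2,0,1,1])) (.leaf [2,1,1,0])))) (.node (.node (.node (.node (.leaf [0,1,1,0]) (.leaf [2,0,2,2])) (.node (.leaf [1,2,0,1]) (.leaf [0,2,2,0]))) (.node (.node (.leaf [1,1,0,1]) (.leaf [2,2,2,1])) (.leaf [2,1,2,0]))) (.node (.node (.node (.leaf [2,1,1,1]) (.leaf [2,2,0,2])) (.leaf [2,0,1,1])) (.node (.node (.leaf [1,2,1,0]) (.leaf [0,2,2,2])) (.leaf [1,0,2,2]))))))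

/-- Data. -/
def quartetImg_11 : BT (List ℕ) :=
  (.node (.node (.node (.node (.node (.node (.leaf [0,1,1,0]) (.leaf [2,2,0,1])) (.node (.leaf [2,1,0,2]) (.leaf [0,2,2,2]))) (.node (.node (.leaf [0,1,1,0]) (.leaf [2,2,0,1])) (.leaf [1,2,2,2]))) (.node (.node (.node (.leaf [1,2,1,0]) (.leaf [2,2,2,0])) (.node (.leaf [1,0,1,2]) (.leaf [2,2,0,2]))) (.node (.node (.leaf [2,1,1,0]) (.leaf [2,0,1,1])) (.leaf [0,1,2,2])))) (.node (.node (.node (.node (.leaf [2,1,1,1]) (.leaf [2,0,0,1])) (.node (.leaf [0,1,2,0]) (.leaf [2,2,1,2]))) (.node (.node (.leaf [1,0,1,1]) (.leaf [1,0,1,2])) (.leaf [0,2,2,1]))) (.node (.node (.node (.leaf [1,1,1,2]) (.leaf [0,2,2,0])) (.leaf [1,0,1,2])) (.node (.node (.leaf [2,0,1,2]) (.leaf [1,2,2,2])) (.leaf [2,0,1,2]))))) (.node (.node (.node (.node (.node (.leaf [0,1,1,1]) (.leaf [1,1,2,0])) (.node (.leaf [0,2,1,2]) (.leaf [2,2,0,2]))) (.node (.node (.leaf [2,1,1,1]) (.leaf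 [0,2,2,1])) (.leaf [0,2,2,1]))) (.node (.node (.node (.leaf [2,1,1,0]) (.leaf [0,2,1,2])) (.node (.leaf [0,2,1,0]) (.leaf [0,2,2,2]))) (.node (.node (.leaf [2,1,2,2]) (.leaf [2,0,0,2])) (.leaf [0,1,1,2])))) (.node (.node (.node (.node (.leaf [1,0,1,1]) (.leaf [1,0,2,2])) (.node (.leaf [1,0,2,1]) (.leaf [2,2,0,1]))) (.node (.node (.leaf [2,1,1,0]) (.leaf [2,1,2,0])) (.leaf [0,2,1,0]))) (.node (.node (.node (.leaf [0,1,1,1]) (.leaf [0,1,2,1])) (.leaf [2,0,1,1])) (.node (.node (.leaf [2,2,1,2]) (.leaf [2,0,0,2])) (.leaf [2,1,0,2]))))))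

/-- Data. -/
def quartetImg_12 : BT (List ℕ) :=
  (.node quartetImg_10 quartetImg_11)

/-- Data. -/
def quartetImg_13 : BT (List ℕ) :=
  (.node quartetImg_9 quartetImg_12)

/-- Data. -/
def quartetImg_14 : BT (List ℕ) :=
  (.node quartetImg_6 quartetImg_13)

/-- Data. -/
def quartetImg : BT (List ℕ) :=
  quartetImg_14

/-- The certificate. -/
def certQ : Cert where
  n := 432
  gens := [
  [18,3,13,2,4,19,8,22,6,16,7,17,9,0,14,11,12,15,1,10,21,20,23,5],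
  [0,1,2,12,3,19,18,7,13,8,10,23,4,9,20,5,6,17,16,15,21,14,11,22]]
  elt := quartetElt
  par := quartetPar
  mul := [quartetMulA, quartetMulB]
  ord := quartetOrd
  pos := quartetPos

end CfsgLib.MathieuIso
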